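import Mathlib
import Cfsg.Agent.H1.FuDefs

/-!
Two commuting quaternion groups with the same centre, and an element acting on one of them as an
automorphism of order three.
-/

set_option autoImplicit false

namespace Cfsg.Agent.H43.FX

open Subgroup QuaternionGroup Cfsg.Agent.H1.FU

abbrev Q8 : Type := QuaternionGroup 2

variable {X Y : Type*} [Group X] [Group Y]

/-- The relations of the quaternion group. -/
structure QR (u v : X) : Prop where
  four : u * u * (u * u) = 1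
  sq : v * v = u * u
  inv : v * u * v⁻¹ = u⁻¹

theorem QR.add {u v : X} (h : QR u v) (i j : ZMod (2 * 2)) :
    u ^ (i + j).val = u ^ i.val * u ^ j.val := by
  have : u ^ (2 * 2) = 1 := by rw [← h.four]; simp only [pow_succ, pow_zero, one_mul, mul_assoc]
  rw [ZMod.val_add, ← pow_add, ← pow_eq_pow_mod _ this]

theorem QR.neg {u v : X} (h : QR u v) (i : ZMod (2 * 2)) : u ^ i.val * v = v * u ^ (-i).val := by
  have e : u ^ (-i).val = (u ^ i.val)⁻¹ := by
    rw [eq_inv_iff_mul_eq_one, ← h.add, neg_add_cancel, ZMod.val_zero, pow_zero]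
  have f : v * (u ^ i.val)⁻¹ * v⁻¹ = u ^ i.val := by rw [conj_inv.symm, ← conj_pow, h.inv, inv_pow, inv_inv]
  rw [e, ← f]
  nth_rewrite 2 [f]
  group

/-- The homomorphism from the quaternion group. -/
def QR.lift {u v : X} (h : QR u v) : Q8 →* X := MonoidHom.mk'
  (fun q => match q with
    | a i => u ^ i.val
    | xa i => v * u ^ i.val) (by
  rintro (i | i) (j | j)
  · exact h.add i j
  · change v * u ^ (j - i).val = u ^ i.val * (v * u ^ j.val)
    rw [← mul_assoc, h.neg, mul_assoc, ← h.add, sub_eq_neg_add]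
  · change v * u ^ (i + j).val = v * u ^ i.val * u ^ j.val
    rw [h.add, mul_assoc]
  · change u ^ ((2 : ℕ) + j - i : ZMod (2 * 2)).val = v * u ^ i.val * (v * u ^ j.val)
    rw [mul_assoc, ← mul_assoc _ v, h.neg, mul_assoc, ← h.add, ← mul_assoc, h.sq,
      show ((2 : ℕ) + j - i : ZMod (2 * 2)) = 2 + (-i + j) by push_cast; ring, h.add]
    exact congrArg (· * _) (pow_two u))

theorem QR.lift_a {u v : X} (h : QR u v) : h.lift (a 1) = u := pow_one u

theorem QR.lift_x {u v : X} (h : QR u v) : h.lift (xa 0) = v :=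
  (congrArg (v * ·) (pow_zero u)).trans (mul_one v)

theorem QR.lift_z {u v : X} (h : QR u v) : h.lift (a 2) = u * u := pow_two u

theorem mem_of_gens {H : Subgroup Q8} (h1 : a 1 ∈ H) (h2 : xa 0 ∈ H) (q : Q8) : q ∈ H := by
  rcases (by decide : ∀ q : Q8, ∃ i : Fin 4, q = a 1 ^ i.1 ∨ q = xa 0 * a 1 ^ i.1) q with
    ⟨i, rfl | rfl⟩
  · exact pow_mem h1 _
  · exact mul_mem h2 (pow_mem h1 _)

theorem QR.comm {u v x : X} (h : QR u v) (h1 : Commute x u) (h2 : Commute x v) (q : Q8) :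
    Commute x (h.lift q) :=
  (mem_centralizer_singleton_iff.1 (mem_of_gens (H := (centralizer {x}).comap h.lift)
    (mem_centralizer_singleton_iff.2 (h.lift_a.symm ▸ h1.symm))
    (mem_centralizer_singleton_iff.2 (h.lift_x.symm ▸ h2.symm)) q)).symm

theorem qr0 : QR (xa 0 : Q8) (a 1 * xa 0) := ⟨by decide, by decide, by decide⟩

/-- The automorphism of order three. -/
def sg : Q8 →* Q8 := qr0.lift

/-- The configuration. -/
structure Cf (u v c e y : X) : Prop where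
  q1 : QR u v
  q2 : QR c e
  ne : u * u ≠ 1
  zz : c * c = u * u
  cu : Commute c u
  cv : Commute c v
  eu : Commute e u
  ev : Commute e v
  yu : y * u * y⁻¹ = v
  yv : y * v * y⁻¹ = u * v
  yc : y * c * y⁻¹ = c
  ye : y * e * y⁻¹ = e

theorem QR.map {u v : X} (h : QR u v) (f : X →* Y) : QR (f u) (f v) :=
  ⟨by simpa using congrArg f h.four, by simpa using congrArg f h.sq, by simpa using congrArg f h.inv⟩

theorem QR.of_map {u v : X} {f : X →* Y} (hf : Function.Injective f) (h : QR (f u) (f v)) : QR u v :=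
  ⟨hf (by simpa using h.four), hf (by simpa using h.sq), hf (by simpa using h.inv)⟩

namespace Cf

variable {u v c e y : X} (h : Cf u v c e y)

include h

theorem map {f : X →* Y} (hf : Function.Injective f) : Cf (f u) (f v) (f c) (f e) (f y) :=
  ⟨h.q1.map f, h.q2.map f, fun k => h.ne (hf (by simpa using k)), by simpa using congrArg f h.zz,
    h.cu.map f, h.cv.map f, h.eu.map f, h.ev.map f, by simpa using congrArg f h.yu,
    by simpa using congrArg f h.yv, by simpa using congrArg f h.yc, by simpa using congrArg f h.ye⟩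

theorem comm (q r : Q8) : Commute (h.q1.lift q) (h.q2.lift r) :=
  h.q2.comm (h.q1.comm h.cu h.cv q).symm (h.q1.comm h.eu h.ev q).symm r

theorem act (q : Q8) : y * h.q1.lift q * y⁻¹ = h.q1.lift (sg q) :=
  mem_of_gens (H := ((MulAut.conj y).toMonoidHom.comp h.q1.lift).eqLocus (h.q1.lift.comp sg))
    (by
      change y * h.q1.lift (a 1) * y⁻¹ = h.q1.lift (qr0.lift (a 1))
      rw [QR.lift_a, QR.lift_a, QR.lift_x, h.yu])
    (by
      change y * h.q1.lift (xa 0) * y⁻¹ = h.q1.lift (qr0.lift (xa 0))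
      rw [QR.lift_x, QR.lift_x, map_mul, QR.lift_x, QR.lift_a, h.yv]) q

theorem act_pow (k : ℕ) (q : Q8) : y ^ k * h.q1.lift q * (y ^ k)⁻¹ = h.q1.lift (sg^[k] q) := by
  induction k with
  | zero => simp
  | succ k ih => rw [Function.iterate_succ_apply', ← h.act, ← ih, pow_succ']; group

theorem ycomm (r : Q8) : Commute y (h.q2.lift r) :=
  h.q2.comm (mul_inv_eq_iff_eq_mul.1 h.yc) (mul_inv_eq_iff_eq_mul.1 h.ye) r

theorem two : ∃ P : Subgroup X, IsPGroup 2 P ∧ u ∈ P ∧ v ∈ P ∧ c ∈ P ∧ e ∈ P := by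
  have : IsPGroup 2 (Q8 × Q8) := IsPGroup.of_card (n := 6) (by
    rw [Nat.card_prod, Nat.card_eq_fintype_card, QuaternionGroup.card]; rfl)
  let f := h.q1.lift.noncommCoprod h.q2.lift h.comm
  exact ⟨f.range, this.of_surjective _ f.rangeRestrict_surjective,
    ⟨(a 1, 1), by simp [f, QR.lift_a]⟩, ⟨(xa 0, 1), by simp [f, QR.lift_x]⟩,
    ⟨(1, a 1), by simp [f, QR.lift_a]⟩, ⟨(1, xa 0), by simp [f, QR.lift_x]⟩⟩

end Cf

theorem fact1 : ∀ i j : Fin 3, i ≠ j → ∀ x q : Q8, q * q = a 2 → ∃ r, sg^[i.1] r = q ∧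
    x * sg^[j.1] r * x⁻¹ * q⁻¹ * (x * sg^[j.1] r * x⁻¹ * q⁻¹) = a 2 := by decide +kernel

theorem fact2 : ∀ i j : Fin 3, i ≠ j → (![1, a 1, xa 0] i : Q8)⁻¹ * ![1, a 1, xa 0] j *
    ((![1, a 1, xa 0] i : Q8)⁻¹ * ![1, a 1, xa 0] j) = a 2 := by decide +kernel

theorem fact3 : ∀ q : Q8, (q = 1 ∨ q = a 2 ∨ q * q = a 2) ∧ (q * q = 1 ∨ q * q = a 2) ∧
    q * a 2 = a 2 * q := by decide +kernel

/-- The configuration does not occur in degree at most 23. -/
theorem no_perm {Ω : Type*} (D : Finset Ω) (hD : D.card ≤ 23) {u v c e y : Equiv.Perm Ω}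
    (h : Cf u v c e y) (hz : ∀ p, (u * u) p ≠ p → p ∈ D) : False := by
  classical
  have z2 : h.q2.lift (a 2) = u * u := h.q2.lift_z.trans h.zz
  have mv : ∀ {t : Equiv.Perm Ω} {p : Ω}, Commute t (u * u) → (u * u) p ≠ p →
      (u * u) (t p) ≠ t p := fun {t p} k hp f => hp (t.injective (by
    rw [← Equiv.Perm.mul_apply, k.eq, Equiv.Perm.mul_apply, f]))
  have c1 : ∀ q, Commute (h.q1.lift q) (u * u) := fun q => z2 ▸ h.comm q _
  have sqz : ∀ {t : Equiv.Perm Ω} {p : Ω}, (u * u) p ≠ p → t p = p → t * t ≠ u * u :=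
    fun {t p} hp f k => hp (by rw [← k, Equiv.Perm.mul_apply, f, f])
  have pig : ∀ (t : Fin 3 → Equiv.Perm Ω) (p : Ω), (∀ i, Commute (t i) (u * u)) → (u * u) p ≠ p →
      ∃ i j q, i ≠ j ∧ (h.q1.lift q * t j) p = t i p := by
    intro t p ht hp
    obtain ⟨⟨i, q⟩, -, ⟨j, r⟩, -, hne, f⟩ := Finset.exists_ne_map_eq_of_card_lt_of_maps_to
      (s := Finset.univ) (t := D) (f := fun x : Fin 3 × Q8 => h.q1.lift x.2 (t x.1 p))
      (by rw [Finset.card_univ, Fintype.card_prod, QuaternionGroup.card, Fintype.card_fin]; omega)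
      fun x _ => hz _ (mv (c1 _) (mv (ht _) hp))
    have f' : (h.q1.lift (q⁻¹ * r) * t j) p = t i p := by
      simp only at f
      rw [map_mul, map_inv, Equiv.Perm.mul_apply, Equiv.Perm.mul_apply, ← f]
      simp
    refine ⟨i, j, _, ?_, f'⟩
    rintro rfl
    rcases (fact3 (q⁻¹ * r)).1 with k | k | k
    · exact hne (by rw [inv_mul_eq_one.1 k])
    · rw [k, h.q1.lift_z] at f'
      exact mv (ht i) hp f'
    · exact sqz (mv (ht i) hp) f' (by rw [← map_mul, k, h.q1.lift_z])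
  obtain ⟨p, hp⟩ : ∃ p, (u * u) p ≠ p := by
    by_contra k
    push Not at k
    exact h.ne (Equiv.ext k)
  have yz : ∀ k : ℕ, Commute (y ^ k) (u * u) := fun k => (z2 ▸ h.ycomm _ : Commute y _).pow_left k
  obtain ⟨i, j, x, hij, f⟩ := pig (fun i => y ^ i.1) p (fun i => yz _) hp
  have hp' := mv (yz i.1) hp
  have f1 : (h.q1.lift x * y ^ j.1 * (y ^ i.1)⁻¹) ((y ^ i.1) p) = (y ^ i.1) p := by
    rw [← Equiv.Perm.mul_apply, inv_mul_cancel_right, f]
  generalize (y ^ i.1) p = p' at hp' f1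
  obtain ⟨k, l, q, hkl, g⟩ := pig (fun i => h.q2.lift (![1, a 1, xa 0] i)) p'
    (fun i => z2 ▸ Commute.map (fact3 _).2.2 _) hp'
  have w2 := fact2 k l hkl
  have g1 : (h.q1.lift q * h.q2.lift ((![1, a 1, xa 0] k)⁻¹ * ![1, a 1, xa 0] l)) p' = p' := by
    rw [map_mul, ← mul_assoc, (h.comm _ _).eq, mul_assoc, Equiv.Perm.mul_apply, g, map_inv,
      ← Equiv.Perm.mul_apply, inv_mul_cancel, Equiv.Perm.one_apply]
  generalize (![1, a 1, xa 0] k : Q8)⁻¹ * ![1, a 1, xa 0] l = w at w2 g1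
  have q2 : q * q = a 2 := (fact3 q).2.1.resolve_left fun k => sqz hp' g1 (by
    rw [← sq, (h.comm _ _).mul_pow, sq, sq, ← map_mul, ← map_mul, k, w2, z2, map_one, one_mul])
  obtain ⟨r, e1, e2⟩ := fact1 i j hij x q q2
  have e3 : h.q1.lift x * y ^ j.1 * (y ^ i.1)⁻¹ * h.q1.lift q *
      (h.q1.lift x * y ^ j.1 * (y ^ i.1)⁻¹)⁻¹ = h.q1.lift (x * sg^[j.1] r * x⁻¹) := by
    rw [← e1, map_mul, map_mul, map_inv, ← h.act_pow, ← h.act_pow]
    group
  have e4 : Commute (h.q1.lift x * y ^ j.1 * (y ^ i.1)⁻¹) (h.q2.lift w) :=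
    ((h.comm _ _).mul_left ((h.ycomm _).pow_left _)).mul_left ((h.ycomm _).pow_left _).inv_left
  generalize h.q1.lift x * y ^ j.1 * (y ^ i.1)⁻¹ = s at f1 e3 e4
  refine sqz (t := h.q1.lift (x * sg^[j.1] r * x⁻¹ * q⁻¹)) hp' ?_
    (by rw [← map_mul, e2, h.q1.lift_z])
  rw [map_mul, map_inv, ← e3, show s * h.q1.lift q * s⁻¹ * (h.q1.lift q)⁻¹ =
    s * (h.q1.lift q * h.q2.lift w) * (s * h.q2.lift w)⁻¹ * (h.q1.lift q)⁻¹ by group, e4.eq,
    show s * (h.q1.lift q * h.q2.lift w) * (h.q2.lift w * s)⁻¹ * (h.q1.lift q)⁻¹ =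
      s * (h.q1.lift q * h.q2.lift w) * s⁻¹ * (h.q1.lift q * h.q2.lift w)⁻¹ by
      rw [mul_inv_rev (h.q1.lift q)]; group]
  generalize h.q1.lift q * h.q2.lift w = t at g1
  have := mul_mem (mul_mem (mul_mem (show s ∈ MulAction.stabilizer _ p' from f1)
    (show t ∈ MulAction.stabilizer _ p' from g1)) (inv_mem (show s ∈ MulAction.stabilizer _ p' from f1)))
    (inv_mem (show t ∈ MulAction.stabilizer _ p' from g1))
  exact this

/-- Transport along a fusion equivalence. -/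
theorem transport {G L : Type*} [Group G] [Group L] [Finite L] {S : Subgroup G} {β : S →* L}
    (h : ME S.subtype β) {u v c e y : L} (k : Cf u v c e y) :
    ∃ (u' v' c' e' : S) (y' : G) (g : L), Cf (u' : G) v' c' e' y' ∧ β u' = g * u * g⁻¹ := by
  obtain ⟨P, hP, m1, m2, m3, m4⟩ := k.two
  obtain ⟨T', hT'⟩ := hP.exists_le_sylow
  obtain ⟨T, hT⟩ := h.syl2
  obtain ⟨g, hg⟩ := MulAction.exists_smul_eq L T' T
  have m : ∀ x ∈ P, ∃ s, β s = (MulAut.conj g).toMonoidHom x := fun x hx => by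
    have : g * x * g⁻¹ ∈ (T : Subgroup L) := hg ▸ ⟨x, hT' hx, rfl⟩
    rwa [hT] at this
  obtain ⟨u', e1⟩ := m u m1
  obtain ⟨v', e2⟩ := m v m2
  obtain ⟨c', e3⟩ := m c m3
  obtain ⟨e', e4⟩ := m e m4
  have k' := k.map (f := (MulAut.conj g).toMonoidHom) (MulAut.conj g).injective
  refine (fun ⟨y', _, hy⟩ => ⟨u', v', c', e', y', g, ?_, e1⟩ :
    Cj ⊤ S.subtype {(u', v'), (v', u' * v'), (c', c'), (e', e')} → _) ((h.fus _).2 ⟨(MulAut.conj g).toMonoidHom y, mem_top _, ?_⟩)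
  · rw [← e1, ← e2, ← e3, ← e4] at k'
    have cm : ∀ {s t : S}, Commute (β s) (β t) → Commute (s : G) t := fun f =>
      (Commute.of_map h.inj2 f).map S.subtype
    exact ⟨(k'.q1.of_map h.inj2).map S.subtype, (k'.q2.of_map h.inj2).map S.subtype,
      fun f => k'.ne (by rw [← map_mul, show u' * u' = 1 from Subtype.ext f, map_one]),
      congrArg Subtype.val (h.inj2 (a₁ := c' * c') (a₂ := u' * u') (by simpa using k'.zz)),
      cm k'.cu, cm k'.cv, cm k'.eu, cm k'.ev, (hy (u', v') (by simp)).symm,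
      (hy (v', u' * v') (by simp)).symm, (hy (c', c') (by simp)).symm, (hy (e', e') (by simp)).symm⟩
  · rw [← e1, ← e2, ← e3, ← e4] at k'
    rintro _ (rfl | rfl | rfl | rfl)
    exacts [k'.yu.symm, (map_mul β _ _).trans k'.yv.symm, k'.yc.symm, k'.ye.symm]

end Cfsg.Agent.H43.FX
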