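import Mathlib
import Cfsg.Agent.H43.Cent
import Cfsg.Agent.H43.Co3M

set_option autoImplicit false
set_option maxRecDepth 200000
set_option linter.style.longLine false

namespace Cfsg.Agent.H43.Co3O

open Cfsg.Agent.H43

theorem hn : NOk 276 := by decide

theorem hk : 276 ≤ 2 ^ 9 := by decide

noncomputable def V1 : List Net := [Co3M.g3, Co3M.g4, Co3M.g7, Co3M.g8, Co3M.g11, Co3M.g12, Co3M.g15, Co3M.g16, Co3M.g17, Co3M.g20, Co3M.g21]

theorem V1_ok : okE 276 V1 = true := (okE_cons.2 ⟨Co3M.g3_ok, (okE_cons.2 ⟨Co3M.g4_ok, (okE_cons.2 ⟨Co3M.g7_ok, (okE_cons.2 ⟨Co3M.g8_ok, (okE_cons.2 ⟨Co3M.g11_ok, (okE_cons.2 ⟨Co3M.g12_ok, (okE_cons.2 ⟨Co3M.g15_ok, (okE_cons.2 ⟨Co3M.g16_ok, (okE_cons.2 ⟨Co3M.g17_ok, (okE_cons.2 ⟨Co3M.g20_ok, (okE_cons.2 ⟨Co3M.g21_ok, (okE_nil 276)⟩)⟩)⟩)⟩)⟩)⟩)⟩)⟩)⟩)⟩)⟩)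

noncomputable def g2 : Net := (Net.cons (nat_lit 1) (nat_lit 0x140004100400410450504540501044155001151440151440104150100141155011514) (Net.cons (nat_lit 2) (nat_lit 0x203330322303020021133222202202020221303011112233103310123233231220000) (Net.cons (nat_lit 4) (nat_lit 0x50b0b0004090a0f0c0706020903050c030404060f000d00020a0e05030c0902000a) (Net.cons (nat_lit 8) (nat_lit 0xc4002e0005008700450076007f000600e400db00e0000e001e00c9008d00000002) (Net.cons (nat_lit 16) (nat_lit 0x70000b755000097890000a41c0000c62700001eb60000d4130000210c00006470) (Net.cons (nat_lit 32) (nat_lit 0x4470933e000000009a91fbd50000000099fe0ed200000000000482c7) (Net.cons (nat_lit 64) (nat_lit 0x1368a2c12424df3200000000000000000000000000018284) (Net.cons (nat_lit 128) (nat_lit 0xcf05c8d66cab0395f9ca770c26c9332) (Net.cons (nat_lit 256) (nat_lit 0xff7f7) (Net.cons (nat_lit 128) (nat_lit 515176) (Net.cons (nat_lit 64) (nat_lit 0x2a4105fb42b913b70000000000000000ac840a805daa24eb)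 (Net.cons (nat_lit 32) (nat_lit 0xcec085d90000000080d73b58000000000c230958000000007b6337bf) (Net.cons (nat_lit 16) (nat_lit 0x700008af70000c8990000167c000058ae00002dd90000f6920000d24b00002f5c) (Net.cons (nat_lit 8) (nat_lit 0xc90057002a00f7002800c200cb00b60030006d00b400aa00bf00eb0080002d00ae) (Net.cons (nat_lit 4) (nat_lit 0x109080705090d03020c060f0d050b09020602060f000304020e0b08030e000a0206) (Net.cons (nat_lit 2) (nat_lit 0x111000122213231323222233131212313312311233312220003030030113032210000) (Net.cons (nat_lit 1) (nat_lit 0x144554454501045114540044501005010040550545451501541055441405041510010) Net.nil)))))))))))))))))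

theorem g2_ok : Net.ok 276 g2 = true := by decide +kernel

noncomputable def g3 : Net := (Net.cons (nat_lit 1) (nat_lit 0x544410551414044055104105500554040444550101151041105154401405000015040) (Net.cons (nat_lit 2) (nat_lit 0x111002112120021312031300011021331022132221111222103203331313212011100) (Net.cons (nat_lit 4) (nat_lit 0x20a05080b03060d070e0002060206000f000d0a05000a020508040d070401000906) (Net.cons (nat_lit 8) (nat_lit 0x3b00b00042007a004800f2003a00a500cd00d000d1004200ce0005003b00520009) (Net.cons (nat_lit 16) (nat_lit 0x300001bc40000235c00001a9e00002a2a00008a2b000077840000872a000010c0) (Net.cons (nat_lit 32) (nat_lit 0xa724e42a00000000227340a80000000007a04c7500000000000d9237) (Net.cons (nat_lit 64) (nat_lit 0x592848010c6823020000000000000000000000000002d40a) (Net.cons (nat_lit 128) (nat_lit 0xf2f4924418193f0d8d0ff9c7766541b1) (Net.cons (nat_lit 256) (nat_lit 0xff7ff) (Net.cons (nat_lit 128) (nat_lit 361742) (Net.cons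 (nat_lit 64) (nat_lit 0x1992c78486a0ce210000000000000000634fbaa4c6ca16db) (Net.cons (nat_lit 32) (nat_lit 0x2dd67069000000007f0651450000000081ef3d4a0000000023ebb20b) (Net.cons (nat_lit 16) (nat_lit 0x70000d6c00000be8e0000ff430000121b0000f60100009d5000008d2b000028e2) (Net.cons (nat_lit 8) (nat_lit 0xe1003a002900b600f5003300c4002b00e0002f0070007d002c00420035009200d5) (Net.cons (nat_lit 4) (nat_lit 0x408090102030b010b0c0a0a040706000b0c0e0c0f0b04090b040c050d00070e0008) (Net.cons (nat_lit 2) (nat_lit 0x233001231023312312101030232130132032003110123033102322031003012110312) (Net.cons (nat_lit 1) (nat_lit 0x115440441550015011040510040500011450551410545011011551051154054450140) Net.nil)))))))))))))))))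

theorem g3_ok : Net.ok 276 g3 = true := by decide +kernel

noncomputable def fix_P5 : List Net := [g2, g3]

theorem fix_P5_ok : okE 276 fix_P5 = true := (okE_cons.2 ⟨g2_ok, (okE_cons.2 ⟨g3_ok, (okE_nil 276)⟩)⟩)

noncomputable def V4 : List Net := [g2]

theorem V4_ok : okE 276 V4 = true := (okE_cons.2 ⟨g2_ok, (okE_nil 276)⟩)

noncomputable def g6 : Net := (Net.cons (nat_lit 1) (nat_lit 0x450041440044004005454455514441054541000104500045415555441444054055100) (Net.cons (nat_lit 2) (nat_lit 0x202213111002231312210132132102203013023321103023120103313102113100100) (Net.cons (nat_lit 4) (nat_lit 0x30e0000040c05040b0703050506080b0603000c0e0806010b000602040106090801) (Net.cons (nat_lit 8) (nat_lit 0x7a00b2001e004800810042000a00a9004d003100850000006c00f7007400620000) (Net.cons (nat_lit 16) (nat_lit 0xf92000057c400008be60000cb7300005fa100004081000008450000c710) (Net.cons (nat_lit 32) (nat_lit 0x8142a27300000000eb53929f0000000030a1111e000000000008e0df)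 (Net.cons (nat_lit 64) (nat_lit 0x1080914c9108d65100000000000000000000000000019951) (Net.cons (nat_lit 128) (nat_lit 0xe3eb9c9fdd6e14d0b03b03610a60d68f) (Net.cons (nat_lit 256) (nat_lit 655327) (Net.cons (nat_lit 128) (nat_lit 14348) (Net.cons (nat_lit 64) (nat_lit 0xbeb1c45267042c6900000000000000009e566538b5a57514) (Net.cons (nat_lit 32) (nat_lit 0xeade027f00000000b2e5bcac0000000090f85b4100000000a8af94fe) (Net.cons (nat_lit 16) (nat_lit 0xb00004a66000010430000fb960000fcc30000b37a000033d70000880000008a79) (Net.cons (nat_lit 8) (nat_lit 0x7e0087001300bc00f5001c00960033000d007100b1008f00f300be0073002e00c9) (Net.cons (nat_lit 4) (nat_lit 0xf0605020e09090002060c0507050c0a0d08060d070c00050a09090c010207020b09) (Net.cons (nat_lit 2) (nat_lit 0x123010331021200312003031311233300021200233120332300202203311101203010) (Net.cons (nat_lit 1) (nat_lit 0x401050151115444101445150451015044414115405115545000141514141150040540) Net.nil)))))))))))))))))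

theorem g6_ok : Net.ok 276 g6 = true := by decide +kernel

noncomputable def g7 : Net := (Net.cons (nat_lit 1) (nat_lit 0x510410115055514404414410015444155545010140501514154401415414004450110) (Net.cons (nat_lit 2) (nat_lit 0x111232002311302111031330221300001103022333133312020103320120020203020) (Net.cons (nat_lit 4) (nat_lit 0xd060c0008030207010604080600000a0e06030a040909050d050b0c050101000204) (Net.cons (nat_lit 8) (nat_lit 0xe400d300d500af008a001d00c000dd0028009d004c0030006600b0001a00030004) (Net.cons (nat_lit 16) (nat_lit 0x7000088140000d9de0000d203000001180000854700006ee90000049b0000cf00) (Net.cons (nat_lit 32) (nat_lit 0xc02d5bfa0000000040406b68000000006122609c00000000000a8824) (Net.cons (nat_lit 64) (nat_lit 0x8a10800925c80f2900000000000000000000000000052417) (Net.cons (nat_lit 128) (nat_lit 0x9e67f081d627b298403e799cbbfc6b5d) (Net.cons (nat_lit 256) (nat_lit 0xfff7f) (Net.cons (nat_lit 128) (nat_lit 524024) (Net.cons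 (nat_lit 64) (nat_lit 0xa65d4693f966804c0000000000000000e8b9cdbedf443533) (Net.cons (nat_lit 32) (nat_lit 0x9d41f75000000000f2a4562500000000f800293800000000b23c1830) (Net.cons (nat_lit 16) (nat_lit 0xe000065eb0000d98a00009d670000969a0000359f00003bcc0000d10e0000508c) (Net.cons (nat_lit 8) (nat_lit 0xf300bc0016005c00ac00ea00cb0055008e007800850078009f004e006a001b00b8) (Net.cons (nat_lit 4) (nat_lit 0x90b0c040e010c040a0607080f07000c020f03060f080e07040802060b030b0e0204) (Net.cons (nat_lit 2) (nat_lit 0x221312110202200203320220021233001122230020233332230022313210003322010) (Net.cons (nat_lit 1) (nat_lit 0x150551505514004101040444510105410404405104414455410055504015111545110) Net.nil)))))))))))))))))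

theorem g7_ok : Net.ok 276 g7 = true := by decide +kernel

noncomputable def V8 : List Net := [g6, g7]

theorem V8_ok : okE 276 V8 = true := (okE_cons.2 ⟨g6_ok, (okE_cons.2 ⟨g7_ok, (okE_nil 276)⟩)⟩)

noncomputable def g10 : Net := (Net.cons (nat_lit 1) (nat_lit 0x150551505514005101040444510105410404405104414455410045504015111544110) (Net.cons (nat_lit 2) (nat_lit 0x330203023113313110031133310302110233303331322203103133000103310233100) (Net.cons (nat_lit 4) (nat_lit 0x20e0d01090c0d090a0f03060907080106030a0f0f080907010800070a0e00030001) (Net.cons (nat_lit 8) (nat_lit 0x48000700e100f700950054005200c900af0090002b00dc00ed0005009a00600000) (Net.cons (nat_lit 16) (nat_lit 0x80000fb3d0000281700006508000045d70000c552000064f20000d89c00009a00) (Net.cons (nat_lit 32) (nat_lit 0x237060bc00000000b0977b9300000000a040c8320000000000062207) (Net.cons (nat_lit 64) (nat_lit 0x32114000d0348950000000000000000000000000004612d) (Net.cons (nat_lit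 128) (nat_lit 0xcbc5f2637c5accb384e8ce597166bff1) (Net.cons (nat_lit 256) (nat_lit 524287) (Net.cons (nat_lit 128) (nat_lit 629887) (Net.cons (nat_lit 64) (nat_lit 0x6ad15df0b2028b4e0000000000000000b68d8bc19fdf0d21) (Net.cons (nat_lit 32) (nat_lit 0x58448c9f00000000e600793a000000005e41903e00000000b2a526ce) (Net.cons (nat_lit 16) (nat_lit 0xe00008ed000001a100000ac5d00008c190000c3a60000f1ff00009d5100003981) (Net.cons (nat_lit 8) (nat_lit 0x1d00580073005d00220051002600d3008400e1003700ce009b003200ce00e600a9) (Net.cons (nat_lit 4) (nat_lit 0x103010008060607000f07000f0204000b0f0200090a0c01050d0a010306040e0809) (Net.cons (nat_lit 2) (nat_lit 0x200323133000233020120223110033112212333202020203331232213031333110330) (Net.cons (nat_lit 1) (nat_lit 0x510410115055514000414410015444155545010140501514154411415414004450110) Net.nil)))))))))))))))))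

theorem g10_ok : Net.ok 276 g10 = true := by decide +kernel

noncomputable def V11 : List Net := [g10]

theorem V11_ok : okE 276 V11 = true := (okE_cons.2 ⟨g10_ok, (okE_nil 276)⟩)

noncomputable def fix_P5_o_E2 : List Net := []

theorem fix_P5_o_E2_ok : okE 276 fix_P5_o_E2 = true := (okE_nil 276)

noncomputable def fix_P5_o_G1 : List Net := [g10]

theorem fix_P5_o_G1_ok : okE 276 fix_P5_o_G1 = true := (okE_cons.2 ⟨g10_ok, (okE_nil 276)⟩)

noncomputable def fix_P5_o_E1 : List Net := [g10, g6, g7]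

theorem fix_P5_o_E1_ok : okE 276 fix_P5_o_E1 = true := (okE_cons.2 ⟨g10_ok, (okE_cons.2 ⟨g6_ok, (okE_cons.2 ⟨g7_ok, (okE_nil 276)⟩)⟩)⟩)

noncomputable def fix_P5_o_G0 : List Net := [g2, g10, g6, g7]

theorem fix_P5_o_G0_ok : okE 276 fix_P5_o_G0 = true := (okE_cons.2 ⟨g2_ok, (okE_cons.2 ⟨g10_ok, (okE_cons.2 ⟨g6_ok, (okE_cons.2 ⟨g7_ok, (okE_nil 276)⟩)⟩)⟩)⟩)

noncomputable def fix_P5_o_E0 : List Net := [g2, g3, g10, g6, g7]

theorem fix_P5_o_E0_ok : okE 276 fix_P5_o_E0 = true := (okE_cons.2 ⟨g2_ok, (okE_cons.2 ⟨g3_ok, (okE_cons.2 ⟨g10_ok, (okE_cons.2 ⟨g6_ok, (okE_cons.2 ⟨g7_ok, (okE_nil 276)⟩)⟩)⟩)⟩)⟩)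

noncomputable def g18 : Net := (Net.cons (nat_lit 1) (nat_lit 0x154105001140444014550045155010144040511011055104010541154515104044540) (Net.cons (nat_lit 2) (nat_lit 0x312103223220331311003300302021332312331030102013313203332230232103000) (Net.cons (nat_lit 4) (nat_lit 0x408090804040b030601040a0c04070a0f0409070905030c030d040e020a04000c04) (Net.cons (nat_lit 8) (nat_lit 0xb500260042007d009600c60040000600f2007a004000d800e60047003200010004) (Net.cons (nat_lit 16) (nat_lit 0x80000c98700003b2b000075bb0000027c00002b680000c82800005e0000004260) (Net.cons (nat_lit 32) (nat_lit 0x985f429200000000a9838242000000009079aa8c0000000000094526) (Net.cons (nat_lit 64) (nat_lit 0x88044284c0d4ca88000000000000000000000000000120a6) (Net.cons (nat_lit 128) (nat_lit 0x356fe866843507ac9d029a905ce6cbb9) (Net.cons (nat_lit 256) (nat_lit 0xfefff) (Net.cons (nat_lit 128) (nat_lit 71401) (Net.cons (nat_lit 64) (nat_lit 0x92a0ce7fe6865dc500000000000000009814a3d6178d55aa)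 (Net.cons (nat_lit 32) (nat_lit 0xf79278220000000067a62b520000000009225934000000009e4c53a0) (Net.cons (nat_lit 16) (nat_lit 0xa0000043e0000422b0000404400001bd100004e870000282c000044690000236a) (Net.cons (nat_lit 8) (nat_lit 0x1d005d0074005900aa0010007400c3003b0035004000700052009400a000380084) (Net.cons (nat_lit 4) (nat_lit 0xc0e010100080f0306060a0608040a0f0a0f0406080b01010d0c030b09090904050a) (Net.cons (nat_lit 2) (nat_lit 0x232001320203112221301220211101012222120033133130223320222103121303030) (Net.cons (nat_lit 1) (nat_lit 0x51015545140140411415040001045011155004441505445014405541111410114450) Net.nil)))))))))))))))))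

theorem g18_ok : Net.ok 276 g18 = true := by decide +kernel

noncomputable def fix_P11 : List Net := [g18]

theorem fix_P11_ok : okE 276 fix_P11 = true := (okE_cons.2 ⟨g18_ok, (okE_nil 276)⟩)

noncomputable def V19 : List Net := [g18]

theorem V19_ok : okE 276 V19 = true := (okE_cons.2 ⟨g18_ok, (okE_nil 276)⟩)

noncomputable def fix_P11_o_E1 : List Net := []

theorem fix_P11_o_E1_ok : okE 276 fix_P11_o_E1 = true := (okE_nil 276)

noncomputable def fix_P11_o_G0 : List Net := [g18]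

theorem fix_P11_o_G0_ok : okE 276 fix_P11_o_G0 = true := (okE_cons.2 ⟨g18_ok, (okE_nil 276)⟩)

noncomputable def fix_P11_o_E0 : List Net := [g18]

theorem fix_P11_o_E0_ok : okE 276 fix_P11_o_E0 = true := (okE_cons.2 ⟨g18_ok, (okE_nil 276)⟩)

noncomputable def g24 : Net := (Net.cons (nat_lit 1) (nat_lit 0x410010045001040501415511141514045005544444500510550441400015005110410) (Net.cons (nat_lit 2) (nat_lit 0x2113323030320000323000232101023121203332312213330111023312010210020) (Net.cons (nat_lit 4) (nat_lit 0xf09030e0b0e0a040105060d0900090c0f010d0d060807010a0005000109050b0400) (Net.cons (nat_lit 8) (nat_lit 0x7d00cd0057007500e500700075004a00fd00c7001d00fd0099000800b000b40001) (Net.cons (nat_lit 16) (nat_lit 0x800004363000046800000e0b100007d590000b101000026020000441300008840) (Net.cons (nat_lit 32) (nat_lit 0x68925e8d000000009a030850000000000b446824000000000009c474) (Net.cons (nat_lit 64) (nat_lit 0x1fb4501828487c5c00000000000000000000000000012414)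 (Net.cons (nat_lit 128) (nat_lit 0x8c8cc464b0e21b8d13731a5a4e803d26) (Net.cons (nat_lit 256) (nat_lit 785910) (Net.cons (nat_lit 128) (nat_lit 612694) (Net.cons (nat_lit 64) (nat_lit 0x86bc361e4c36d0240000000000000000c20e727b31ebe0fd) (Net.cons (nat_lit 32) (nat_lit 0xb32e1afd000000000aa4389f000000009b3babc70000000062c25074) (Net.cons (nat_lit 16) (nat_lit 0xe00004e1d00006e7c0000ab7000005efe000087900000c61f0000ca1b0000fa70) (Net.cons (nat_lit 8) (nat_lit 0x3100af00af006d00b500ce00f2000a003700c500ac00e2007d008e00da009e00f1) (Net.cons (nat_lit 4) (nat_lit 0x20803090f050602090c070c0901040806090f0b070d01000107030a000c00020400) (Net.cons (nat_lit 2) (nat_lit 0x1121030001012330323022100010301132221231013120231201302302203310330) (Net.cons (nat_lit 1) (nat_lit 0x515505004444110441004405405551441544511441444000404040404000455555110) Net.nil)))))))))))))))))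

theorem g24_ok : Net.ok 276 g24 = true := by decide +kernel

noncomputable def g25 : Net := (Net.cons (nat_lit 1) (nat_lit 0x51140514510455055051004504110010004005044004440401541405455050055540) (Net.cons (nat_lit 2) (nat_lit 0x213320201013213122221213012013321232221302202012021201322313103210000) (Net.cons (nat_lit 4) (nat_lit 0x20f000f000f060c020b0d07030d05060e0c0503000b0105000b070f0808080c0201) (Net.cons (nat_lit 8) (nat_lit 0xa4003200d700ec00130057006f0005002200f400490033001400cf002600070002) (Net.cons (nat_lit 16) (nat_lit 0x70000736e0000c63500005398000004e400001b62000087000000695100001000) (Net.cons (nat_lit 32) (nat_lit 0xd244a14d00000000b906374000000000601321920000000000046a10) (Net.cons (nat_lit 64) (nat_lit 0xe321286187b8fd8b00000000000000000000000000032182) (Net.cons (nat_lit 128) (nat_lit 0x34cfabe96e90e5a6db744580e96c5f0e) (Net.cons (nat_lit 256) (nat_lit 0xf7f9f) (Net.cons (nat_lit 128) (nat_lit 727367)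 (Net.cons (nat_lit 64) (nat_lit 0x42c47ba7a7a9920300000000000000009588092808b6e1b8) (Net.cons (nat_lit 32) (nat_lit 0x1466fdab0000000030306448000000005151ecd3000000002d6c1bd3) (Net.cons (nat_lit 16) (nat_lit 0xb00000c2d000095b000007fe800009b9b0000db280000b44200000e5f00002923) (Net.cons (nat_lit 8) (nat_lit 0xe800b2004c004e008f001900f900e80007007c006b008600be00060071001200e3) (Net.cons (nat_lit 4) (nat_lit 0xc090108030d0c090403050a080c010e0a0a0d0a0b09090301010f0f090305030709) (Net.cons (nat_lit 2) (nat_lit 0x130203110011112331110202000330100230300122312331211312110311201320030) (Net.cons (nat_lit 1) (nat_lit 0x51045145550144055144414504010500044144415000445140510515510514055400) Net.nil)))))))))))))))))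

theorem g25_ok : Net.ok 276 g25 = true := by decide +kernel

noncomputable def g26 : Net := (Net.cons (nat_lit 1) (nat_lit 0x511504040455154105554141000405401415101010000510415440555145515501040) (Net.cons (nat_lit 2) (nat_lit 0x23012022022033132011013321031203200222301023320130322331301032130200) (Net.cons (nat_lit 4) (nat_lit 0x10d0f0f0e04000a04040402090b0b040e00090e08010307060908030f08050a0301) (Net.cons (nat_lit 8) (nat_lit 0xa8008b000f00bd001f007300780093007800e2003900fc0065001f0063004c0000) (Net.cons (nat_lit 16) (nat_lit 0xc0000d464000080db00005e4900008a4100009a310000940b0000a71900009d50) (Net.cons (nat_lit 32) (nat_lit 0xe2e0c0a70000000005b3102800000000430049dd0000000000035e20) (Net.cons (nat_lit 64) (nat_lit 0xb8885315027ee4c100000000000000000000000000001a24) (Net.cons (nat_lit 128) (nat_lit 0xb33f0773eff55e804fb7d884d00cd478) (Net.cons (nat_lit 256) (nat_lit 0xffffd) (Net.cons (nat_lit 128) (nat_lit 440581)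 (Net.cons (nat_lit 64) (nat_lit 0x5b7d8bff6aab88100000000000000002107c5954b09250c) (Net.cons (nat_lit 32) (nat_lit 0xbb64046000000003f559e32000000008a0e0c0000000000cc6061c9) (Net.cons (nat_lit 16) (nat_lit 0x70000fdb900006f35000015600000e885000078ff000049e3000052e9000058f8) (Net.cons (nat_lit 8) (nat_lit 0xdd009c009e00de00a9003f002200fd00660028007d008500a0007f009600750048) (Net.cons (nat_lit 4) (nat_lit 0xf05030c00080d020d0f030b080408090f08010c030a030c000301000a050b020209) (Net.cons (nat_lit 2) (nat_lit 0x333333330111332122222313131312113302230331010102010323121132300200020) (Net.cons (nat_lit 1) (nat_lit 0x144440540404415545445041150455414014544015404540541514051154005041400) Net.nil)))))))))))))))))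

theorem g26_ok : Net.ok 276 g26 = true := by decide +kernel

noncomputable def fix_P3 : List Net := [g24, g25, g26]

theorem fix_P3_ok : okE 276 fix_P3 = true := (okE_cons.2 ⟨g24_ok, (okE_cons.2 ⟨g25_ok, (okE_cons.2 ⟨g26_ok, (okE_nil 276)⟩)⟩)⟩)

noncomputable def V27 : List Net := [g25]

theorem V27_ok : okE 276 V27 = true := (okE_cons.2 ⟨g25_ok, (okE_nil 276)⟩)

noncomputable def g29 : Net := (Net.cons (nat_lit 1) (nat_lit 0x1505441414515414451111445114405111041055044405515051554454415541040) (Net.cons (nat_lit 2) (nat_lit 0x210003111003130311333211123201032211301200231023233223023302113312000) (Net.cons (nat_lit 4) (nat_lit 0x10d0302080f0f000002020b010504020008020902080c0a0d0c0605090d0506030e) (Net.cons (nat_lit 8) (nat_lit 0xc50092000f001a007300d00066007a00f5009700b900e100e400a4002a00ae000c) (Net.cons (nat_lit 16) (nat_lit 0x9000000ea0000047500009e080000644a0000a8c7000019e00000160300003810) (Net.cons (nat_lit 32) (nat_lit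 0x5002777b000000004e17a3a500000000208299800000000000060c84) (Net.cons (nat_lit 64) (nat_lit 0x902861841c96d1820000000000000000000000000000ac8f) (Net.cons (nat_lit 128) (nat_lit 0xcec661605f2626161bb89aa441d4d83f) (Net.cons (nat_lit 256) (nat_lit 0xffcbf) (Net.cons (nat_lit 128) (nat_lit 71606) (Net.cons (nat_lit 64) (nat_lit 0x93a828959b56942c000000000000000023b4a92747cff613) (Net.cons (nat_lit 32) (nat_lit 0x10673d300000000382fedb600000000ab505b40000000006409d18a) (Net.cons (nat_lit 16) (nat_lit 0x400005d450000c3bc000021840000a9a00000620a00004412000065c700005602) (Net.cons (nat_lit 8) (nat_lit 0x7300ff008b000f002f007c00dd0098001900000097005d008b00c100a700760016) (Net.cons (nat_lit 4) (nat_lit 0x10907050b0502000c00080d0b01050001020901020b050d00030e03040b05020306) (Net.cons (nat_lit 2) (nat_lit 0x233032001123300102311231102201312212000001332003120023222032301013100) (Net.cons (nat_lit 1) (nat_lit 0x540511515011151514414055454450415004051004504015405410410011554154510)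 Net.nil)))))))))))))))))

theorem g29_ok : Net.ok 276 g29 = true := by decide +kernel

noncomputable def g30 : Net := (Net.cons (nat_lit 1) (nat_lit 0x144114115554005140540454400445444405014144105100511111144440410445100) (Net.cons (nat_lit 2) (nat_lit 0x322330111300210330102123200312320303031301010022210211131020202100220) (Net.cons (nat_lit 4) (nat_lit 0xe0b0c09080b0a01010907040d09010008070e040c0d01080302060404010c00070c) (Net.cons (nat_lit 8) (nat_lit 0xeb0040008b00ae00990044001700c600d200d6001c006200a6000700e900af0008) (Net.cons (nat_lit 16) (nat_lit 0x70000a2680000ddcd000048740000a7c800002b9d0000944000006f6000000910) (Net.cons (nat_lit 32) (nat_lit 0x3f0aa1a20000000015516004000000002348a4360000000000080044) (Net.cons (nat_lit 64) (nat_lit 0xa618cd9225480aab000000000000000000000000000a090c) (Net.cons (nat_lit 128) (nat_lit 0x462c94a6b2cb7654f055491915b0ec83) (Net.cons (nat_lit 256) (nat_lit 782303) (Net.cons (nat_lit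 128) (nat_lit 41343) (Net.cons (nat_lit 64) (nat_lit 0x2663138a1c583f3100000000000000009bf4a10f845c2690) (Net.cons (nat_lit 32) (nat_lit 0xe195fe8200000000049e54a90000000090a6b6a30000000047d23bdc) (Net.cons (nat_lit 16) (nat_lit 0xb00009fb300006e800000507700008383000098ad0000793100000d4d00007c38) (Net.cons (nat_lit 8) (nat_lit 0xac00d5007900ae00b7000600b1000100b500750096006800e8001c0047001f0004) (Net.cons (nat_lit 4) (nat_lit 0x6050d0f030d0a0a080e080e0c0d01060c0b090d0607050f0b0f0d0c0e0c090a020c) (Net.cons (nat_lit 2) (nat_lit 0x322310321232030302212113113101103200010330212013331122311310232130330) (Net.cons (nat_lit 1) (nat_lit 0x445145014045115001151554450511050005541000014014145515404501001055450) Net.nil)))))))))))))))))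

theorem g30_ok : Net.ok 276 g30 = true := by decide +kernel

noncomputable def g31 : Net := (Net.cons (nat_lit 1) (nat_lit 0x501454155445114105054555151415455144005544001444440445140115511151110) (Net.cons (nat_lit 2) (nat_lit 0x313112310311220031233211022220223221000210332200313200213000311020000) (Net.cons (nat_lit 4) (nat_lit 0x30c09040f0f03040a06070602030108070a0b09030600010d0708000f04010e080e) (Net.cons (nat_lit 8) (nat_lit 0xba00680082001000f3000a001f0098008000d8009c000c00b000ee002500bc0002) (Net.cons (nat_lit 16) (nat_lit 0xb0000a843000002700000ff000000e2b10000b1300000d2430000633400000040) (Net.cons (nat_lit 32) (nat_lit 0x5df0001c00000000c2684c830000000020ca099000000000000429e9) (Net.cons (nat_lit 64) (nat_lit 0x5148860c80888044000000000000000000000000000e2b58) (Net.cons (nat_lit 128) (nat_lit 0x338513a0d4ba1f0564cd848e0f128dc2) (Net.cons (nat_lit 256) (nat_lit 966651) (Net.cons (nat_lit 128) (nat_lit 227770)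 (Net.cons (nat_lit 64) (nat_lit 0x825981cabee108f90000000000000000fc480492e4891706) (Net.cons (nat_lit 32) (nat_lit 0x2db6747900000000997e6ddc0000000021e81e7000000000a68798b9) (Net.cons (nat_lit 16) (nat_lit 0x300009eaf0000c21000002d1b000075720000d3b600004e8f0000556c00006b52) (Net.cons (nat_lit 8) (nat_lit 0x2100c0004c0038008b00d1009100b2004f00c8006300bc00e1007900290023008a) (Net.cons (nat_lit 4) (nat_lit 0x7030e0e030b060a0c0e09090e0208080a020e0d040d06030807080005050e0f06) (Net.cons (nat_lit 2) (nat_lit 0x110311200313010001001323333232132311102100323332332301113101323131010) (Net.cons (nat_lit 1) (nat_lit 0x440451405415104441544514054505444515014450145040505515545444415451540) Net.nil)))))))))))))))))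

theorem g31_ok : Net.ok 276 g31 = true := by decide +kernel

noncomputable def g32 : Net := (Net.cons (nat_lit 1) (nat_lit 0x455540511000541140104010550000001011450150044001544155415514510410440) (Net.cons (nat_lit 2) (nat_lit 0x330333300300001120233122130031021112132022112101023311322133020002020) (Net.cons (nat_lit 4) (nat_lit 0x30c0f090f030707030e0d05060d08030404010a030c01010a0b080608010903030f) (Net.cons (nat_lit 8) (nat_lit 0x3a001e004500de00c7003900a60076003e00930070009e00a30024008700350002) (Net.cons (nat_lit 16) (nat_lit 0x90000efa9000047270000f0b00000d4820000f4cc00000a6a0000045900000610) (Net.cons (nat_lit 32) (nat_lit 0xa15228590000000082e0d99b00000000fe5871200000000000024908) (Net.cons (nat_lit 64) (nat_lit 0x530414e4c2bc80100000000000000000000000000016791) (Net.cons (nat_lit 128) (nat_lit 0x4513e3ca61bddf7c006c2025be86085a) (Net.cons (nat_lit 256) (nat_lit 0xf6fdf) (Net.cons (nat_lit 128) (nat_lit 407263)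 (Net.cons (nat_lit 64) (nat_lit 0x84e8049563331d8200000000000000000c5b06a4d20dc889) (Net.cons (nat_lit 32) (nat_lit 0x724408c1000000005ee25b8900000000fe8aeac0000000003701669d) (Net.cons (nat_lit 16) (nat_lit 0x4c5700005cd40000f54a000054c10000090c0000f7f20000a02f0000bf99) (Net.cons (nat_lit 8) (nat_lit 0x7f007b006500db002500c30044006b00eb00ef00b300f900760003008f00a6008c) (Net.cons (nat_lit 4) (nat_lit 0x6080d060406060c0c09020c05030d030d0d04070b050609020b08070207070a0b07) (Net.cons (nat_lit 2) (nat_lit 0x331123313222101332313330131021122001020111131121020031121222201122210) (Net.cons (nat_lit 1) (nat_lit 0x54504114441555455441140010400100405450055000451105005150445044410110) Net.nil)))))))))))))))))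

theorem g32_ok : Net.ok 276 g32 = true := by decide +kernel

noncomputable def V33 : List Net := [g29, g30, g31, g32]

theorem V33_ok : okE 276 V33 = true := (okE_cons.2 ⟨g29_ok, (okE_cons.2 ⟨g30_ok, (okE_cons.2 ⟨g31_ok, (okE_cons.2 ⟨g32_ok, (okE_nil 276)⟩)⟩)⟩)⟩)

noncomputable def g35 : Net := (Net.cons (nat_lit 1) (nat_lit 0x151450500444140051455540045105105555515555144410410410154504055014150) (Net.cons (nat_lit 2) (nat_lit 0x3322132331302011332021203101213110002310202102220220232031012102020) (Net.cons (nat_lit 4) (nat_lit 0x2080a0300050b000f0901050603010d0f0e0208060a0208010d0f000a0a090a0202) (Net.cons (nat_lit 8) (nat_lit 0xe400df00e5002400b3002f001000aa004e005300d8003500ae000700d800690002) (Net.cons (nat_lit 16) (nat_lit 0x800003fe20000ced00000ed1b0000efe8000040b800003cb200001e510000a1e0) (Net.cons (nat_lit 32) (nat_lit 0x8197d00600000000d0cb4c03000000002c28a28c0000000000044920) (Net.cons (nat_lit 64) (nat_lit 0x42262dc00d53f10d0000000000000000000000000003c804)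 (Net.cons (nat_lit 128) (nat_lit 0x93929a0249173215a0e546999c6755c) (Net.cons (nat_lit 256) (nat_lit 0xffdfc) (Net.cons (nat_lit 128) (nat_lit 849562) (Net.cons (nat_lit 64) (nat_lit 0xe36d9fde4956b33900000000000000003b6dee344702ec0e) (Net.cons (nat_lit 32) (nat_lit 0xcd9233bb000000007002c783000000004011343200000000a84f7458) (Net.cons (nat_lit 16) (nat_lit 0xb00007a020000a63f0000a1da000048f100004b25000054080000473700000e38) (Net.cons (nat_lit 8) (nat_lit 0xe9002f00bb006f0057005c000f00fd0067002000a800270001000200b000590018) (Net.cons (nat_lit 4) (nat_lit 0x200020100090b0d0e0106030509040d070b040c0b020500090508070409080d030a) (Net.cons (nat_lit 2) (nat_lit 0x202222122330220233133010221121330133013030122030210003333002030111220) (Net.cons (nat_lit 1) (nat_lit 0x50500454411550141105011000014501504500540504510054111055144055401040) Net.nil)))))))))))))))))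

theorem g35_ok : Net.ok 276 g35 = true := by decide +kernel

noncomputable def g36 : Net := (Net.cons (nat_lit 1) (nat_lit 0x551541005445505414141014010115415005414550505114050550410154154000) (Net.cons (nat_lit 2) (nat_lit 0x113121321011003131300230332102102033211113032001320000003103000010100) (Net.cons (nat_lit 4) (nat_lit 0x4060003040b090005020e030308030c09000d0608070b010802050c0d0407040009) (Net.cons (nat_lit 8) (nat_lit 0xd2008400530012007d004e006200e800c800300035000e0003008100a000210003) (Net.cons (nat_lit 16) (nat_lit 0x8eec0000f469000008900000b4bf00000e10000093010000925500008820) (Net.cons (nat_lit 32) (nat_lit 0x147c34da00000000e053be99000000009052488800000000000c8010) (Net.cons (nat_lit 64) (nat_lit 0x352209a0001a212a000000000000000000000000000bab52) (Net.cons (nat_lit 128) (nat_lit 0x9f242c9d9a551393c893924ec5213b8) (Net.cons (nat_lit 256) (nat_lit 0xfbbfb) (Net.cons (nat_lit 128) (nat_lit 589235) (Net.cons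 (nat_lit 64) (nat_lit 0x15eadb707942342b00000000000000009b03574470c00e68) (Net.cons (nat_lit 32) (nat_lit 0xac7614fa00000000fcf820f5000000002af1583800000000894191d3) (Net.cons (nat_lit 16) (nat_lit 0x200006a4e0000c1ec00006b6900009685000002fd0000dcbd0000db050000d5e0) (Net.cons (nat_lit 8) (nat_lit 0x9b002f00a90007009000ed003e007e00d400fc009c00a50027000300d700ad006a) (Net.cons (nat_lit 4) (nat_lit 0x4050a010c000f04000c0e0302030b060304080602040f010302010504070b050f09) (Net.cons (nat_lit 2) (nat_lit 0x113102222133112222222233332301130011212310302313212201310300101330110) (Net.cons (nat_lit 1) (nat_lit 0x544545500514105504401005414054545515045155450541401111510440054105140) Net.nil)))))))))))))))))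

theorem g36_ok : Net.ok 276 g36 = true := by decide +kernel

noncomputable def g37 : Net := (Net.cons (nat_lit 1) (nat_lit 0x445141505445401150115051445544414404045405450515111500150115500504540) (Net.cons (nat_lit 2) (nat_lit 0x121013113133302032230101201311332223021011301202322003301001120313300) (Net.cons (nat_lit 4) (nat_lit 0xf06050f03000c050a090a040b0d0f0107020708030406010f07010901080a0d020c) (Net.cons (nat_lit 8) (nat_lit 0x70004f00220005008a006900b000be00c800e5008500e0003100c9003200200001) (Net.cons (nat_lit 16) (nat_lit 0xb8d10000485a000070d8000046f40000c7160000b8340000b0d700006840) (Net.cons (nat_lit 32) (nat_lit 0xe29acad8000000000e939900000000000402022b0000000000034650) (Net.cons (nat_lit 64) (nat_lit 0xa41bd745d60ab815000000000000000000000000000110be) (Net.cons (nat_lit 128) (nat_lit 0xfd3003d97a97abf91a0bd496a50db611) (Net.cons (nat_lit 256) (nat_lit 0xffeff) (Net.cons (nat_lit 128) (nat_lit 107668) (Net.cons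 (nat_lit 64) (nat_lit 0xb233ab4536ed18200000000000000000758b5ccadd2f5c72) (Net.cons (nat_lit 32) (nat_lit 0xb708343d000000006ee3f1a0000000001b199ce6000000003a852ab9) (Net.cons (nat_lit 16) (nat_lit 0x5000058cf00003e5700004e2c0000a9900000853200001b3c000052930000b4d0) (Net.cons (nat_lit 8) (nat_lit 0x5a00290006005500a400b800bb009500d5002b00d200eb005f0018004a003300a5) (Net.cons (nat_lit 4) (nat_lit 0x50d030e0d080b09050a0f020702050f02070a0c0b020e03030b000d090d070d060c) (Net.cons (nat_lit 2) (nat_lit 0x220200311121132032331122121002120311101030303003113300303332323323030) (Net.cons (nat_lit 1) (nat_lit 0x45100041505445550100055041114411451410110414010505110051014110514410) Net.nil)))))))))))))))))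

theorem g37_ok : Net.ok 276 g37 = true := by decide +kernel

noncomputable def V38 : List Net := [g35, g36, g37]

theorem V38_ok : okE 276 V38 = true := (okE_cons.2 ⟨g35_ok, (okE_cons.2 ⟨g36_ok, (okE_cons.2 ⟨g37_ok, (okE_nil 276)⟩)⟩)⟩)

noncomputable def g40 : Net := (Net.cons (nat_lit 1) (nat_lit 0x551515045000551014404401410444041415154511415155015040411504114511400) (Net.cons (nat_lit 2) (nat_lit 0x212233202030121110021131001030320313322201321000232101311320330203000) (Net.cons (nat_lit 4) (nat_lit 0x1040a040507000c0a0e020a0103090e02010207070d03010d0008040d0f00020c03) (Net.cons (nat_lit 8) (nat_lit 0xd8003b00aa0003003f008c002b00b9003b0016003000cd00d7000a00350026000c) (Net.cons (nat_lit 16) (nat_lit 0xf0000270000004ffa0000461e000043e5000061a00000345c0000118d00000400) (Net.cons (nat_lit 32) (nat_lit 0x268de849000000008e072e6000000000a55bd39d00000000000211e0) (Net.cons (nat_lit 64) (nat_lit 0xa213dd00a1ac2c8000000000000000000000000000414b7)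 (Net.cons (nat_lit 128) (nat_lit 0x60714afd8611adecde107703a9eed744) (Net.cons (nat_lit 256) (nat_lit 972799) (Net.cons (nat_lit 128) (nat_lit 75559) (Net.cons (nat_lit 64) (nat_lit 0x4d3ac055b6cf0c0c00000000000000007742314de258a014) (Net.cons (nat_lit 32) (nat_lit 0xad58e4c00000000ae77364400000000d0ad2b9400000000c95292e5) (Net.cons (nat_lit 16) (nat_lit 0x8000002d2000011fb0000d7cf0000b9d600002ea40000077b0000e28400006505) (Net.cons (nat_lit 8) (nat_lit 0xdb00a0002e00af0064002400a40078001d001d0037004900900010003f003d008f) (Net.cons (nat_lit 4) (nat_lit 0x50f03070b05010c0a0b0207000b080a0f06020b060d06030e06030c0c0504080f03) (Net.cons (nat_lit 2) (nat_lit 0x310200131211000110121132202010010303333103110133311212103133121230130) (Net.cons (nat_lit 1) (nat_lit 0x450511415445455011445411501514050051040051110540440040114155510441400) Net.nil)))))))))))))))))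

theorem g40_ok : Net.ok 276 g40 = true := by decide +kernel

noncomputable def g41 : Net := (Net.cons (nat_lit 1) (nat_lit 0x504141554141001015410150445145141554554401410451015410441114111100000) (Net.cons (nat_lit 2) (nat_lit 0x102100030101101131112123222112133300300312102322033002221211101301200) (Net.cons (nat_lit 4) (nat_lit 0xe0807040c060004020f0e0d0504090d040d0f0300040707010307020a0f0e0d0402) (Net.cons (nat_lit 8) (nat_lit 0xe40003006d00c9009200bd0071008200a0002900c8005200ec00a700e800a40004) (Net.cons (nat_lit 16) (nat_lit 0x900003ecf0000ac8f0000f89c00008d3b0000521200006bd4000073210000c120) (Net.cons (nat_lit 32) (nat_lit 0xe8f9061a000000002aa349a900000000c41b65340000000000060312) (Net.cons (nat_lit 64) (nat_lit 0xd06050c917013293000000000000000000000000000704f4) (Net.cons (nat_lit 128) (nat_lit 0xd8e54d8c63cfb1e5098a93759403ec84) (Net.cons (nat_lit 256) (nat_lit 0xfeff6) (Net.cons (nat_lit 128) (nat_lit 756374)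 (Net.cons (nat_lit 64) (nat_lit 0x488e097a32139a3e00000000000000005784ad8009149672) (Net.cons (nat_lit 32) (nat_lit 0xed5487fb000000002e6b6c44000000003e8ba1720000000090873ae6) (Net.cons (nat_lit 16) (nat_lit 0xa00002de6000099d60000e59b00005b0b0000e9fc00001b9100001627000091e4) (Net.cons (nat_lit 8) (nat_lit 0xac0061001d006d009c002f00a60048004c00bb00ff004000f90085006a00fd0006) (Net.cons (nat_lit 4) (nat_lit 0x202060a090f0103090a0907070c0d0d090d0f05020c070f0201070e010002010902) (Net.cons (nat_lit 2) (nat_lit 0x122011333031211203230020301023133201320000021303002033021323122113100) (Net.cons (nat_lit 1) (nat_lit 0x445000545155001101140104414055541511555454540544401011004544405505010) Net.nil)))))))))))))))))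

theorem g41_ok : Net.ok 276 g41 = true := by decide +kernel

noncomputable def V42 : List Net := [g40, g41]

theorem V42_ok : okE 276 V42 = true := (okE_cons.2 ⟨g40_ok, (okE_cons.2 ⟨g41_ok, (okE_nil 276)⟩)⟩)

noncomputable def g44 : Net := (Net.cons (nat_lit 1) (nat_lit 0x110555010400554454415451141500014044000101015011154544551011150050540) (Net.cons (nat_lit 2) (nat_lit 0x231322223022001012330030312012231112330200013203203103002113011203000) (Net.cons (nat_lit 4) (nat_lit 0xd08040406080c0204010b0b0e00050b0803090f0c07040f01010b05060208050209) (Net.cons (nat_lit 8) (nat_lit 0xf9001200e3001100a8003600df000000bc001100ef00a400760084009400a10001) (Net.cons (nat_lit 16) (nat_lit 0xa0000bd8500005b7c0000147900004aa3000014d80000eca80000828800006410) (Net.cons (nat_lit 32) (nat_lit 0x623b80f6000000004943d016000000000a040cb40000000000005007) (Net.cons (nat_lit 64) (nat_lit 0x30888109200d0be50000000000000000000000000000059b) (Net.cons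 (nat_lit 128) (nat_lit 0xd95f39290a42375622d5e2a068814f65) (Net.cons (nat_lit 256) (nat_lit 131071) (Net.cons (nat_lit 128) (nat_lit 972198) (Net.cons (nat_lit 64) (nat_lit 0xc798b263686e055200000000000000000fda99e0606c289c) (Net.cons (nat_lit 32) (nat_lit 0x6e19a0ae00000000e9c6492f00000000d7a01cd50000000046cb4f27) (Net.cons (nat_lit 16) (nat_lit 0x90000a6d10000ef13000072370000b1660000ca600000fc400000328d0000a258) (Net.cons (nat_lit 8) (nat_lit 0xd800090053000200cf00e2003a0070000d008d00090005001d0056001a00830008) (Net.cons (nat_lit 4) (nat_lit 0xb000602010e0d0f01090604020e0d0b09070906040c0f0b00070f0d090304030a09) (Net.cons (nat_lit 2) (nat_lit 0x231230211002003032103233001030232300331200201331033100113322202302100) (Net.cons (nat_lit 1) (nat_lit 0x51414001414554540145405110410414001001154145104540145114441444455550) Net.nil)))))))))))))))))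

theorem g44_ok : Net.ok 276 g44 = true := by decide +kernel

noncomputable def V45 : List Net := [g44]

theorem V45_ok : okE 276 V45 = true := (okE_cons.2 ⟨g44_ok, (okE_nil 276)⟩)

noncomputable def V47 : List Net := [g40, g40]

theorem V47_ok : okE 276 V47 = true := (okE_cons.2 ⟨g40_ok, (okE_cons.2 ⟨g40_ok, (okE_nil 276)⟩)⟩)

noncomputable def g49 : Net := (Net.cons (nat_lit 1) (nat_lit 0x450511415445455011445411501514050051040051110540440040114155510441400) (Net.cons (nat_lit 2) (nat_lit 0x23133212122333223212200131323323030000230203200022121230200212103200) (Net.cons (nat_lit 4) (nat_lit 0xd0f040506050c030a0e000d000e0a0a070100060107010c0b090c0b030d090a070c) (Net.cons (nat_lit 8) (nat_lit 0x6c00230049002500d3008300a30071004d00c4004f000c002b008b00e50004000f) (Net.cons (nat_lit 16) (nat_lit 0x7000082790000c61900002df90000443600000b2f0000d7540000aaa100001400) (Net.cons (nat_lit 32) (nat_lit 0x5e49f3100000000044c011db0000000006514a4900000000000ce830)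 (Net.cons (nat_lit 64) (nat_lit 0x6228544a3073812c000000000000000000000000000422c0) (Net.cons (nat_lit 128) (nat_lit 0x2914566780c8fd3a5fae891cf93d0d80) (Net.cons (nat_lit 256) (nat_lit 917491) (Net.cons (nat_lit 128) (nat_lit 753429) (Net.cons (nat_lit 64) (nat_lit 0xa33f63e8151a3a7200000000000000009950549d4f9592ec) (Net.cons (nat_lit 32) (nat_lit 0x5f76f61800000000c5509bb5000000005a2c766b000000009736bc18) (Net.cons (nat_lit 16) (nat_lit 0x20000878400009d1f0000c1cc00001c7400004ca40000521400002c8500000808) (Net.cons (nat_lit 8) (nat_lit 0xf800c400b9002e00cc002900dc00a40044008300c30034007e00c900670043002b) (Net.cons (nat_lit 4) (nat_lit 0xc0902090d0d08030a0b000a0404060300040805050f0c0c0f0002090f0f0808030c) (Net.cons (nat_lit 2) (nat_lit 0x121100131303212223312202332303013020011132012333111230022013003120330) (Net.cons (nat_lit 1) (nat_lit 0x551515045000551014404401410444041415154511415155015040411504114511400) Net.nil)))))))))))))))))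

theorem g49_ok : Net.ok 276 g49 = true := by decide +kernel

noncomputable def V50 : List Net := [g49]

theorem V50_ok : okE 276 V50 = true := (okE_cons.2 ⟨g49_ok, (okE_nil 276)⟩)

noncomputable def fix_P3_o_E4 : List Net := []

theorem fix_P3_o_E4_ok : okE 276 fix_P3_o_E4 = true := (okE_nil 276)

noncomputable def fix_P3_o_G3 : List Net := [g49]

theorem fix_P3_o_G3_ok : okE 276 fix_P3_o_G3 = true := (okE_cons.2 ⟨g49_ok, (okE_nil 276)⟩)

noncomputable def fix_P3_o_E3 : List Net := [g49, g40, g40]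

theorem fix_P3_o_E3_ok : okE 276 fix_P3_o_E3 = true := (okE_cons.2 ⟨g49_ok, (okE_cons.2 ⟨g40_ok, (okE_cons.2 ⟨g40_ok, (okE_nil 276)⟩)⟩)⟩)

noncomputable def fix_P3_o_G2 : List Net := [g44, g49, g40, g40]

theorem fix_P3_o_G2_ok : okE 276 fix_P3_o_G2 = true := (okE_cons.2 ⟨g44_ok, (okE_cons.2 ⟨g49_ok, (okE_cons.2 ⟨g40_ok, (okE_cons.2 ⟨g40_ok, (okE_nil 276)⟩)⟩)⟩)⟩)

noncomputable def fix_P3_o_E2 : List Net := [g44, g41, g49, g40, g40]

theorem fix_P3_o_E2_ok : okE 276 fix_P3_o_E2 = true := (okE_cons.2 ⟨g44_ok, (okE_cons.2 ⟨g41_ok, (okE_cons.2 ⟨g49_ok, (okE_cons.2 ⟨g40_ok, (okE_cons.2 ⟨g40_ok, (okE_nil 276)⟩)⟩)⟩)⟩)⟩)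

noncomputable def fix_P3_o_G1 : List Net := [g35, g36, g37, g44, g41, g49, g40, g40]

theorem fix_P3_o_G1_ok : okE 276 fix_P3_o_G1 = true := (okE_cons.2 ⟨g35_ok, (okE_cons.2 ⟨g36_ok, (okE_cons.2 ⟨g37_ok, (okE_cons.2 ⟨g44_ok, (okE_cons.2 ⟨g41_ok, (okE_cons.2 ⟨g49_ok, (okE_cons.2 ⟨g40_ok, (okE_cons.2 ⟨g40_ok, (okE_nil 276)⟩)⟩)⟩)⟩)⟩)⟩)⟩)⟩)

noncomputable def fix_P3_o_E1 : List Net := [g35, g36, g37, g29, g30, g31, g32, g44, g41, g49, g40, g40]

theorem fix_P3_o_E1_ok : okE 276 fix_P3_o_E1 = true := (okE_cons.2 ⟨g35_ok, (okE_cons.2 ⟨g36_ok, (okE_cons.2 ⟨g37_ok, (okE_cons.2 ⟨g29_ok, (okE_cons.2 ⟨g30_ok, (okE_cons.2 ⟨g31_ok, (okE_cons.2 ⟨g32_ok, (okE_cons.2 ⟨g44_ok, (okE_cons.2 ⟨g41_ok, (okE_cons.2 ⟨g49_ok, (okE_cons.2 ⟨g40_ok, (okE_cons.2 ⟨g40_ok, (okE_nil 276)⟩)⟩)⟩)⟩)⟩)⟩)⟩)⟩)⟩)⟩)⟩)⟩)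

noncomputable def fix_P3_o_G0 : List Net := [g25, g35, g36, g37, g29, g30, g31, g32, g44, g41, g49, g40, g40]

theorem fix_P3_o_G0_ok : okE 276 fix_P3_o_G0 = true := (okE_cons.2 ⟨g25_ok, (okE_cons.2 ⟨g35_ok, (okE_cons.2 ⟨g36_ok, (okE_cons.2 ⟨g37_ok, (okE_cons.2 ⟨g29_ok, (okE_cons.2 ⟨g30_ok, (okE_cons.2 ⟨g31_ok, (okE_cons.2 ⟨g32_ok, (okE_cons.2 ⟨g44_ok, (okE_cons.2 ⟨g41_ok, (okE_cons.2 ⟨g49_ok, (okE_cons.2 ⟨g40_ok, (okE_cons.2 ⟨g40_ok, (okE_nil 276)⟩)⟩)⟩)⟩)⟩)⟩)⟩)⟩)⟩)⟩)⟩)⟩)⟩)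

noncomputable def fix_P3_o_E0 : List Net := [g25, g24, g26, g35, g36, g37, g29, g30, g31, g32, g44, g41, g49, g40, g40]

theorem fix_P3_o_E0_ok : okE 276 fix_P3_o_E0 = true := (okE_cons.2 ⟨g25_ok, (okE_cons.2 ⟨g24_ok, (okE_cons.2 ⟨g26_ok, (okE_cons.2 ⟨g35_ok, (okE_cons.2 ⟨g36_ok, (okE_cons.2 ⟨g37_ok, (okE_cons.2 ⟨g29_ok, (okE_cons.2 ⟨g30_ok, (okE_cons.2 ⟨g31_ok, (okE_cons.2 ⟨g32_ok, (okE_cons.2 ⟨g44_ok, (okE_cons.2 ⟨g41_ok, (okE_cons.2 ⟨g49_ok, (okE_cons.2 ⟨g40_ok, (okE_cons.2 ⟨g40_ok, (okE_nil 276)⟩)⟩)⟩)⟩)⟩)⟩)⟩)⟩)⟩)⟩)⟩)⟩)⟩)⟩)⟩)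

noncomputable def V61 : List Net := [Co3M.g7, Co3M.g8, Co3M.g11, Co3M.g12, Co3M.g15, Co3M.g16, Co3M.g17, Co3M.g20, Co3M.g21]

theorem V61_ok : okE 276 V61 = true := (okE_cons.2 ⟨Co3M.g7_ok, (okE_cons.2 ⟨Co3M.g8_ok, (okE_cons.2 ⟨Co3M.g11_ok, (okE_cons.2 ⟨Co3M.g12_ok, (okE_cons.2 ⟨Co3M.g15_ok, (okE_cons.2 ⟨Co3M.g16_ok, (okE_cons.2 ⟨Co3M.g17_ok, (okE_cons.2 ⟨Co3M.g20_ok, (okE_cons.2 ⟨Co3M.g21_ok, (okE_nil 276)⟩)⟩)⟩)⟩)⟩)⟩)⟩)⟩)⟩)

theorem T_s0 : Stab 276 (grp 276 Co3M.E) [] Co3M.lb_E 495766656000 :=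
  Stab.root' Co3M.lb_E_ok Co3M.eq_lb Co3M.card_grp

theorem T_s1 : Stab 276 (grp 276 Co3M.E) [nat_lit 0] V1 1796256000 :=
  Stab.step (k := 9) (L := (lab 276 9)) hn T_s0 V1_ok (grp_mono (List.subset_append_right [Co3M.g1, Co3M.g2] _)) (c := (Ch.cons (nat_lit 1) [nat_lit 1, nat_lit 3] (Ch.cons (nat_lit 6) [nat_lit 5, nat_lit 7] (Ch.cons (nat_lit 11) [nat_lit 9, nat_lit 11] (Ch.cons (nat_lit 16) [nat_lit 13, nat_lit 15, nat_lit 17] (Ch.cons (nat_lit 3) [nat_lit 19, nat_lit 21] Ch.nil)))))) (by decide +kernel)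

theorem one : OneFix (grp 276 Co3M.E) (⟨0, by decide⟩ : Fin 276) :=
  Stab.oneFix hn (by decide) T_s1 (grp_trans Co3M.E_ok (by decide) (by decide +kernel)) (ss := [nat_lit 0, nat_lit 1]) (by decide +kernel)

theorem fix_P5_le : grp 276 fix_P5 ≤ grp 276 V1 :=
  grp_le_of_memB hn hk V1_ok fix_P5_ok (ws := [nat_lit 0x130e140e0b0b14060d0b020d15, nat_lit 0x13150d0d09110905090801080b]) (by decide +kernel)

theorem le5 : grp 276 V4 ≤ grp 276 fix_P5 :=
  grp_le_of_memB hn hk fix_P5_ok V4_ok (ws := [nat_lit 1]) (by decide +kernel)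

theorem le9 : grp 276 V8 ≤ grp 276 fix_P5 :=
  grp_le_of_memB hn hk fix_P5_ok V8_ok (ws := [nat_lit 0x303030204, nat_lit 0x202030203020404010104]) (by decide +kernel)

theorem le12 : grp 276 V11 ≤ grp 276 V8 :=
  grp_le_of_memB hn hk V8_ok V11_ok (ws := [nat_lit 4]) (by decide +kernel)

theorem fix_P5_o_card2 : Nat.card (grp 276 fix_P5_o_E2) = 1 :=
  card_grp_nil 276

theorem fix_P5_o_leO2 : grp 276 fix_P5_o_E2 ≤ grp 276 fix_P5 :=
  grp_nil_le _

theorem fix_P5_o_1_fix : grp 276 fix_P5_o_E2 ≤ MulAction.stabilizer (Equiv.Perm (Fin 276)) (⟨222, by decide⟩ : Fin 276) :=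
  grp_le_stab fix_P5_o_E2_ok (by decide : 222 < 276) (by decide +kernel)

noncomputable def fix_P5_o_1_ts : List ℕ := [nat_lit 0, nat_lit 1, nat_lit 2, nat_lit 257, nat_lit 514]

noncomputable def fix_P5_o_1_ds : List ℕ := [nat_lit 222, nat_lit 269, nat_lit 48, nat_lit 195, nat_lit 116]

theorem fix_P5_o_1_dist : Dist 276 fix_P5_o_E2 fix_P5_o_G1 (⟨222, by decide⟩ : Fin 276) fix_P5_o_1_ts fix_P5_o_1_ds :=
  dist_of_distB (k := 3) hn fix_P5_o_E2_ok fix_P5_o_G1_ok (by decide : 222 < 276) (by decide +kernel)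

noncomputable def fix_P5_o_1_sl0 : SL := (SL.cons (nat_lit 1) (nat_lit 269) Ch.nil [] (SL.cons (nat_lit 2) (nat_lit 48) Ch.nil [] (SL.cons (nat_lit 257) (nat_lit 195) Ch.nil [] (SL.cons (nat_lit 514) (nat_lit 116) Ch.nil [] SL.nil))))

theorem fix_P5_o_1_sc0 : SCs 276 fix_P5_o_E2 fix_P5_o_G1 (⟨222, by decide⟩ : Fin 276) (SL.words fix_P5_o_1_sl0) :=
  scs_of_ok hn (det_lab hk ⊤) fix_P5_o_E2_ok fix_P5_o_G1_ok le_top le_top (by decide : 222 < 276) fix_P5_o_1_fix fix_P5_o_card2.le (by decide +kernel)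

noncomputable def fix_P5_o_1_l : List ℕ := (appL (SL.words fix_P5_o_1_sl0) [])

theorem fix_P5_o_1_scs : SCs 276 fix_P5_o_E2 fix_P5_o_G1 (⟨222, by decide⟩ : Fin 276) fix_P5_o_1_l :=
  (SCs.append fix_P5_o_1_sc0 SCs.nil)

noncomputable def fix_P5_o_1_rl0_0 : RL := (RL.cons (nat_lit 0) (nat_lit 222) (nat_lit 0) (nat_lit 0) (nat_lit 2) (nat_lit 0) (RL.cons (nat_lit 1) (nat_lit 269) (nat_lit 0) (nat_lit 0) (nat_lit 0) (nat_lit 0) (RL.cons (nat_lit 2) (nat_lit 48) (nat_lit 0) (nat_lit 0) (nat_lit 4) (nat_lit 0) (RL.cons (nat_lit 3) (nat_lit 195) (nat_lit 0) (nat_lit 0) (nat_lit 1) (nat_lit 0) (RL.cons (nat_lit 4) (nat_lit 116) (nat_lit 0) (nat_lit 0) (nat_lit 3) (nat_lit 0) RL.nil)))))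

theorem fix_P5_o_1_good0_0 : GoodSet 276 fix_P5_o_E2 fix_P5_o_G1 (⟨222, by decide⟩ : Fin 276) fix_P5_o_1_ts (nat_lit 1) (RL.pts fix_P5_o_1_rl0_0) :=
  goodSet_of_ok hn (det_lab hk ⊤) fix_P5_o_E2_ok fix_P5_o_G1_ok le_top le_top (by decide : 222 < 276) (sepAt_lab hk _) (by decide +kernel)

theorem fix_P5_o_1_step0 : Step 276 fix_P5_o_E2 fix_P5_o_G1 fix_P5_o_1_ts (2 * 0 + 1) :=
  step_of_cover fix_P5_o_E2_ok fix_P5_o_1_dist (by decide +kernel) fix_P5_o_1_scs (by decide +kernel) fix_P5_o_1_good0_0 (kw := [])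
    (conj_mem_of_scs fix_P5_o_E2_ok fix_P5_o_G1_ok (by decide : 222 < 276) fix_P5_o_1_scs (c := 0) (d := 269) (by decide +kernel)) (by decide +kernel)

theorem fix_P5_o_1_lev : grp 276 fix_P5_o_G1 ⊓ MulAction.stabilizer (Equiv.Perm (Fin 276)) (⟨222, by decide⟩ : Fin 276) = grp 276 fix_P5_o_E2 :=
  sims_level (gs := V11) rfl (by decide) fix_P5_o_1_fix fix_P5_o_1_dist (forall_lt_one fix_P5_o_1_step0)

theorem fix_P5_o_1_cardG : Nat.card (grp 276 fix_P5_o_G1) = 5 :=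
  card_of_level hn fix_P5_o_G1_ok (by decide : 222 < 276) fix_P5_o_1_lev fix_P5_o_card2 (m := 5) (by decide +kernel)

theorem le13 : grp 276 fix_P5_o_E1 ≤ grp 276 fix_P5_o_G1 :=
  grp_le_of_memB hn hk fix_P5_o_G1_ok fix_P5_o_E1_ok (ws := [nat_lit 1, nat_lit 257, nat_lit 2]) (by decide +kernel)

theorem le14 : grp 276 fix_P5_o_G1 ≤ grp 276 fix_P5_o_E1 :=
  grp_le_of_memB hn hk fix_P5_o_E1_ok fix_P5_o_G1_ok (ws := [nat_lit 1]) (by decide +kernel)

theorem fix_P5_o_1_eq : grp 276 fix_P5_o_E1 = grp 276 fix_P5_o_G1 :=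
  le_antisymm le13 le14

theorem fix_P5_o_card1 : Nat.card (grp 276 fix_P5_o_E1) = 5 :=
  by rw [fix_P5_o_1_eq]; exact fix_P5_o_1_cardG

theorem fix_P5_o_stab1 : grp 276 fix_P5_o_E1 ⊓ MulAction.stabilizer (Equiv.Perm (Fin 276)) (⟨222, by decide⟩ : Fin 276) = grp 276 fix_P5_o_E2 :=
  by rw [fix_P5_o_1_eq]; exact fix_P5_o_1_lev

theorem fix_P5_o_leO1 : grp 276 fix_P5_o_E1 ≤ grp 276 fix_P5 :=
  fix_P5_o_1_eq.le.trans (grp_cons_le ((le9.trans (le_refl (grp 276 fix_P5))) (le12 (toPerm_mem_grp (E := V11) (by simp [V11])))) fix_P5_o_leO2)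

theorem fix_P5_o_0_fix : grp 276 fix_P5_o_E1 ≤ MulAction.stabilizer (Equiv.Perm (Fin 276)) (⟨1, by decide⟩ : Fin 276) :=
  grp_le_stab fix_P5_o_E1_ok (by decide : 1 < 276) (by decide +kernel)

noncomputable def fix_P5_o_0_ts : List ℕ := [nat_lit 0, nat_lit 1, nat_lit 2, nat_lit 257, nat_lit 514, nat_lit 66306, nat_lit 66562, nat_lit 66818, nat_lit 67074]

noncomputable def fix_P5_o_0_ds : List ℕ := [nat_lit 1, nat_lit 222, nat_lit 124, nat_lit 204, nat_lit 109, nat_lit 30, nat_lit 267, nat_lit 35, nat_lit 2]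

theorem fix_P5_o_0_dist : Dist 276 fix_P5_o_E1 fix_P5_o_G0 (⟨1, by decide⟩ : Fin 276) fix_P5_o_0_ts fix_P5_o_0_ds :=
  dist_of_distB (k := 4) hn fix_P5_o_E1_ok fix_P5_o_G0_ok (by decide : 1 < 276) (by decide +kernel)

noncomputable def fix_P5_o_0_sl0 : SL := (SL.cons (nat_lit 1) (nat_lit 222) Ch.nil [] (SL.cons (nat_lit 2) (nat_lit 124) Ch.nil [] (SL.cons (nat_lit 257) (nat_lit 204) Ch.nil [] (SL.cons (nat_lit 514) (nat_lit 109) Ch.nil [] (SL.cons (nat_lit 66306) (nat_lit 30) (Ch.cons (nat_lit 3) [nat_lit 2] Ch.nil) [nat_lit 2] (SL.cons (nat_lit 66562) (nat_lit 267) (Ch.cons (nat_lit 3) [nat_lit 3] Ch.nil) [nat_lit 3] (SL.cons (nat_lit 66818) (nat_lit 35) (Ch.cons (nat_lit 3) [nat_lit 1] Ch.nil) [nat_lit 1] (SL.cons (nat_lit 67074) (nat_lit 2) (Ch.cons (nat_lit 3) [nat_lit 4] Ch.nil) [nat_lit 4] SL.nil))))))))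

theorem fix_P5_o_0_sc0 : SCs 276 fix_P5_o_E1 fix_P5_o_G0 (⟨1, by decide⟩ : Fin 276) (SL.words fix_P5_o_0_sl0) :=
  scs_of_ok hn (det_lab hk ⊤) fix_P5_o_E1_ok fix_P5_o_G0_ok le_top le_top (by decide : 1 < 276) fix_P5_o_0_fix fix_P5_o_card1.le (by decide +kernel)

noncomputable def fix_P5_o_0_l : List ℕ := (appL (SL.words fix_P5_o_0_sl0) [])

theorem fix_P5_o_0_scs : SCs 276 fix_P5_o_E1 fix_P5_o_G0 (⟨1, by decide⟩ : Fin 276) fix_P5_o_0_l :=
  (SCs.append fix_P5_o_0_sc0 SCs.nil)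

noncomputable def fix_P5_o_0_rl0_0 : RL := (RL.cons (nat_lit 0) (nat_lit 1) (nat_lit 0) (nat_lit 0) (nat_lit 2) (nat_lit 0) (RL.cons (nat_lit 1) (nat_lit 222) (nat_lit 0) (nat_lit 0) (nat_lit 0) (nat_lit 0) (RL.cons (nat_lit 1) (nat_lit 269) (nat_lit 1) (nat_lit 0) (nat_lit 5) (nat_lit 0) (RL.cons (nat_lit 1) (nat_lit 48) (nat_lit 2) (nat_lit 0) (nat_lit 6) (nat_lit 0) (RL.cons (nat_lit 1) (nat_lit 195) (nat_lit 3) (nat_lit 0) (nat_lit 7) (nat_lit 0) (RL.cons (nat_lit 1) (nat_lit 116) (nat_lit 4) (nat_lit 0) (nat_lit 8) (nat_lit 0) (RL.cons (nat_lit 2) (nat_lit 124) (nat_lit 0) (nat_lit 0) (nat_lit 4) (nat_lit 0) (RL.cons (nat_lit 2) (nat_lit 250) (nat_lit 1) (nat_lit 4) (nat_lit 4) (nat_lit 4) (RL.cons (nat_lit 2) (nat_lit 55) (nat_lit 2) (nat_lit 3) (nat_lit 4) (nat_lit 3) (RL.cons (nat_lit 2) (nat_lit 57) (nat_lit 3) (nat_lit 1) (nat_lit 4) (nat_lit 1) (RL.cons (nat_lit 2) (nat_lit 79) (nat_lit 4) (nat_lit 2) (nat_lit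 4) (nat_lit 2) (RL.cons (nat_lit 3) (nat_lit 204) (nat_lit 0) (nat_lit 0) (nat_lit 1) (nat_lit 0) (RL.cons (nat_lit 3) (nat_lit 142) (nat_lit 1) (nat_lit 3) (nat_lit 1) (nat_lit 2) (RL.cons (nat_lit 3) (nat_lit 234) (nat_lit 2) (nat_lit 4) (nat_lit 1) (nat_lit 1) (RL.cons (nat_lit 3) (nat_lit 177) (nat_lit 3) (nat_lit 2) (nat_lit 1) (nat_lit 4) (RL.cons (nat_lit 3) (nat_lit 84) (nat_lit 4) (nat_lit 1) (nat_lit 1) (nat_lit 3) (RL.cons (nat_lit 4) (nat_lit 109) (nat_lit 0) (nat_lit 0) (nat_lit 3) (nat_lit 0) (RL.cons (nat_lit 4) (nat_lit 104) (nat_lit 1) (nat_lit 2) (nat_lit 3) (nat_lit 3) (RL.cons (nat_lit 4) (nat_lit 129) (nat_lit 2) (nat_lit 1) (nat_lit 3) (nat_lit 4) (RL.cons (nat_lit 4) (nat_lit 149) (nat_lit 3) (nat_lit 4) (nat_lit 3) (nat_lit 2) (RL.cons (nat_lit 4) (nat_lit 32) (nat_lit 4) (nat_lit 3) (nat_lit 3) (nat_lit 1) (RL.cons (nat_lit 5) (nat_lit 30) (nat_lit 0) (nat_lit 2) (nat_lit 2) (nat_lit 3) (RL.cons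 (nat_lit 6) (nat_lit 267) (nat_lit 0) (nat_lit 1) (nat_lit 2) (nat_lit 4) (RL.cons (nat_lit 7) (nat_lit 35) (nat_lit 0) (nat_lit 4) (nat_lit 2) (nat_lit 2) (RL.cons (nat_lit 8) (nat_lit 2) (nat_lit 0) (nat_lit 3) (nat_lit 2) (nat_lit 1) RL.nil)))))))))))))))))))))))))

theorem fix_P5_o_0_good0_0 : GoodSet 276 fix_P5_o_E1 fix_P5_o_G0 (⟨1, by decide⟩ : Fin 276) fix_P5_o_0_ts (nat_lit 1) (RL.pts fix_P5_o_0_rl0_0) :=
  goodSet_of_ok hn (det_lab hk ⊤) fix_P5_o_E1_ok fix_P5_o_G0_ok le_top le_top (by decide : 1 < 276) (sepAt_lab hk _) (by decide +kernel)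

theorem fix_P5_o_0_step0 : Step 276 fix_P5_o_E1 fix_P5_o_G0 fix_P5_o_0_ts (2 * 0 + 1) :=
  step_of_cover fix_P5_o_E1_ok fix_P5_o_0_dist (by decide +kernel) fix_P5_o_0_scs (by decide +kernel) fix_P5_o_0_good0_0 (kw := [])
    (conj_mem_of_scs fix_P5_o_E1_ok fix_P5_o_G0_ok (by decide : 1 < 276) fix_P5_o_0_scs (c := 0) (d := 222) (by decide +kernel)) (by decide +kernel)

theorem fix_P5_o_0_lev : grp 276 fix_P5_o_G0 ⊓ MulAction.stabilizer (Equiv.Perm (Fin 276)) (⟨1, by decide⟩ : Fin 276) = grp 276 fix_P5_o_E1 :=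
  sims_level (gs := V4) rfl (by decide) fix_P5_o_0_fix fix_P5_o_0_dist (forall_lt_one fix_P5_o_0_step0)

theorem fix_P5_o_0_cardG : Nat.card (grp 276 fix_P5_o_G0) = 125 :=
  card_of_level hn fix_P5_o_G0_ok (by decide : 1 < 276) fix_P5_o_0_lev fix_P5_o_card1 (m := 25) (by decide +kernel)

theorem le15 : grp 276 fix_P5_o_E0 ≤ grp 276 fix_P5_o_G0 :=
  grp_le_of_memB hn hk fix_P5_o_G0_ok fix_P5_o_E0_ok (ws := [nat_lit 1, nat_lit 131587, nat_lit 3, nat_lit 5, nat_lit 7]) (by decide +kernel)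

theorem le16 : grp 276 fix_P5_o_G0 ≤ grp 276 fix_P5_o_E0 :=
  grp_le_of_memB hn hk fix_P5_o_E0_ok fix_P5_o_G0_ok (ws := [nat_lit 1, nat_lit 5, nat_lit 7, nat_lit 9]) (by decide +kernel)

theorem fix_P5_o_0_eq : grp 276 fix_P5_o_E0 = grp 276 fix_P5_o_G0 :=
  le_antisymm le15 le16

theorem fix_P5_o_card0 : Nat.card (grp 276 fix_P5_o_E0) = 125 :=
  by rw [fix_P5_o_0_eq]; exact fix_P5_o_0_cardG

theorem fix_P5_o_stab0 : grp 276 fix_P5_o_E0 ⊓ MulAction.stabilizer (Equiv.Perm (Fin 276)) (⟨1, by decide⟩ : Fin 276) = grp 276 fix_P5_o_E1 :=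
  by rw [fix_P5_o_0_eq]; exact fix_P5_o_0_lev

theorem fix_P5_o_leO0 : grp 276 fix_P5_o_E0 ≤ grp 276 fix_P5 :=
  fix_P5_o_0_eq.le.trans (grp_cons_le ((le_refl (grp 276 fix_P5)) (le5 (toPerm_mem_grp (E := V4) (by simp [V4])))) fix_P5_o_leO1)

theorem le17 : grp 276 fix_P5 ≤ grp 276 fix_P5_o_E0 :=
  grp_le_of_memB hn hk fix_P5_o_E0_ok fix_P5_ok (ws := [nat_lit 1, nat_lit 3]) (by decide +kernel)

theorem fix_P5_o_eq : grp 276 fix_P5 = grp 276 fix_P5_o_E0 :=
  le_antisymm le17 fix_P5_o_leO0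

theorem fix_P5_o_card : Nat.card (grp 276 fix_P5) = 125 :=
  by rw [fix_P5_o_eq]; exact fix_P5_o_card0

noncomputable def fix_P5_o_ch : Ch := (Ch.cons (nat_lit 1) [nat_lit 1, nat_lit 3] (Ch.cons (nat_lit 222) [nat_lit 5, nat_lit 7, nat_lit 9] Ch.nil))

theorem fix_P5_o_exact : Ch.Exact 276 fix_P5_o_E0 fix_P5_o_ch (grp 276 fix_P5_o_E0) :=
  Ch.exact (k := 9) (L := (lab 276 9)) hn fix_P5_o_E0_ok (by decide +kernel) (wgrp_le_grp _ _ _) fix_P5_o_card0.le

theorem fix_P5_ai : AI (grp 276 Co3M.E) (grp 276 fix_P5) :=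
  (AI.top _).sylow (fix_P5_le.trans T_s1.le) (p := 5) (k := 3) (by norm_num) fix_P5_o_card (by rw [Co3M.card_grp]; norm_num)

theorem fix_P5_res : ∀ c ∈ [(5, 1), (25, 1), (125, 151)], Res (grp 276 fix_P5) c.1 c.2 :=
  res_of_check hn fix_P5_ok (ss := [nat_lit 0, nat_lit 1, nat_lit 3, nat_lit 4, nat_lit 6, nat_lit 11, nat_lit 15, nat_lit 17]) (by decide +kernel)

theorem fix_P11_le : grp 276 fix_P11 ≤ grp 276 V1 :=
  grp_le_of_memB hn hk V1_ok fix_P11_ok (ws := [nat_lit 0xd0d0d13090e0b07090d0101060f]) (by decide +kernel)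

theorem le20 : grp 276 V19 ≤ grp 276 fix_P11 :=
  grp_le_of_memB hn hk fix_P11_ok V19_ok (ws := [nat_lit 1]) (by decide +kernel)

theorem fix_P11_o_card1 : Nat.card (grp 276 fix_P11_o_E1) = 1 :=
  card_grp_nil 276

theorem fix_P11_o_leO1 : grp 276 fix_P11_o_E1 ≤ grp 276 fix_P11 :=
  grp_nil_le _

theorem fix_P11_o_0_fix : grp 276 fix_P11_o_E1 ≤ MulAction.stabilizer (Equiv.Perm (Fin 276)) (⟨1, by decide⟩ : Fin 276) :=
  grp_le_stab fix_P11_o_E1_ok (by decide : 1 < 276) (by decide +kernel)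

noncomputable def fix_P11_o_0_ts : List ℕ := [nat_lit 0, nat_lit 1, nat_lit 2, nat_lit 257, nat_lit 514, nat_lit 65793, nat_lit 131586, nat_lit 0x1010101, nat_lit 0x2020202, nat_lit 0x101010101, nat_lit 0x202020202]

noncomputable def fix_P11_o_0_ds : List ℕ := [nat_lit 1, nat_lit 117, nat_lit 137, nat_lit 221, nat_lit 274, nat_lit 273, nat_lit 230, nat_lit 68, nat_lit 15, nat_lit 229, nat_lit 93]

theorem fix_P11_o_0_dist : Dist 276 fix_P11_o_E1 fix_P11_o_G0 (⟨1, by decide⟩ : Fin 276) fix_P11_o_0_ts fix_P11_o_0_ds :=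
  dist_of_distB (k := 4) hn fix_P11_o_E1_ok fix_P11_o_G0_ok (by decide : 1 < 276) (by decide +kernel)

noncomputable def fix_P11_o_0_sl0 : SL := (SL.cons (nat_lit 1) (nat_lit 117) Ch.nil [] (SL.cons (nat_lit 2) (nat_lit 137) Ch.nil [] (SL.cons (nat_lit 257) (nat_lit 221) Ch.nil [] (SL.cons (nat_lit 514) (nat_lit 274) Ch.nil [] (SL.cons (nat_lit 65793) (nat_lit 273) Ch.nil [] (SL.cons (nat_lit 131586) (nat_lit 230) Ch.nil [] (SL.cons (nat_lit 0x1010101) (nat_lit 68) Ch.nil [] (SL.cons (nat_lit 0x2020202) (nat_lit 15) Ch.nil [] (SL.cons (nat_lit 0x101010101) (nat_lit 229) Ch.nil [] (SL.cons (nat_lit 0x202020202) (nat_lit 93) Ch.nil [] SL.nil))))))))))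

theorem fix_P11_o_0_sc0 : SCs 276 fix_P11_o_E1 fix_P11_o_G0 (⟨1, by decide⟩ : Fin 276) (SL.words fix_P11_o_0_sl0) :=
  scs_of_ok hn (det_lab hk ⊤) fix_P11_o_E1_ok fix_P11_o_G0_ok le_top le_top (by decide : 1 < 276) fix_P11_o_0_fix fix_P11_o_card1.le (by decide +kernel)

noncomputable def fix_P11_o_0_l : List ℕ := (appL (SL.words fix_P11_o_0_sl0) [])

theorem fix_P11_o_0_scs : SCs 276 fix_P11_o_E1 fix_P11_o_G0 (⟨1, by decide⟩ : Fin 276) fix_P11_o_0_l :=
  (SCs.append fix_P11_o_0_sc0 SCs.nil)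

noncomputable def fix_P11_o_0_rl0_0 : RL := (RL.cons (nat_lit 0) (nat_lit 1) (nat_lit 0) (nat_lit 0) (nat_lit 2) (nat_lit 0) (RL.cons (nat_lit 1) (nat_lit 117) (nat_lit 0) (nat_lit 0) (nat_lit 0) (nat_lit 0) (RL.cons (nat_lit 2) (nat_lit 137) (nat_lit 0) (nat_lit 0) (nat_lit 4) (nat_lit 0) (RL.cons (nat_lit 3) (nat_lit 221) (nat_lit 0) (nat_lit 0) (nat_lit 1) (nat_lit 0) (RL.cons (nat_lit 4) (nat_lit 274) (nat_lit 0) (nat_lit 0) (nat_lit 6) (nat_lit 0) (RL.cons (nat_lit 5) (nat_lit 273) (nat_lit 0) (nat_lit 0) (nat_lit 3) (nat_lit 0) (RL.cons (nat_lit 6) (nat_lit 230) (nat_lit 0) (nat_lit 0) (nat_lit 8) (nat_lit 0) (RL.cons (nat_lit 7) (nat_lit 68) (nat_lit 0) (nat_lit 0) (nat_lit 5) (nat_lit 0) (RL.cons (nat_lit 8) (nat_lit 15) (nat_lit 0) (nat_lit 0) (nat_lit 10) (nat_lit 0) (RL.cons (nat_lit 9) (nat_lit 229) (nat_lit 0) (nat_lit 0) (nat_lit 7) (nat_lit 0) (RL.cons (nat_lit 10) (nat_lit 93) (nat_lit 0) (nat_lit 0) (nat_lit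 9) (nat_lit 0) RL.nil)))))))))))

theorem fix_P11_o_0_good0_0 : GoodSet 276 fix_P11_o_E1 fix_P11_o_G0 (⟨1, by decide⟩ : Fin 276) fix_P11_o_0_ts (nat_lit 1) (RL.pts fix_P11_o_0_rl0_0) :=
  goodSet_of_ok hn (det_lab hk ⊤) fix_P11_o_E1_ok fix_P11_o_G0_ok le_top le_top (by decide : 1 < 276) (sepAt_lab hk _) (by decide +kernel)

theorem fix_P11_o_0_step0 : Step 276 fix_P11_o_E1 fix_P11_o_G0 fix_P11_o_0_ts (2 * 0 + 1) :=
  step_of_cover fix_P11_o_E1_ok fix_P11_o_0_dist (by decide +kernel) fix_P11_o_0_scs (by decide +kernel) fix_P11_o_0_good0_0 (kw := [])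
    (conj_mem_of_scs fix_P11_o_E1_ok fix_P11_o_G0_ok (by decide : 1 < 276) fix_P11_o_0_scs (c := 0) (d := 117) (by decide +kernel)) (by decide +kernel)

theorem fix_P11_o_0_lev : grp 276 fix_P11_o_G0 ⊓ MulAction.stabilizer (Equiv.Perm (Fin 276)) (⟨1, by decide⟩ : Fin 276) = grp 276 fix_P11_o_E1 :=
  sims_level (gs := V19) rfl (by decide) fix_P11_o_0_fix fix_P11_o_0_dist (forall_lt_one fix_P11_o_0_step0)

theorem fix_P11_o_0_cardG : Nat.card (grp 276 fix_P11_o_G0) = 11 :=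
  card_of_level hn fix_P11_o_G0_ok (by decide : 1 < 276) fix_P11_o_0_lev fix_P11_o_card1 (m := 11) (by decide +kernel)

theorem le21 : grp 276 fix_P11_o_E0 ≤ grp 276 fix_P11_o_G0 :=
  grp_le_of_memB hn hk fix_P11_o_G0_ok fix_P11_o_E0_ok (ws := [nat_lit 1]) (by decide +kernel)

theorem le22 : grp 276 fix_P11_o_G0 ≤ grp 276 fix_P11_o_E0 :=
  grp_le_of_memB hn hk fix_P11_o_E0_ok fix_P11_o_G0_ok (ws := [nat_lit 1]) (by decide +kernel)

theorem fix_P11_o_0_eq : grp 276 fix_P11_o_E0 = grp 276 fix_P11_o_G0 :=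
  le_antisymm le21 le22

theorem fix_P11_o_card0 : Nat.card (grp 276 fix_P11_o_E0) = 11 :=
  by rw [fix_P11_o_0_eq]; exact fix_P11_o_0_cardG

theorem fix_P11_o_stab0 : grp 276 fix_P11_o_E0 ⊓ MulAction.stabilizer (Equiv.Perm (Fin 276)) (⟨1, by decide⟩ : Fin 276) = grp 276 fix_P11_o_E1 :=
  by rw [fix_P11_o_0_eq]; exact fix_P11_o_0_lev

theorem fix_P11_o_leO0 : grp 276 fix_P11_o_E0 ≤ grp 276 fix_P11 :=
  fix_P11_o_0_eq.le.trans (grp_cons_le ((le_refl (grp 276 fix_P11)) (le20 (toPerm_mem_grp (E := V19) (by simp [V19])))) fix_P11_o_leO1)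

theorem le23 : grp 276 fix_P11 ≤ grp 276 fix_P11_o_E0 :=
  grp_le_of_memB hn hk fix_P11_o_E0_ok fix_P11_ok (ws := [nat_lit 1]) (by decide +kernel)

theorem fix_P11_o_eq : grp 276 fix_P11 = grp 276 fix_P11_o_E0 :=
  le_antisymm le23 fix_P11_o_leO0

theorem fix_P11_o_card : Nat.card (grp 276 fix_P11) = 11 :=
  by rw [fix_P11_o_eq]; exact fix_P11_o_card0

noncomputable def fix_P11_o_ch : Ch := (Ch.cons (nat_lit 1) [nat_lit 1] Ch.nil)

theorem fix_P11_o_exact : Ch.Exact 276 fix_P11_o_E0 fix_P11_o_ch (grp 276 fix_P11_o_E0) :=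
  Ch.exact (k := 9) (L := (lab 276 9)) hn fix_P11_o_E0_ok (by decide +kernel) (wgrp_le_grp _ _ _) fix_P11_o_card0.le

theorem fix_P11_ai : AI (grp 276 Co3M.E) (grp 276 fix_P11) :=
  (AI.top _).sylow (fix_P11_le.trans T_s1.le) (p := 11) (k := 1) (by norm_num) fix_P11_o_card (by rw [Co3M.card_grp]; norm_num)

theorem fix_P11_res : ∀ c ∈ [(11, 1)], Res (grp 276 fix_P11) c.1 c.2 :=
  res_of_check hn fix_P11_ok (ss := [nat_lit 0, nat_lit 1, nat_lit 2, nat_lit 3, nat_lit 5, nat_lit 6, nat_lit 9, nat_lit 10, nat_lit 11, nat_lit 12, nat_lit 13, nat_lit 14, nat_lit 16, nat_lit 17, nat_lit 19, nat_lit 23, nat_lit 25, nat_lit 28, nat_lit 29, nat_lit 30, nat_lit 33, nat_lit 41, nat_lit 55, nat_lit 59, nat_lit 67, nat_lit 94]) (by decide +kernel)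

theorem fix_P3_le : grp 276 fix_P3 ≤ grp 276 V1 :=
  grp_le_of_memB hn hk V1_ok fix_P3_ok (ws := [nat_lit 0x130d140e09130d050b0e, nat_lit 0x130d0d0d11091109070c07, nat_lit 0x140d0f15090b0b11050908]) (by decide +kernel)

theorem le28 : grp 276 V27 ≤ grp 276 fix_P3 :=
  grp_le_of_memB hn hk fix_P3_ok V27_ok (ws := [nat_lit 3]) (by decide +kernel)

theorem le34 : grp 276 V33 ≤ grp 276 fix_P3 :=
  grp_le_of_memB hn hk fix_P3_ok V33_ok (ws := [nat_lit 0x502040604010104010504, nat_lit 0x10602020306010103030104, nat_lit 0x10505020602040603, nat_lit 0x104040405020303]) (by decide +kernel)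

theorem le39 : grp 276 V38 ≤ grp 276 V33 :=
  grp_le_of_memB hn hk V33_ok V38_ok (ws := [nat_lit 2050, nat_lit 2, nat_lit 1032]) (by decide +kernel)

theorem le43 : grp 276 V42 ≤ grp 276 V33 :=
  grp_le_of_memB hn hk V33_ok V42_ok (ws := [nat_lit 0x2060204040202020702, nat_lit 0x80301010602]) (by decide +kernel)

theorem le46 : grp 276 V45 ≤ grp 276 V42 :=
  grp_le_of_memB hn hk V42_ok V45_ok (ws := [nat_lit 4]) (by decide +kernel)

theorem le48 : grp 276 V47 ≤ grp 276 V42 :=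
  grp_le_of_memB hn hk V42_ok V47_ok (ws := [nat_lit 0x101030204, nat_lit 196868]) (by decide +kernel)

theorem le51 : grp 276 V50 ≤ grp 276 V47 :=
  grp_le_of_memB hn hk V47_ok V50_ok (ws := [nat_lit 2]) (by decide +kernel)

theorem fix_P3_o_card4 : Nat.card (grp 276 fix_P3_o_E4) = 1 :=
  card_grp_nil 276

theorem fix_P3_o_leO4 : grp 276 fix_P3_o_E4 ≤ grp 276 fix_P3 :=
  grp_nil_le _

theorem fix_P3_o_3_fix : grp 276 fix_P3_o_E4 ≤ MulAction.stabilizer (Equiv.Perm (Fin 276)) (⟨4, by decide⟩ : Fin 276) :=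
  grp_le_stab fix_P3_o_E4_ok (by decide : 4 < 276) (by decide +kernel)

noncomputable def fix_P3_o_3_ts : List ℕ := [nat_lit 0, nat_lit 1, nat_lit 2]

noncomputable def fix_P3_o_3_ds : List ℕ := [nat_lit 4, nat_lit 146, nat_lit 91]

theorem fix_P3_o_3_dist : Dist 276 fix_P3_o_E4 fix_P3_o_G3 (⟨4, by decide⟩ : Fin 276) fix_P3_o_3_ts fix_P3_o_3_ds :=
  dist_of_distB (k := 2) hn fix_P3_o_E4_ok fix_P3_o_G3_ok (by decide : 4 < 276) (by decide +kernel)

noncomputable def fix_P3_o_3_sl0 : SL := (SL.cons (nat_lit 1) (nat_lit 146) Ch.nil [] (SL.cons (nat_lit 2) (nat_lit 91) Ch.nil [] SL.nil))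

theorem fix_P3_o_3_sc0 : SCs 276 fix_P3_o_E4 fix_P3_o_G3 (⟨4, by decide⟩ : Fin 276) (SL.words fix_P3_o_3_sl0) :=
  scs_of_ok hn (det_lab hk ⊤) fix_P3_o_E4_ok fix_P3_o_G3_ok le_top le_top (by decide : 4 < 276) fix_P3_o_3_fix fix_P3_o_card4.le (by decide +kernel)

noncomputable def fix_P3_o_3_l : List ℕ := (appL (SL.words fix_P3_o_3_sl0) [])

theorem fix_P3_o_3_scs : SCs 276 fix_P3_o_E4 fix_P3_o_G3 (⟨4, by decide⟩ : Fin 276) fix_P3_o_3_l :=
  (SCs.append fix_P3_o_3_sc0 SCs.nil)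

noncomputable def fix_P3_o_3_rl0_0 : RL := (RL.cons (nat_lit 0) (nat_lit 4) (nat_lit 0) (nat_lit 0) (nat_lit 2) (nat_lit 0) (RL.cons (nat_lit 1) (nat_lit 146) (nat_lit 0) (nat_lit 0) (nat_lit 0) (nat_lit 0) (RL.cons (nat_lit 2) (nat_lit 91) (nat_lit 0) (nat_lit 0) (nat_lit 1) (nat_lit 0) RL.nil)))

theorem fix_P3_o_3_good0_0 : GoodSet 276 fix_P3_o_E4 fix_P3_o_G3 (⟨4, by decide⟩ : Fin 276) fix_P3_o_3_ts (nat_lit 1) (RL.pts fix_P3_o_3_rl0_0) :=
  goodSet_of_ok hn (det_lab hk ⊤) fix_P3_o_E4_ok fix_P3_o_G3_ok le_top le_top (by decide : 4 < 276) (sepAt_lab hk _) (by decide +kernel)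

theorem fix_P3_o_3_step0 : Step 276 fix_P3_o_E4 fix_P3_o_G3 fix_P3_o_3_ts (2 * 0 + 1) :=
  step_of_cover fix_P3_o_E4_ok fix_P3_o_3_dist (by decide +kernel) fix_P3_o_3_scs (by decide +kernel) fix_P3_o_3_good0_0 (kw := [])
    (conj_mem_of_scs fix_P3_o_E4_ok fix_P3_o_G3_ok (by decide : 4 < 276) fix_P3_o_3_scs (c := 0) (d := 146) (by decide +kernel)) (by decide +kernel)

theorem fix_P3_o_3_lev : grp 276 fix_P3_o_G3 ⊓ MulAction.stabilizer (Equiv.Perm (Fin 276)) (⟨4, by decide⟩ : Fin 276) = grp 276 fix_P3_o_E4 :=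
  sims_level (gs := V50) rfl (by decide) fix_P3_o_3_fix fix_P3_o_3_dist (forall_lt_one fix_P3_o_3_step0)

theorem fix_P3_o_3_cardG : Nat.card (grp 276 fix_P3_o_G3) = 3 :=
  card_of_level hn fix_P3_o_G3_ok (by decide : 4 < 276) fix_P3_o_3_lev fix_P3_o_card4 (m := 3) (by decide +kernel)

theorem le52 : grp 276 fix_P3_o_E3 ≤ grp 276 fix_P3_o_G3 :=
  grp_le_of_memB hn hk fix_P3_o_G3_ok fix_P3_o_E3_ok (ws := [nat_lit 1, nat_lit 2, nat_lit 2]) (by decide +kernel)

theorem le53 : grp 276 fix_P3_o_G3 ≤ grp 276 fix_P3_o_E3 :=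
  grp_le_of_memB hn hk fix_P3_o_E3_ok fix_P3_o_G3_ok (ws := [nat_lit 1]) (by decide +kernel)

theorem fix_P3_o_3_eq : grp 276 fix_P3_o_E3 = grp 276 fix_P3_o_G3 :=
  le_antisymm le52 le53

theorem fix_P3_o_card3 : Nat.card (grp 276 fix_P3_o_E3) = 3 :=
  by rw [fix_P3_o_3_eq]; exact fix_P3_o_3_cardG

theorem fix_P3_o_stab3 : grp 276 fix_P3_o_E3 ⊓ MulAction.stabilizer (Equiv.Perm (Fin 276)) (⟨4, by decide⟩ : Fin 276) = grp 276 fix_P3_o_E4 :=
  by rw [fix_P3_o_3_eq]; exact fix_P3_o_3_lev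

theorem fix_P3_o_leO3 : grp 276 fix_P3_o_E3 ≤ grp 276 fix_P3 :=
  fix_P3_o_3_eq.le.trans (grp_cons_le ((le48.trans (le43.trans (le34.trans (le_refl (grp 276 fix_P3))))) (le51 (toPerm_mem_grp (E := V50) (by simp [V50])))) fix_P3_o_leO4)

theorem fix_P3_o_2_fix : grp 276 fix_P3_o_E3 ≤ MulAction.stabilizer (Equiv.Perm (Fin 276)) (⟨45, by decide⟩ : Fin 276) :=
  grp_le_stab fix_P3_o_E3_ok (by decide : 45 < 276) (by decide +kernel)

noncomputable def fix_P3_o_2_ts : List ℕ := [nat_lit 0, nat_lit 1, nat_lit 2]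

noncomputable def fix_P3_o_2_ds : List ℕ := [nat_lit 45, nat_lit 194, nat_lit 66]

theorem fix_P3_o_2_dist : Dist 276 fix_P3_o_E3 fix_P3_o_G2 (⟨45, by decide⟩ : Fin 276) fix_P3_o_2_ts fix_P3_o_2_ds :=
  dist_of_distB (k := 2) hn fix_P3_o_E3_ok fix_P3_o_G2_ok (by decide : 45 < 276) (by decide +kernel)

noncomputable def fix_P3_o_2_sl0 : SL := (SL.cons (nat_lit 1) (nat_lit 194) (Ch.cons (nat_lit 4) [nat_lit 2] Ch.nil) [nat_lit 2] (SL.cons (nat_lit 2) (nat_lit 66) (Ch.cons (nat_lit 4) [nat_lit 2] Ch.nil) [nat_lit 2] SL.nil))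

theorem fix_P3_o_2_sc0 : SCs 276 fix_P3_o_E3 fix_P3_o_G2 (⟨45, by decide⟩ : Fin 276) (SL.words fix_P3_o_2_sl0) :=
  scs_of_ok hn (det_lab hk ⊤) fix_P3_o_E3_ok fix_P3_o_G2_ok le_top le_top (by decide : 45 < 276) fix_P3_o_2_fix fix_P3_o_card3.le (by decide +kernel)

noncomputable def fix_P3_o_2_l : List ℕ := (appL (SL.words fix_P3_o_2_sl0) [])

theorem fix_P3_o_2_scs : SCs 276 fix_P3_o_E3 fix_P3_o_G2 (⟨45, by decide⟩ : Fin 276) fix_P3_o_2_l :=
  (SCs.append fix_P3_o_2_sc0 SCs.nil)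

noncomputable def fix_P3_o_2_rl0_0 : RL := (RL.cons (nat_lit 0) (nat_lit 45) (nat_lit 0) (nat_lit 0) (nat_lit 2) (nat_lit 0) (RL.cons (nat_lit 1) (nat_lit 194) (nat_lit 0) (nat_lit 0) (nat_lit 0) (nat_lit 0) (RL.cons (nat_lit 2) (nat_lit 66) (nat_lit 0) (nat_lit 0) (nat_lit 1) (nat_lit 0) RL.nil)))

theorem fix_P3_o_2_good0_0 : GoodSet 276 fix_P3_o_E3 fix_P3_o_G2 (⟨45, by decide⟩ : Fin 276) fix_P3_o_2_ts (nat_lit 1) (RL.pts fix_P3_o_2_rl0_0) :=
  goodSet_of_ok hn (det_lab hk ⊤) fix_P3_o_E3_ok fix_P3_o_G2_ok le_top le_top (by decide : 45 < 276) (sepAt_lab hk _) (by decide +kernel)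

theorem fix_P3_o_2_step0 : Step 276 fix_P3_o_E3 fix_P3_o_G2 fix_P3_o_2_ts (2 * 0 + 1) :=
  step_of_cover fix_P3_o_E3_ok fix_P3_o_2_dist (by decide +kernel) fix_P3_o_2_scs (by decide +kernel) fix_P3_o_2_good0_0 (kw := [nat_lit 2])
    (conj_mem_of_scs fix_P3_o_E3_ok fix_P3_o_G2_ok (by decide : 45 < 276) fix_P3_o_2_scs (c := 0) (d := 194) (by decide +kernel)) (by decide +kernel)

theorem fix_P3_o_2_lev : grp 276 fix_P3_o_G2 ⊓ MulAction.stabilizer (Equiv.Perm (Fin 276)) (⟨45, by decide⟩ : Fin 276) = grp 276 fix_P3_o_E3 :=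
  sims_level (gs := V45) rfl (by decide) fix_P3_o_2_fix fix_P3_o_2_dist (forall_lt_one fix_P3_o_2_step0)

theorem fix_P3_o_2_cardG : Nat.card (grp 276 fix_P3_o_G2) = 9 :=
  card_of_level hn fix_P3_o_G2_ok (by decide : 45 < 276) fix_P3_o_2_lev fix_P3_o_card3 (m := 3) (by decide +kernel)

theorem le54 : grp 276 fix_P3_o_E2 ≤ grp 276 fix_P3_o_G2 :=
  grp_le_of_memB hn hk fix_P3_o_G2_ok fix_P3_o_E2_ok (ws := [nat_lit 1, nat_lit 2, nat_lit 3, nat_lit 5, nat_lit 5]) (by decide +kernel)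

theorem le55 : grp 276 fix_P3_o_G2 ≤ grp 276 fix_P3_o_E2 :=
  grp_le_of_memB hn hk fix_P3_o_E2_ok fix_P3_o_G2_ok (ws := [nat_lit 1, nat_lit 5, nat_lit 7, nat_lit 7]) (by decide +kernel)

theorem fix_P3_o_2_eq : grp 276 fix_P3_o_E2 = grp 276 fix_P3_o_G2 :=
  le_antisymm le54 le55

theorem fix_P3_o_card2 : Nat.card (grp 276 fix_P3_o_E2) = 9 :=
  by rw [fix_P3_o_2_eq]; exact fix_P3_o_2_cardG

theorem fix_P3_o_stab2 : grp 276 fix_P3_o_E2 ⊓ MulAction.stabilizer (Equiv.Perm (Fin 276)) (⟨45, by decide⟩ : Fin 276) = grp 276 fix_P3_o_E3 :=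
  by rw [fix_P3_o_2_eq]; exact fix_P3_o_2_lev

theorem fix_P3_o_leO2 : grp 276 fix_P3_o_E2 ≤ grp 276 fix_P3 :=
  fix_P3_o_2_eq.le.trans (grp_cons_le ((le43.trans (le34.trans (le_refl (grp 276 fix_P3)))) (le46 (toPerm_mem_grp (E := V45) (by simp [V45])))) fix_P3_o_leO3)

theorem fix_P3_o_1_fix : grp 276 fix_P3_o_E2 ≤ MulAction.stabilizer (Equiv.Perm (Fin 276)) (⟨3, by decide⟩ : Fin 276) :=
  grp_le_stab fix_P3_o_E2_ok (by decide : 3 < 276) (by decide +kernel)

noncomputable def fix_P3_o_1_ts : List ℕ := [nat_lit 0, nat_lit 1, nat_lit 2, nat_lit 3, nat_lit 4, nat_lit 5, nat_lit 6, nat_lit 773, nat_lit 774, nat_lit 1029, nat_lit 1030]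

noncomputable def fix_P3_o_1_ds : List ℕ := [nat_lit 3, nat_lit 81, nat_lit 158, nat_lit 45, nat_lit 214, nat_lit 205, nat_lit 72, nat_lit 46, nat_lit 258, nat_lit 94, nat_lit 164]

theorem fix_P3_o_1_dist : Dist 276 fix_P3_o_E2 fix_P3_o_G1 (⟨3, by decide⟩ : Fin 276) fix_P3_o_1_ts fix_P3_o_1_ds :=
  dist_of_distB (k := 4) hn fix_P3_o_E2_ok fix_P3_o_G1_ok (by decide : 3 < 276) (by decide +kernel)

noncomputable def fix_P3_o_1_sl0 : SL := (SL.cons (nat_lit 1) (nat_lit 81) (Ch.cons (nat_lit 4) [nat_lit 1538, nat_lit 5] Ch.nil) [nat_lit 1538, nat_lit 5] (SL.cons (nat_lit 2) (nat_lit 158) (Ch.cons (nat_lit 4) [nat_lit 6, nat_lit 2] Ch.nil) [nat_lit 6, nat_lit 2] (SL.cons (nat_lit 3) (nat_lit 45) (Ch.cons (nat_lit 4) [nat_lit 5, nat_lit 7, nat_lit 9] Ch.nil) [nat_lit 5, nat_lit 6, nat_lit 6] (SL.cons (nat_lit 4) (nat_lit 214) (Ch.cons (nat_lit 4) [nat_lit 5] Ch.nil) [nat_lit 5] (SL.cons (nat_lit 5) (nat_lit 205) (Ch.cons (nat_lit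 4) [nat_lit 1] Ch.nil) [nat_lit 1] (SL.cons (nat_lit 6) (nat_lit 72) (Ch.cons (nat_lit 4) [nat_lit 1] Ch.nil) [nat_lit 1] (SL.cons (nat_lit 773) (nat_lit 46) (Ch.cons (nat_lit 4) [nat_lit 1282] Ch.nil) [nat_lit 1282] (SL.cons (nat_lit 774) (nat_lit 258) (Ch.cons (nat_lit 4) [nat_lit 1281] Ch.nil) [nat_lit 1281] (SL.cons (nat_lit 1029) (nat_lit 94) (Ch.cons (nat_lit 4) [nat_lit 1538] Ch.nil) [nat_lit 1538] (SL.cons (nat_lit 1030) (nat_lit 164) (Ch.cons (nat_lit 4) [nat_lit 1537] Ch.nil) [nat_lit 1537] SL.nil))))))))))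

theorem fix_P3_o_1_sc0 : SCs 276 fix_P3_o_E2 fix_P3_o_G1 (⟨3, by decide⟩ : Fin 276) (SL.words fix_P3_o_1_sl0) :=
  scs_of_ok hn (det_lab hk ⊤) fix_P3_o_E2_ok fix_P3_o_G1_ok le_top le_top (by decide : 3 < 276) fix_P3_o_1_fix fix_P3_o_card2.le (by decide +kernel)

noncomputable def fix_P3_o_1_l : List ℕ := (appL (SL.words fix_P3_o_1_sl0) [])

theorem fix_P3_o_1_scs : SCs 276 fix_P3_o_E2 fix_P3_o_G1 (⟨3, by decide⟩ : Fin 276) fix_P3_o_1_l :=
  (SCs.append fix_P3_o_1_sc0 SCs.nil)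

noncomputable def fix_P3_o_1_rl0_0 : RL := (RL.cons (nat_lit 0) (nat_lit 3) (nat_lit 0) (nat_lit 0) (nat_lit 2) (nat_lit 0) (RL.cons (nat_lit 1) (nat_lit 81) (nat_lit 0) (nat_lit 0) (nat_lit 0) (nat_lit 0) (RL.cons (nat_lit 2) (nat_lit 158) (nat_lit 0) (nat_lit 0) (nat_lit 1) (nat_lit 0) (RL.cons (nat_lit 3) (nat_lit 45) (nat_lit 0) (nat_lit 0) (nat_lit 3) (nat_lit 1282) (RL.cons (nat_lit 4) (nat_lit 214) (nat_lit 0) (nat_lit 1) (nat_lit 4) (nat_lit 1281) (RL.cons (nat_lit 5) (nat_lit 205) (nat_lit 0) (nat_lit 6) (nat_lit 5) (nat_lit 1538) (RL.cons (nat_lit 6) (nat_lit 72) (nat_lit 0) (nat_lit 0) (nat_lit 6) (nat_lit 1282) (RL.cons (nat_lit 7) (nat_lit 46) (nat_lit 0) (nat_lit 1) (nat_lit 7) (nat_lit 1281) (RL.cons (nat_lit 8) (nat_lit 258) (nat_lit 0) (nat_lit 2) (nat_lit 8) (nat_lit 5) (RL.cons (nat_lit 9) (nat_lit 94) (nat_lit 0) (nat_lit 0) (nat_lit 9) (nat_lit 1282) (RL.cons (nat_lit 10) (nat_lit 164) (nat_lit 0)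 (nat_lit 2) (nat_lit 10) (nat_lit 5) RL.nil)))))))))))

theorem fix_P3_o_1_good0_0 : GoodSet 276 fix_P3_o_E2 fix_P3_o_G1 (⟨3, by decide⟩ : Fin 276) fix_P3_o_1_ts (nat_lit 1) (RL.pts fix_P3_o_1_rl0_0) :=
  goodSet_of_ok hn (det_lab hk ⊤) fix_P3_o_E2_ok fix_P3_o_G1_ok le_top le_top (by decide : 3 < 276) (sepAt_lab hk _) (by decide +kernel)

theorem fix_P3_o_1_step0 : Step 276 fix_P3_o_E2 fix_P3_o_G1 fix_P3_o_1_ts (2 * 0 + 1) :=
  step_of_cover fix_P3_o_E2_ok fix_P3_o_1_dist (by decide +kernel) fix_P3_o_1_scs (by decide +kernel) fix_P3_o_1_good0_0 (kw := [nat_lit 1538, nat_lit 5])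
    (conj_mem_of_scs fix_P3_o_E2_ok fix_P3_o_G1_ok (by decide : 3 < 276) fix_P3_o_1_scs (c := 0) (d := 81) (by decide +kernel)) (by decide +kernel)

noncomputable def fix_P3_o_1_rl1_0 : RL := (RL.cons (nat_lit 0) (nat_lit 3) (nat_lit 0) (nat_lit 0) (nat_lit 4) (nat_lit 0) (RL.cons (nat_lit 1) (nat_lit 81) (nat_lit 0) (nat_lit 1) (nat_lit 4) (nat_lit 6) (RL.cons (nat_lit 2) (nat_lit 158) (nat_lit 0) (nat_lit 2) (nat_lit 4) (nat_lit 5) (RL.cons (nat_lit 3) (nat_lit 45) (nat_lit 0) (nat_lit 0) (nat_lit 0) (nat_lit 0) (RL.cons (nat_lit 3) (nat_lit 194) (nat_lit 1) (nat_lit 0) (nat_lit 2) (nat_lit 1538) (RL.cons (nat_lit 3) (nat_lit 66) (nat_lit 2) (nat_lit 0) (nat_lit 1) (nat_lit 1281) (RL.cons (nat_lit 4) (nat_lit 214) (nat_lit 0) (nat_lit 0) (nat_lit 3) (nat_lit 0) (RL.cons (nat_lit 4) (nat_lit 209) (nat_lit 1) (nat_lit 2) (nat_lit 3) (nat_lit 2) (RL.cons (nat_lit 4) (nat_lit 201) (nat_lit 2) (nat_lit 1) (nat_lit 3) (nat_lit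 1) (RL.cons (nat_lit 5) (nat_lit 205) (nat_lit 0) (nat_lit 2) (nat_lit 9) (nat_lit 1) (RL.cons (nat_lit 6) (nat_lit 72) (nat_lit 0) (nat_lit 1) (nat_lit 10) (nat_lit 2) (RL.cons (nat_lit 7) (nat_lit 46) (nat_lit 0) (nat_lit 5) (nat_lit 5) (nat_lit 6) (RL.cons (nat_lit 8) (nat_lit 258) (nat_lit 0) (nat_lit 5) (nat_lit 6) (nat_lit 6) (RL.cons (nat_lit 9) (nat_lit 94) (nat_lit 0) (nat_lit 1) (nat_lit 7) (nat_lit 2) (RL.cons (nat_lit 10) (nat_lit 164) (nat_lit 0) (nat_lit 2) (nat_lit 8) (nat_lit 1) RL.nil)))))))))))))))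

theorem fix_P3_o_1_good1_0 : GoodSet 276 fix_P3_o_E2 fix_P3_o_G1 (⟨3, by decide⟩ : Fin 276) fix_P3_o_1_ts (nat_lit 3) (RL.pts fix_P3_o_1_rl1_0) :=
  goodSet_of_ok hn (det_lab hk ⊤) fix_P3_o_E2_ok fix_P3_o_G1_ok le_top le_top (by decide : 3 < 276) (sepAt_lab hk _) (by decide +kernel)

theorem fix_P3_o_1_step1 : Step 276 fix_P3_o_E2 fix_P3_o_G1 fix_P3_o_1_ts (2 * 1 + 1) :=
  step_of_cover fix_P3_o_E2_ok fix_P3_o_1_dist (by decide +kernel) fix_P3_o_1_scs (by decide +kernel) fix_P3_o_1_good1_0 (kw := [nat_lit 5, nat_lit 7, nat_lit 9])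
    (conj_mem_of_scs fix_P3_o_E2_ok fix_P3_o_G1_ok (by decide : 3 < 276) fix_P3_o_1_scs (c := 2) (d := 45) (by decide +kernel)) (by decide +kernel)

noncomputable def fix_P3_o_1_rl2_0 : RL := (RL.cons (nat_lit 0) (nat_lit 3) (nat_lit 0) (nat_lit 0) (nat_lit 6) (nat_lit 0) (RL.cons (nat_lit 1) (nat_lit 81) (nat_lit 0) (nat_lit 5) (nat_lit 6) (nat_lit 1281) (RL.cons (nat_lit 2) (nat_lit 158) (nat_lit 0) (nat_lit 6) (nat_lit 6) (nat_lit 1538) (RL.cons (nat_lit 3) (nat_lit 45) (nat_lit 0) (nat_lit 0) (nat_lit 8) (nat_lit 0) (RL.cons (nat_lit 4) (nat_lit 214) (nat_lit 0) (nat_lit 0) (nat_lit 10) (nat_lit 0) (RL.cons (nat_lit 5) (nat_lit 205) (nat_lit 0) (nat_lit 0) (nat_lit 0) (nat_lit 0) (RL.cons (nat_lit 5) (nat_lit 148) (nat_lit 5) (nat_lit 0) (nat_lit 2) (nat_lit 1) (RL.cons (nat_lit 5) (nat_lit 274) (nat_lit 6) (nat_lit 0) (nat_lit 1) (nat_lit 2) (RL.cons (nat_lit 6) (nat_lit 72) (nat_lit 0) (nat_lit 0) (nat_lit 5) (nat_lit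 0) (RL.cons (nat_lit 6) (nat_lit 127) (nat_lit 5) (nat_lit 6) (nat_lit 5) (nat_lit 6) (RL.cons (nat_lit 6) (nat_lit 255) (nat_lit 6) (nat_lit 5) (nat_lit 5) (nat_lit 5) (RL.cons (nat_lit 7) (nat_lit 46) (nat_lit 0) (nat_lit 0) (nat_lit 3) (nat_lit 0) (RL.cons (nat_lit 8) (nat_lit 258) (nat_lit 0) (nat_lit 0) (nat_lit 7) (nat_lit 0) (RL.cons (nat_lit 9) (nat_lit 94) (nat_lit 0) (nat_lit 0) (nat_lit 4) (nat_lit 0) (RL.cons (nat_lit 10) (nat_lit 164) (nat_lit 0) (nat_lit 0) (nat_lit 9) (nat_lit 0) RL.nil)))))))))))))))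

theorem fix_P3_o_1_good2_0 : GoodSet 276 fix_P3_o_E2 fix_P3_o_G1 (⟨3, by decide⟩ : Fin 276) fix_P3_o_1_ts (nat_lit 5) (RL.pts fix_P3_o_1_rl2_0) :=
  goodSet_of_ok hn (det_lab hk ⊤) fix_P3_o_E2_ok fix_P3_o_G1_ok le_top le_top (by decide : 3 < 276) (sepAt_lab hk _) (by decide +kernel)

theorem fix_P3_o_1_step2 : Step 276 fix_P3_o_E2 fix_P3_o_G1 fix_P3_o_1_ts (2 * 2 + 1) :=
  step_of_cover fix_P3_o_E2_ok fix_P3_o_1_dist (by decide +kernel) fix_P3_o_1_scs (by decide +kernel) fix_P3_o_1_good2_0 (kw := [nat_lit 1])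
    (conj_mem_of_scs fix_P3_o_E2_ok fix_P3_o_G1_ok (by decide : 3 < 276) fix_P3_o_1_scs (c := 4) (d := 205) (by decide +kernel)) (by decide +kernel)

theorem fix_P3_o_1_lev : grp 276 fix_P3_o_G1 ⊓ MulAction.stabilizer (Equiv.Perm (Fin 276)) (⟨3, by decide⟩ : Fin 276) = grp 276 fix_P3_o_E2 :=
  sims_level (gs := V38) rfl (by decide) fix_P3_o_1_fix fix_P3_o_1_dist (forall_lt_succ' (forall_lt_succ' (forall_lt_one fix_P3_o_1_step0) fix_P3_o_1_step1) fix_P3_o_1_step2)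

theorem fix_P3_o_1_cardG : Nat.card (grp 276 fix_P3_o_G1) = 243 :=
  card_of_level hn fix_P3_o_G1_ok (by decide : 3 < 276) fix_P3_o_1_lev fix_P3_o_card2 (m := 27) (by decide +kernel)

theorem le56 : grp 276 fix_P3_o_E1 ≤ grp 276 fix_P3_o_G1 :=
  grp_le_of_memB hn hk fix_P3_o_G1_ok fix_P3_o_E1_ok (ws := [nat_lit 1, nat_lit 3, nat_lit 5, nat_lit 4, nat_lit 0xc070604, nat_lit 459270, nat_lit 722947, nat_lit 7, nat_lit 9, nat_lit 11, nat_lit 13, nat_lit 13]) (by decide +kernel)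

theorem le57 : grp 276 fix_P3_o_G1 ≤ grp 276 fix_P3_o_E1 :=
  grp_le_of_memB hn hk fix_P3_o_E1_ok fix_P3_o_G1_ok (ws := [nat_lit 1, nat_lit 3, nat_lit 5, nat_lit 15, nat_lit 17, nat_lit 19, nat_lit 21, nat_lit 21]) (by decide +kernel)

theorem fix_P3_o_1_eq : grp 276 fix_P3_o_E1 = grp 276 fix_P3_o_G1 :=
  le_antisymm le56 le57

theorem fix_P3_o_card1 : Nat.card (grp 276 fix_P3_o_E1) = 243 :=
  by rw [fix_P3_o_1_eq]; exact fix_P3_o_1_cardG

theorem fix_P3_o_stab1 : grp 276 fix_P3_o_E1 ⊓ MulAction.stabilizer (Equiv.Perm (Fin 276)) (⟨3, by decide⟩ : Fin 276) = grp 276 fix_P3_o_E2 :=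
  by rw [fix_P3_o_1_eq]; exact fix_P3_o_1_lev

theorem fix_P3_o_leO1 : grp 276 fix_P3_o_E1 ≤ grp 276 fix_P3 :=
  fix_P3_o_1_eq.le.trans (grp_cons_le ((le34.trans (le_refl (grp 276 fix_P3))) (le39 (toPerm_mem_grp (E := V38) (by simp [V38])))) (grp_cons_le ((le34.trans (le_refl (grp 276 fix_P3))) (le39 (toPerm_mem_grp (E := V38) (by simp [V38])))) (grp_cons_le ((le34.trans (le_refl (grp 276 fix_P3))) (le39 (toPerm_mem_grp (E := V38) (by simp [V38])))) fix_P3_o_leO2)))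

theorem fix_P3_o_0_fix : grp 276 fix_P3_o_E1 ≤ MulAction.stabilizer (Equiv.Perm (Fin 276)) (⟨52, by decide⟩ : Fin 276) :=
  grp_le_stab fix_P3_o_E1_ok (by decide : 52 < 276) (by decide +kernel)

noncomputable def fix_P3_o_0_ts : List ℕ := [nat_lit 0, nat_lit 1, nat_lit 2]

noncomputable def fix_P3_o_0_ds : List ℕ := [nat_lit 52, nat_lit 216, nat_lit 268]

theorem fix_P3_o_0_dist : Dist 276 fix_P3_o_E1 fix_P3_o_G0 (⟨52, by decide⟩ : Fin 276) fix_P3_o_0_ts fix_P3_o_0_ds :=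
  dist_of_distB (k := 2) hn fix_P3_o_E1_ok fix_P3_o_G0_ok (by decide : 52 < 276) (by decide +kernel)

noncomputable def fix_P3_o_0_sl0 : SL := (SL.cons (nat_lit 1) (nat_lit 216) (Ch.cons (nat_lit 3) [nat_lit 10, nat_lit 0x141003] (Ch.cons (nat_lit 4) [nat_lit 16, nat_lit 20] Ch.nil)) [nat_lit 0x14100105, nat_lit 0x13020a, nat_lit 0x14100203, nat_lit 0x130f0105] (SL.cons (nat_lit 2) (nat_lit 268) (Ch.cons (nat_lit 3) [nat_lit 779, nat_lit 6] (Ch.cons (nat_lit 4) [nat_lit 20, nat_lit 4880] Ch.nil)) [nat_lit 983306, nat_lit 4868, nat_lit 0x140106, nat_lit 0x13030a] SL.nil))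

theorem fix_P3_o_0_sc0 : SCs 276 fix_P3_o_E1 fix_P3_o_G0 (⟨52, by decide⟩ : Fin 276) (SL.words fix_P3_o_0_sl0) :=
  scs_of_ok hn (det_lab hk ⊤) fix_P3_o_E1_ok fix_P3_o_G0_ok le_top le_top (by decide : 52 < 276) fix_P3_o_0_fix fix_P3_o_card1.le (by decide +kernel)

noncomputable def fix_P3_o_0_l : List ℕ := (appL (SL.words fix_P3_o_0_sl0) [])

theorem fix_P3_o_0_scs : SCs 276 fix_P3_o_E1 fix_P3_o_G0 (⟨52, by decide⟩ : Fin 276) fix_P3_o_0_l :=
  (SCs.append fix_P3_o_0_sc0 SCs.nil)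

noncomputable def fix_P3_o_0_rl0_0 : RL := (RL.cons (nat_lit 0) (nat_lit 52) (nat_lit 0) (nat_lit 0) (nat_lit 2) (nat_lit 0) (RL.cons (nat_lit 1) (nat_lit 216) (nat_lit 0) (nat_lit 0) (nat_lit 0) (nat_lit 0) (RL.cons (nat_lit 2) (nat_lit 268) (nat_lit 0) (nat_lit 0) (nat_lit 1) (nat_lit 0) RL.nil)))

theorem fix_P3_o_0_good0_0 : GoodSet 276 fix_P3_o_E1 fix_P3_o_G0 (⟨52, by decide⟩ : Fin 276) fix_P3_o_0_ts (nat_lit 1) (RL.pts fix_P3_o_0_rl0_0) :=
  goodSet_of_ok hn (det_lab hk ⊤) fix_P3_o_E1_ok fix_P3_o_G0_ok le_top le_top (by decide : 52 < 276) (sepAt_lab hk _) (by decide +kernel)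

theorem fix_P3_o_0_step0 : Step 276 fix_P3_o_E1 fix_P3_o_G0 fix_P3_o_0_ts (2 * 0 + 1) :=
  step_of_cover fix_P3_o_E1_ok fix_P3_o_0_dist (by decide +kernel) fix_P3_o_0_scs (by decide +kernel) fix_P3_o_0_good0_0 (kw := [nat_lit 10, nat_lit 0x141003, nat_lit 16, nat_lit 20])
    (conj_mem_of_scs fix_P3_o_E1_ok fix_P3_o_G0_ok (by decide : 52 < 276) fix_P3_o_0_scs (c := 0) (d := 216) (by decide +kernel)) (by decide +kernel)

theorem fix_P3_o_0_lev : grp 276 fix_P3_o_G0 ⊓ MulAction.stabilizer (Equiv.Perm (Fin 276)) (⟨52, by decide⟩ : Fin 276) = grp 276 fix_P3_o_E1 :=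
  sims_level (gs := V27) rfl (by decide) fix_P3_o_0_fix fix_P3_o_0_dist (forall_lt_one fix_P3_o_0_step0)

theorem fix_P3_o_0_cardG : Nat.card (grp 276 fix_P3_o_G0) = 729 :=
  card_of_level hn fix_P3_o_G0_ok (by decide : 52 < 276) fix_P3_o_0_lev fix_P3_o_card1 (m := 3) (by decide +kernel)

theorem le58 : grp 276 fix_P3_o_E0 ≤ grp 276 fix_P3_o_G0 :=
  grp_le_of_memB hn hk fix_P3_o_G0_ok fix_P3_o_E0_ok (ws := [nat_lit 1, nat_lit 5635, nat_lit 0x110801, nat_lit 3, nat_lit 5, nat_lit 7, nat_lit 9, nat_lit 11, nat_lit 13, nat_lit 15, nat_lit 17, nat_lit 19, nat_lit 21, nat_lit 23, nat_lit 23]) (by decide +kernel)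

theorem le59 : grp 276 fix_P3_o_G0 ≤ grp 276 fix_P3_o_E0 :=
  grp_le_of_memB hn hk fix_P3_o_E0_ok fix_P3_o_G0_ok (ws := [nat_lit 1, nat_lit 7, nat_lit 9, nat_lit 11, nat_lit 13, nat_lit 15, nat_lit 17, nat_lit 19, nat_lit 21, nat_lit 23, nat_lit 25, nat_lit 27, nat_lit 27]) (by decide +kernel)

theorem fix_P3_o_0_eq : grp 276 fix_P3_o_E0 = grp 276 fix_P3_o_G0 :=
  le_antisymm le58 le59

theorem fix_P3_o_card0 : Nat.card (grp 276 fix_P3_o_E0) = 729 :=
  by rw [fix_P3_o_0_eq]; exact fix_P3_o_0_cardG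

theorem fix_P3_o_stab0 : grp 276 fix_P3_o_E0 ⊓ MulAction.stabilizer (Equiv.Perm (Fin 276)) (⟨52, by decide⟩ : Fin 276) = grp 276 fix_P3_o_E1 :=
  by rw [fix_P3_o_0_eq]; exact fix_P3_o_0_lev

theorem fix_P3_o_leO0 : grp 276 fix_P3_o_E0 ≤ grp 276 fix_P3 :=
  fix_P3_o_0_eq.le.trans (grp_cons_le ((le_refl (grp 276 fix_P3)) (le28 (toPerm_mem_grp (E := V27) (by simp [V27])))) fix_P3_o_leO1)

theorem le60 : grp 276 fix_P3 ≤ grp 276 fix_P3_o_E0 :=
  grp_le_of_memB hn hk fix_P3_o_E0_ok fix_P3_ok (ws := [nat_lit 3, nat_lit 1, nat_lit 5]) (by decide +kernel)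

theorem fix_P3_o_eq : grp 276 fix_P3 = grp 276 fix_P3_o_E0 :=
  le_antisymm le60 fix_P3_o_leO0

theorem fix_P3_o_card : Nat.card (grp 276 fix_P3) = 729 :=
  by rw [fix_P3_o_eq]; exact fix_P3_o_card0

noncomputable def fix_P3_o_ch : Ch := (Ch.cons (nat_lit 52) [nat_lit 1, nat_lit 3, nat_lit 5] (Ch.cons (nat_lit 3) [nat_lit 7, nat_lit 9, nat_lit 11, nat_lit 13, nat_lit 15, nat_lit 17, nat_lit 19] (Ch.cons (nat_lit 45) [nat_lit 21, nat_lit 23] (Ch.cons (nat_lit 4) [nat_lit 25, nat_lit 27, nat_lit 29] Ch.nil))))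

theorem fix_P3_o_exact : Ch.Exact 276 fix_P3_o_E0 fix_P3_o_ch (grp 276 fix_P3_o_E0) :=
  Ch.exact (k := 9) (L := (lab 276 9)) hn fix_P3_o_E0_ok (by decide +kernel) (wgrp_le_grp _ _ _) fix_P3_o_card0.le

theorem fix_P3_res : ∀ c ∈ [(3, 3), (9, 6), (27, 6), (81, 33)], Res (grp 276 fix_P3) c.1 c.2 :=
  res_of_check hn fix_P3_ok (ss := [nat_lit 0, nat_lit 1, nat_lit 2, nat_lit 3, nat_lit 5, nat_lit 6, nat_lit 7, nat_lit 52]) (by decide +kernel)

theorem fix : FixP (grp 276 Co3M.E) (⟨0, by decide⟩ : Fin 276) :=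
  fixP_of_res one (T_s1.eq_inf (by decide)) T_s1.card (Nat.card_fin _) (ResL.append fix_P11_le fix_P11_ai fix_P11_res (ResL.append fix_P5_le fix_P5_ai fix_P5_res ResL.nil)) fix_P3_le (p := 3) (k := 6) (by norm_num) fix_P3_o_card (by norm_num) fix_P3_res (f := 828) (by decide +kernel)

theorem nm_le : grp 276 Co3M.lb_E ≤ (Subgroup.normalizer ((grp 276 Co3M.E) : Set (Equiv.Perm (Fin 276)))) :=
  T_s0.le.trans Subgroup.le_normalizer

theorem T_s2 : Stab 276 (grp 276 Co3M.E) [nat_lit 1, nat_lit 0] V61 6531840 :=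
  Stab.step (k := 9) (L := (lab 276 9)) hn T_s1 V61_ok (grp_mono (List.subset_append_right [Co3M.g3, Co3M.g4] _)) (c := (Ch.cons (nat_lit 6) [nat_lit 1, nat_lit 3] (Ch.cons (nat_lit 11) [nat_lit 5, nat_lit 7] (Ch.cons (nat_lit 16) [nat_lit 9, nat_lit 11, nat_lit 13] (Ch.cons (nat_lit 3) [nat_lit 15, nat_lit 17] Ch.nil))))) (by decide +kernel)

noncomputable def T_s2_O : ℕ := (nat_lit 0xd9066a0e23b1531cb26465e059633451e037ca0a100a048c22315c418f38c9342a33c000000000000000000000000000000000000000000000000000000000000000000001000000000000000000000000000000000000000000000000000000000000000000002)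

theorem T_s2_F : Frame 276 (Subgroup.normalizer ((grp 276 Co3M.E) : Set (Equiv.Perm (Fin 276)))) 2 3 T_s2_O 0 1 :=
  Stab.frameN hn T_s2 (ss := [nat_lit 0, nat_lit 1, nat_lit 2, nat_lit 6]) (l := [(112, 1)]) (by decide +kernel)

noncomputable def nm_cnt_L : List ℕ := [2, 3, T_s2_O, 0, 0]

theorem nm_cnt_P : Prob 276 9 (Subgroup.normalizer ((grp 276 Co3M.E) : Set (Equiv.Perm (Fin 276)))) Co3M.lb_E [] [] Co3M.lb_E nm_cnt_L 0 0 :=
  Sym.prob hn hk (Sym.of_le Co3M.lb_E_ok nm_le) Co3M.lb_E_ok nm_le (Frames.cons T_s2_F Frames.nil) (okE_nil _) _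

noncomputable def nm_cnt_t : BT := (BT.br (nat_lit 2) (nat_lit 0) [nat_lit 1, nat_lit 3] (BT.kid (nat_lit 0) (nat_lit 0x6b10b100) (BT.dif (nat_lit 3) (nat_lit 0) (BT.br (nat_lit 0) (nat_lit 1) [nat_lit 5, nat_lit 7] (BT.kid (nat_lit 1) (nat_lit 0x63ab00) (BT.frm (nat_lit 0) (nat_lit 0) (nat_lit 0) [nat_lit 0, nat_lit 2] (BT.pln (nat_lit 0) (nat_lit 2) (BT.dif (nat_lit 7) (nat_lit 0) (BT.dif (nat_lit 0) (nat_lit 5) (BT.dif (nat_lit 0) (nat_lit 4) (BT.br (nat_lit 0) (nat_lit 6) [nat_lit 9, nat_lit 11] (BT.kid (nat_lit 6) (nat_lit 40320) (BT.frm (nat_lit 0) (nat_lit 461061) (nat_lit 461061) [nat_lit 0, nat_lit 8] (BT.pln (nat_lit 0) (nat_lit 2) (BT.dif (nat_lit 5) (nat_lit 0) (BT.dif (nat_lit 0) (nat_lit 11) (BT.dif (nat_lit 0) (nat_lit 10) (BT.dif (nat_lit 0) (nat_lit 5) (BT.br (nat_lit 0) (nat_lit 11) [nat_lit 13, nat_lit 15] (BT.kid (nat_lit 11) (nat_lit 384) (BT.frm (nat_lit 0) (nat_lit 395532) (nat_lit 395532) [nat_lit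 0, nat_lit 15] (BT.pln (nat_lit 0) (nat_lit 2) (BT.dif (nat_lit 6) (nat_lit 0) (BT.dif (nat_lit 0) (nat_lit 18) (BT.dif (nat_lit 0) (nat_lit 17) (BT.dif (nat_lit 0) (nat_lit 12) (BT.dif (nat_lit 0) (nat_lit 6) (BT.br (nat_lit 0) (nat_lit 16) [nat_lit 17, nat_lit 21] (BT.dead (nat_lit 89) (BT.and (nat_lit 19) (nat_lit 13) (BT.and (nat_lit 0) (nat_lit 7) (BT.frm (nat_lit 0) (nat_lit 329995) (nat_lit 464651) [nat_lit 2, nat_lit 25] (BT.pln (nat_lit 0) (nat_lit 2) (BT.dif (nat_lit 2) (nat_lit 0) (BT.br (nat_lit 0) (nat_lit 3) [nat_lit 0x1719121312, nat_lit 0x191115] (BT.dead (nat_lit 186) (BT.dif (nat_lit 19) (nat_lit 25) (BT.and (nat_lit 0) (nat_lit 13) (BT.dif (nat_lit 0) (nat_lit 4) (BT.frm (nat_lit 0) (nat_lit 0x505100b) (nat_lit 461064) [nat_lit 3, nat_lit 32] (BT.pln (nat_lit 0) (nat_lit 2) (BT.and (nat_lit 2) (nat_lit 0) (BT.br (nat_lit 0) (nat_lit 38) [nat_lit 0x17191512] (BT.dead (nat_lit 199) (BT.dif (nat_lit 32)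 (nat_lit 26) (BT.and (nat_lit 0) (nat_lit 20) (BT.and (nat_lit 0) (nat_lit 11) (BT.dif (nat_lit 0) (nat_lit 5) (BT.and (nat_lit 30) (nat_lit 6) (BT.and (nat_lit 0) (nat_lit 24) (BT.dif (nat_lit 0) (nat_lit 15) (BT.dif (nat_lit 0) (nat_lit 7) (BT.frm (nat_lit 0) (nat_lit 2072) (nat_lit 1561) [nat_lit 0, nat_lit 44] (BT.pln (nat_lit 0) (nat_lit 2) (BT.dif (nat_lit 6) (nat_lit 0) (BT.frm (nat_lit 0) (nat_lit 328978) (nat_lit 395525) [nat_lit 0, nat_lit 47] (BT.pln (nat_lit 0) (nat_lit 2) (BT.and (nat_lit 0) (nat_lit 45) (BT.dif (nat_lit 0) (nat_lit 40) (BT.and (nat_lit 0) (nat_lit 34) (BT.and (nat_lit 0) (nat_lit 25) (BT.cnt (nat_lit 0))))))))))))))))))) BT.nil)))))))) BT.nil))))))) (BT.kid (nat_lit 16) (nat_lit 6) (BT.and (nat_lit 19) (nat_lit 13) (BT.and (nat_lit 0) (nat_lit 7) (BT.frm (nat_lit 0) (nat_lit 329995) (nat_lit 329995) [nat_lit 2, nat_lit 25] (BT.pln (nat_lit 0) (nat_lit 2) (BT.dif (nat_lit 2) (nat_lit 0) (BT.br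 (nat_lit 0) (nat_lit 3) [nat_lit 23, nat_lit 25] (BT.dead (nat_lit 205) (BT.frm (nat_lit 0) (nat_lit 0x505100b) (nat_lit 333830) [nat_lit 0, nat_lit 29] (BT.pln (nat_lit 0) (nat_lit 2) (BT.and (nat_lit 0) (nat_lit 27) (BT.and (nat_lit 0) (nat_lit 15) (BT.dif (nat_lit 0) (nat_lit 23) (BT.and (nat_lit 0) (nat_lit 7) (BT.cnt (nat_lit 0)))))))) (BT.kid (nat_lit 3) (nat_lit 1) (BT.dif (nat_lit 19) (nat_lit 25) (BT.and (nat_lit 0) (nat_lit 13) (BT.dif (nat_lit 0) (nat_lit 4) (BT.frm (nat_lit 0) (nat_lit 0x505100b) (nat_lit 0x505100b) [nat_lit 3, nat_lit 32] (BT.pln (nat_lit 0) (nat_lit 2) (BT.and (nat_lit 2) (nat_lit 0) (BT.br (nat_lit 0) (nat_lit 38) [] (BT.dead (nat_lit 252) (BT.dif (nat_lit 32) (nat_lit 26) (BT.and (nat_lit 0) (nat_lit 20) (BT.and (nat_lit 0) (nat_lit 11) (BT.dif (nat_lit 0) (nat_lit 5) (BT.and (nat_lit 30) (nat_lit 6) (BT.and (nat_lit 0) (nat_lit 24) (BT.dif (nat_lit 0) (nat_lit 15) (BT.dif (nat_lit 0) (nat_lit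 7) (BT.frm (nat_lit 0) (nat_lit 2072) (nat_lit 1289) [nat_lit 0, nat_lit 44] (BT.pln (nat_lit 0) (nat_lit 2) (BT.dif (nat_lit 6) (nat_lit 0) (BT.frm (nat_lit 0) (nat_lit 328978) (nat_lit 328971) [nat_lit 0, nat_lit 47] (BT.pln (nat_lit 0) (nat_lit 2) (BT.and (nat_lit 0) (nat_lit 45) (BT.and (nat_lit 0) (nat_lit 16) (BT.and (nat_lit 0) (nat_lit 34) (BT.and (nat_lit 0) (nat_lit 25) (BT.cnt (nat_lit 0))))))))))))))))))) (BT.kid (nat_lit 38) (nat_lit 1) (BT.and (nat_lit 26) (nat_lit 2) (BT.and (nat_lit 0) (nat_lit 20) (BT.dif (nat_lit 0) (nat_lit 11) (BT.dif (nat_lit 0) (nat_lit 3) (BT.frm (nat_lit 0) (nat_lit 2072) (nat_lit 2072) [nat_lit 0, nat_lit 40] (BT.pln (nat_lit 0) (nat_lit 2) (BT.dif (nat_lit 18) (nat_lit 25) (BT.and (nat_lit 0) (nat_lit 16) (BT.dif (nat_lit 0) (nat_lit 10) (BT.dif (nat_lit 0) (nat_lit 3) (BT.frm (nat_lit 0) (nat_lit 0x5050d06) (nat_lit 0x5050d06) [nat_lit 0, nat_lit 46] (BT.pln (nat_lit 0) (nat_lit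 2) (BT.dif (nat_lit 10) (nat_lit 12) (BT.dif (nat_lit 0) (nat_lit 45) (BT.and (nat_lit 0) (nat_lit 23) (BT.dif (nat_lit 47) (nat_lit 41) (BT.and (nat_lit 0) (nat_lit 35) (BT.and (nat_lit 0) (nat_lit 26) (BT.dif (nat_lit 0) (nat_lit 20) (BT.dif (nat_lit 0) (nat_lit 13) (BT.frm (nat_lit 0) (nat_lit 328978) (nat_lit 328978) [nat_lit 0, nat_lit 56] (BT.pln (nat_lit 0) (nat_lit 2) (BT.dif (nat_lit 7) (nat_lit 0) (BT.frm (nat_lit 0) (nat_lit 329993) (nat_lit 329993) [nat_lit 0, nat_lit 59] (BT.pln (nat_lit 0) (nat_lit 2) (BT.dif (nat_lit 56) (nat_lit 27) (BT.dif (nat_lit 0) (nat_lit 52) (BT.dif (nat_lit 0) (nat_lit 46) (BT.dif (nat_lit 0) (nat_lit 64) (BT.dif (nat_lit 0) (nat_lit 23) (BT.dif (nat_lit 0) (nat_lit 43) (BT.and (nat_lit 63) (nat_lit 33) (BT.and (nat_lit 0) (nat_lit 58) (BT.and (nat_lit 0) (nat_lit 52) (BT.and (nat_lit 0) (nat_lit 22) (BT.frm (nat_lit 0) (nat_lit 461064) (nat_lit 461064) [nat_lit 0, nat_lit 71] (BT.pln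 (nat_lit 0) (nat_lit 2) (BT.dif (nat_lit 6) (nat_lit 0) (BT.frm (nat_lit 0) (nat_lit 332311) (nat_lit 332311) [nat_lit 0, nat_lit 74] (BT.pln (nat_lit 0) (nat_lit 2) (BT.dif (nat_lit 23) (nat_lit 49) (BT.dif (nat_lit 0) (nat_lit 43) (BT.and (nat_lit 48) (nat_lit 51) (BT.dif (nat_lit 0) (nat_lit 62) (BT.dif (nat_lit 0) (nat_lit 46) (BT.dif (nat_lit 0) (nat_lit 39) (BT.frm (nat_lit 0) (nat_lit 1813) (nat_lit 1813) [nat_lit 0, nat_lit 82] (BT.pln (nat_lit 0) (nat_lit 2) (BT.dif (nat_lit 6) (nat_lit 0) (BT.dif (nat_lit 0) (nat_lit 24) (BT.frm (nat_lit 0) (nat_lit 328979) (nat_lit 328979) [nat_lit 0, nat_lit 86] (BT.pln (nat_lit 0) (nat_lit 2) (BT.dif (nat_lit 36) (nat_lit 71) (BT.dif (nat_lit 0) (nat_lit 55) (BT.dif (nat_lit 0) (nat_lit 48) (BT.dif (nat_lit 74) (nat_lit 87) (BT.dif (nat_lit 0) (nat_lit 82) (BT.dif (nat_lit 0) (nat_lit 59) (BT.dif (nat_lit 0) (nat_lit 67) (BT.dif (nat_lit 0) (nat_lit 11) (BT.dif (nat_lit 0)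 (nat_lit 23) (BT.dif (nat_lit 0) (nat_lit 36) (BT.frm (nat_lit 0) (nat_lit 332303) (nat_lit 332303) [nat_lit 0, nat_lit 98] (BT.pln (nat_lit 0) (nat_lit 2) (BT.dif (nat_lit 9) (nat_lit 0) (BT.frm (nat_lit 0) (nat_lit 330503) (nat_lit 330503) [nat_lit 0, nat_lit 101] (BT.pln (nat_lit 0) (nat_lit 2) (BT.dif (nat_lit 76) (nat_lit 99) (BT.dif (nat_lit 0) (nat_lit 70) (BT.dif (nat_lit 0) (nat_lit 95) (BT.dif (nat_lit 0) (nat_lit 89) (BT.dif (nat_lit 0) (nat_lit 19) (BT.frm (nat_lit 0) (nat_lit 330771) (nat_lit 330771) [nat_lit 0, nat_lit 108] (BT.pln (nat_lit 0) (nat_lit 2) (BT.and (nat_lit 58) (nat_lit 83) (BT.dif (nat_lit 0) (nat_lit 94) (BT.dif (nat_lit 0) (nat_lit 78) (BT.dif (nat_lit 0) (nat_lit 40) (BT.dif (nat_lit 0) (nat_lit 14) (BT.frm (nat_lit 0) (nat_lit 0x5050912) (nat_lit 0x5050912) [nat_lit 0, nat_lit 115] (BT.pln (nat_lit 0) (nat_lit 2) (BT.dif (nat_lit 87) (nat_lit 100) (BT.dif (nat_lit 0) (nat_lit 84) (BT.dif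 (nat_lit 0) (nat_lit 92) (BT.dif (nat_lit 0) (nat_lit 62) (BT.dif (nat_lit 0) (nat_lit 45) (BT.dif (nat_lit 0) (nat_lit 22) (BT.frm (nat_lit 0) (nat_lit 330757) (nat_lit 330757) [nat_lit 0, nat_lit 123] (BT.pln (nat_lit 0) (nat_lit 2) (BT.dif (nat_lit 82) (nat_lit 98) (BT.dif (nat_lit 0) (nat_lit 92) (BT.dif (nat_lit 0) (nat_lit 85) (BT.dif (nat_lit 0) (nat_lit 67) (BT.dif (nat_lit 97) (nat_lit 93) (BT.dif (nat_lit 0) (nat_lit 96) (BT.dif (nat_lit 0) (nat_lit 73) (BT.dif (nat_lit 0) (nat_lit 29) (BT.frm (nat_lit 0) (nat_lit 8) (nat_lit 8) [nat_lit 0, nat_lit 133] (BT.pln (nat_lit 0) (nat_lit 2) (BT.dif (nat_lit 6) (nat_lit 0) (BT.frm (nat_lit 0) (nat_lit 528389) (nat_lit 528389) [nat_lit 0, nat_lit 136] (BT.pln (nat_lit 0) (nat_lit 2) (BT.dif (nat_lit 114) (nat_lit 111) (BT.and (nat_lit 0) (nat_lit 122) (BT.dif (nat_lit 0) (nat_lit 111) (BT.dif (nat_lit 0) (nat_lit 57) (BT.dif (nat_lit 0) (nat_lit 84) (BT.dif (nat_lit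 0) (nat_lit 43) (BT.frm (nat_lit 0) (nat_lit 329746) (nat_lit 329746) [nat_lit 0, nat_lit 144] (BT.pln (nat_lit 0) (nat_lit 2) (BT.disc [nat_lit 142, nat_lit 136, nat_lit 129, nat_lit 119, nat_lit 112, nat_lit 104, nat_lit 98, nat_lit 85, nat_lit 88, nat_lit 70, nat_lit 58, nat_lit 43, nat_lit 36, nat_lit 146, nat_lit 73, nat_lit 29, nat_lit 21, nat_lit 8, nat_lit 0]))))))))))))))))))))))))))))))))))))))))))))))))))))))))))))))))))))))))))))))))))))))))))))))))))))))))))))))) BT.nil))))))))) BT.nil)))))))) BT.nil)))))))))) BT.nil)))))))) BT.nil))))))) BT.nil))) BT.nil))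

theorem nm_cnt : Cnt 276 (Subgroup.normalizer ((grp 276 Co3M.E) : Set (Equiv.Perm (Fin 276)))) [] [] 0 0 0 0 495766656000 :=
  BT.sound nm_cnt_P Known.nil (t := nm_cnt_t) (d := 0) (by decide +kernel)

theorem nm_ge : 495766656000 ≤ Nat.card (grp 276 Co3M.lb_E) :=
  Ch.le_card_grp (k := 9) (L := (lab 276 9)) hn Co3M.lb_E_ok (c := (Ch.cons (nat_lit 0) [nat_lit 1, nat_lit 3] (Ch.cons (nat_lit 1) [nat_lit 5, nat_lit 7] (Ch.cons (nat_lit 6) [nat_lit 9, nat_lit 11] (Ch.cons (nat_lit 11) [nat_lit 13, nat_lit 15] (Ch.cons (nat_lit 16) [nat_lit 17, nat_lit 19, nat_lit 21] (Ch.cons (nat_lit 3) [nat_lit 23, nat_lit 25] Ch.nil))))))) (by decide +kernel)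

theorem nm_card : Nat.card (Subgroup.normalizer ((grp 276 Co3M.E) : Set (Equiv.Perm (Fin 276)))) = 495766656000 :=
  (eq_grp_of_cnt Co3M.lb_E_ok nm_le nm_cnt nm_ge).2

theorem card_out : Nat.card (Cfsg.Out ↥Cfsg.Spor.Co3) = 1 :=
  card_out_of_equiv one fix Co3M.equiv (by rw [nm_card, Co3M.card_grp])

end Cfsg.Agent.H43.Co3O
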