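import Mathlib
import Cfsg.Agent.H43.Cent
import Cfsg.Agent.H43.McLM

set_option autoImplicit false
set_option maxRecDepth 200000
set_option linter.style.longLine false

namespace Cfsg.Agent.H43.McLO

open Cfsg.Agent.H43

theorem hn : NOk 275 := by decide

theorem hk : 275 ≤ 2 ^ 9 := by decide

noncomputable def V1 : List Net := [McLM.g3, McLM.g4, McLM.g7, McLM.g8, McLM.g11, McLM.g12, McLM.g13, McLM.g16, McLM.g16]

theorem V1_ok : okE 275 V1 = true := (okE_cons.2 ⟨McLM.g3_ok, (okE_cons.2 ⟨McLM.g4_ok, (okE_cons.2 ⟨McLM.g7_ok, (okE_cons.2 ⟨McLM.g8_ok, (okE_cons.2 ⟨McLM.g11_ok, (okE_cons.2 ⟨McLM.g12_ok, (okE_cons.2 ⟨McLM.g13_ok, (okE_cons.2 ⟨McLM.g16_ok, (okE_cons.2 ⟨McLM.g16_ok, (okE_nil 275)⟩)⟩)⟩)⟩)⟩)⟩)⟩)⟩)⟩)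

noncomputable def g2 : Net := (Net.cons (nat_lit 1) (nat_lit 0x50440500455144114404455114514514110150014415005040110405100510041010) (Net.cons (nat_lit 2) (nat_lit 0x133111331312213320332113231132001010313010300101111202122232300022000) (Net.cons (nat_lit 4) (nat_lit 0x9060a040c05030b03080802000a090f0203030603070a0508010300000606000504) (Net.cons (nat_lit 8) (nat_lit 0x1400a2004b0036001d006d008100a2003200d60056002c00d00005002400490004) (Net.cons (nat_lit 16) (nat_lit 0xb0f40000f104000003dc0000ee030000666e000084a00000391e0000e100) (Net.cons (nat_lit 32) (nat_lit 0x3691a0000000000069330857000000000287c2210000000000029aa9) (Net.cons (nat_lit 64) (nat_lit 0xa2060d124a201240000000000000000000000000006bdf6) (Net.cons (nat_lit 128) (nat_lit 0x8f76797d01df68fea04a88a8f73b879b) (Net.cons (nat_lit 256) (nat_lit 524287) (Net.cons (nat_lit 128) (nat_lit 221338) (Net.cons (nat_lit 64) (nat_lit 0xf970fd4b24610a1e0000000000000000e15daeb292cc058a)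 (Net.cons (nat_lit 32) (nat_lit 0x1885792d0000000079b4bfd500000000b7b99cac00000000d0a1fd79) (Net.cons (nat_lit 16) (nat_lit 0x30000d5850000e8b20000f18d0000d1470000c19f00002fb20000370d00006092) (Net.cons (nat_lit 8) (nat_lit 0x29004a001d00b200b4005400c6007c00bd0052008500a800ed0090009400e900ac) (Net.cons (nat_lit 4) (nat_lit 0x3030c0500050e0b0e080b0d02060209000f040b030800050705070d000d0706030e) (Net.cons (nat_lit 2) (nat_lit 0x133203033020033110003333230111303312033211101131121001001330332000022) (Net.cons (nat_lit 1) (nat_lit 0x50101455044555505015551411101111554405044445155544455150504400444054) Net.nil)))))))))))))))))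

theorem g2_ok : Net.ok 275 g2 = true := by decide +kernel

noncomputable def g3 : Net := (Net.cons (nat_lit 1) (nat_lit 0x50141154155005051405001114400540015001101410100001045104454050054405) (Net.cons (nat_lit 2) (nat_lit 0x133000131302113212332323213013220303130300310222123201020023020202012) (Net.cons (nat_lit 4) (nat_lit 0xa0a0d0c0e0a040902020909060a020d0f01070804000e0605040009040506050401) (Net.cons (nat_lit 8) (nat_lit 0x2009200c9002900d200a30091006200b9008100f3008100390030000000410003) (Net.cons (nat_lit 16) (nat_lit 0x600000ea6000090070000331b00006d9e000032e300008d4700002113000093b0) (Net.cons (nat_lit 32) (nat_lit 0x971c908000000000c428b0330000000093130098000000000002010a) (Net.cons (nat_lit 64) (nat_lit 0x10da92c12bdaa2d500000000000000000000000000033636) (Net.cons (nat_lit 128) (nat_lit 0x4c8f4ba05d53ac591e51b955e2a8728f) (Net.cons (nat_lit 256) (nat_lit 260031) (Net.cons (nat_lit 128) (nat_lit 353697) (Net.cons (nat_lit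 64) (nat_lit 0x5e5a2b52e886253900000000000000006a0f0b35c51d8ff4) (Net.cons (nat_lit 32) (nat_lit 0x8fbd99cf00000000e070567d000000001a0d2af300000000263a388c) (Net.cons (nat_lit 16) (nat_lit 0x1000087210000ff6e00007388000071cf000078250000bff10000520b0000a774) (Net.cons (nat_lit 8) (nat_lit 0xf001800a0000f00e8005500d0007400fe00ed00f10094000c004e00fc00100055) (Net.cons (nat_lit 4) (nat_lit 0xd0a080c08060f0c0a0b0700040e0709020c090f040106050f0a030803010a040206) (Net.cons (nat_lit 2) (nat_lit 0x121221300221031210013021022222232311303001213100123110130112233212013) (Net.cons (nat_lit 1) (nat_lit 0x1114041410504050114144055404445415044541101050141154054411544050411) Net.nil)))))))))))))))))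

theorem g3_ok : Net.ok 275 g3 = true := by decide +kernel

noncomputable def g4 : Net := (Net.cons (nat_lit 1) (nat_lit 0x104450005104140514140045404501541415014000140151411101451004544410401) (Net.cons (nat_lit 2) (nat_lit 0x2003230132323210220221220221133021010212001002010301102300113300032) (Net.cons (nat_lit 4) (nat_lit 0xc010c0e03090b0205060f05040606020b0c0f010d070c0605010e05090f050f0000) (Net.cons (nat_lit 8) (nat_lit 0xef00e300d4005e006c00a0008b0072006b005a000c006f00b10036003a00430002) (Net.cons (nat_lit 16) (nat_lit 0x40000f21f000023380000e1b3000005c8000087380000895c000082b400006800) (Net.cons (nat_lit 32) (nat_lit 0x1195c06300000000632b370e0000000045f40a360000000000065104) (Net.cons (nat_lit 64) (nat_lit 0x2156f2566130cc9900000000000000000000000000040041) (Net.cons (nat_lit 128) (nat_lit 0xd7134b058ce3e42ffc65b8d37f9867f9) (Net.cons (nat_lit 256) (nat_lit 491517) (Net.cons (nat_lit 128) (nat_lit 138781) (Net.cons (nat_lit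 64) (nat_lit 0xfd55e2ae08eafb520000000000000000cf3f26e09f764c91) (Net.cons (nat_lit 32) (nat_lit 0x1070a85b000000007a5373d500000000b8064b58000000009dca9770) (Net.cons (nat_lit 16) (nat_lit 0x30000c17b000005540000d7580000a07300000da10000f80d000086bb00008090) (Net.cons (nat_lit 8) (nat_lit 0xfc007a00b200c400f800e90076005600ac004700150088003e007a00e600c40094) (Net.cons (nat_lit 4) (nat_lit 0xb07080e00030509080f0201020607060c0201030b0b0707000a0d04070c030c0201) (Net.cons (nat_lit 2) (nat_lit 0x131130031301000203133312210023103231221233100000232223033123031111012) (Net.cons (nat_lit 1) (nat_lit 0x55110155454150551045505144001040551504551154550055140514141015050055) Net.nil)))))))))))))))))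

theorem g4_ok : Net.ok 275 g4 = true := by decide +kernel

noncomputable def fix_P3 : List Net := [g2, g3, g4]

theorem fix_P3_ok : okE 275 fix_P3 = true := (okE_cons.2 ⟨g2_ok, (okE_cons.2 ⟨g3_ok, (okE_cons.2 ⟨g4_ok, (okE_nil 275)⟩)⟩)⟩)

noncomputable def V5 : List Net := [g2]

theorem V5_ok : okE 275 V5 = true := (okE_cons.2 ⟨g2_ok, (okE_nil 275)⟩)

noncomputable def g7 : Net := (Net.cons (nat_lit 1) (nat_lit 0x144010510504105410015100444411514110554400051411515554051440555114500) (Net.cons (nat_lit 2) (nat_lit 0x30221013232233220012223111233301200121232303002030112011011222100000) (Net.cons (nat_lit 4) (nat_lit 0x6040a0e0203070c010e080a0b0c0403000b070a0006050a00070e090a0f0d080800) (Net.cons (nat_lit 8) (nat_lit 0x5900900024005200f0005e008d00f200130032002c00bc00b400d400e7004c0005) (Net.cons (nat_lit 16) (nat_lit 0x10000f0610000ca2c0000101a00008b0a000005d9000029c00000180100009c10) (Net.cons (nat_lit 32) (nat_lit 0x38e1327400000000bf72061600000000e02882c10000000000060343)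 (Net.cons (nat_lit 64) (nat_lit 0x13aa40264400c0b000000000000000000000000000254e0) (Net.cons (nat_lit 128) (nat_lit 0x6c9221cd6f16e672f5e8945e12681600) (Net.cons (nat_lit 256) (nat_lit 450555) (Net.cons (nat_lit 128) (nat_lit 94013) (Net.cons (nat_lit 64) (nat_lit 0xa63af5635a574fd90000000000000000c12cc42b59576bf7) (Net.cons (nat_lit 32) (nat_lit 0x82c6b413000000007df65d42000000003710e54900000000d0daff88) (Net.cons (nat_lit 16) (nat_lit 0x200004be00000630a0000648e0000386200002cd60000f6c600003c5700008c8c) (Net.cons (nat_lit 8) (nat_lit 0x53005700bf00d700aa00ec006a00f500ea004e0065008d00d8004400b200e5) (Net.cons (nat_lit 4) (nat_lit 0xf0f05010b0b0c07030d080e0d06040b0c09000c0001000c040e070c0a050a0f000a) (Net.cons (nat_lit 2) (nat_lit 0x121332213101312331200021201032200301203012200231030012133113112131110) (Net.cons (nat_lit 1) (nat_lit 0x54055000004440541015100045045455441000540145404411404054400050001500) Net.nil)))))))))))))))))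

theorem g7_ok : Net.ok 275 g7 = true := by decide +kernel

noncomputable def g8 : Net := (Net.cons (nat_lit 1) (nat_lit 0x145105015410510410550114511500441110504004501045111155110144104414451) (Net.cons (nat_lit 2) (nat_lit 0x102101002300030213113220331003033233100312003113002130111102130002010) (Net.cons (nat_lit 4) (nat_lit 0x6010c0b05000009000804070e01040305050609060e0d01000a010c090801010000) (Net.cons (nat_lit 8) (nat_lit 0xde00d3009e004d006d00ac001c008a00e800d60024007b005200c7008000900005) (Net.cons (nat_lit 16) (nat_lit 0x10000d88d00007b650000c9b00000db9000004046000009b10000304d00004b00) (Net.cons (nat_lit 32) (nat_lit 0x49f0d12b000000002d699080000000002e2020040000000000001108) (Net.cons (nat_lit 64) (nat_lit 0x424040622521a94000000000000000000000000000046802) (Net.cons (nat_lit 128) (nat_lit 0x889daea2240e9e3d5e77e650516b880b) (Net.cons (nat_lit 256) (nat_lit 524111) (Net.cons (nat_lit 128) (nat_lit 191441) (Net.cons (nat_lit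 64) (nat_lit 0x2e9131049ab8ed110000000000000000ae7d8f46c59287b2) (Net.cons (nat_lit 32) (nat_lit 0x2a05c04e000000009eaf76d300000000bf9defe300000000e16cb884) (Net.cons (nat_lit 16) (nat_lit 0x60000141b0000db4c00007b3b000027f700004f830000be680000ce57000002d0) (Net.cons (nat_lit 8) (nat_lit 0xd300a500950006001400c30087009f00dd00d0008100e600f000df00ed00fe00a1) (Net.cons (nat_lit 4) (nat_lit 0x80d05060a0d010d000602090109060406060201060800060e06010e0d0509050009) (Net.cons (nat_lit 2) (nat_lit 0x22100110021331121322201312103021033121312000013220100333330212103030) (Net.cons (nat_lit 1) (nat_lit 0x1550105110404140504454144144550141011050504145445105111115414554405) Net.nil)))))))))))))))))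

theorem g8_ok : Net.ok 275 g8 = true := by decide +kernel

noncomputable def g9 : Net := (Net.cons (nat_lit 1) (nat_lit 0x144400110114401500514054450501540504550054050511515141144104105504) (Net.cons (nat_lit 2) (nat_lit 0x121200112201213233233012120113021301323012211113232302300100102331010) (Net.cons (nat_lit 4) (nat_lit 0x1050a0605030c0d01020c03080d080b070d060c09030f07050d0c030c0007000701) (Net.cons (nat_lit 8) (nat_lit 0x9200f100b1005b0071006c00c100d5004400c900d90089001000ae000200570003) (Net.cons (nat_lit 16) (nat_lit 0x50000a7040000af530000b74a0000c08e000001ab0000a44a0000770500004010) (Net.cons (nat_lit 32) (nat_lit 0x67125374000000002ca0678300000000d513291b0000000000010b8f) (Net.cons (nat_lit 64) (nat_lit 0x24406902b9c8a91900000000000000000000000000022d20) (Net.cons (nat_lit 128) (nat_lit 0xec93f69414c04fa308d7094fef2cce89) (Net.cons (nat_lit 256) (nat_lit 524287) (Net.cons (nat_lit 128) (nat_lit 257147) (Net.cons (nat_lit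 64) (nat_lit 0x7ec6a64ef14b3608000000000000000014977bcec5c03de4) (Net.cons (nat_lit 32) (nat_lit 0xa5c6aa6800000000fd138b8a00000000b13327d300000000200d5b7d) (Net.cons (nat_lit 16) (nat_lit 0x60000a0220000e926000057b4000016fe000082fb0000b0d80000571600009996) (Net.cons (nat_lit 8) (nat_lit 0x210064000700f100d3004400e700b800f5002b00e10088008100e600bb0018008c) (Net.cons (nat_lit 4) (nat_lit 0xc0a0405030f030b06020a000a070e07000b08080d070e0e0a0d0c04070004010a05) (Net.cons (nat_lit 2) (nat_lit 0x120110012220202130111003133301111211022030113003301332000310131010030) (Net.cons (nat_lit 1) (nat_lit 0x40514040145450404501115155550500515110454540405500554144501511151104) Net.nil)))))))))))))))))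

theorem g9_ok : Net.ok 275 g9 = true := by decide +kernel

noncomputable def V10 : List Net := [g3, g7, g8, g9]

theorem V10_ok : okE 275 V10 = true := (okE_cons.2 ⟨g3_ok, (okE_cons.2 ⟨g7_ok, (okE_cons.2 ⟨g8_ok, (okE_cons.2 ⟨g9_ok, (okE_nil 275)⟩)⟩)⟩)⟩)

noncomputable def g12 : Net := (Net.cons (nat_lit 1) (nat_lit 0x45050151551115045155450004404401511454410500044411511014115105450515) (Net.cons (nat_lit 2) (nat_lit 0x120223232003000210320122213020102220031333100133320030132210303210210) (Net.cons (nat_lit 4) (nat_lit 0x10d080e060b050308050e060e040904080f0400050c010d0e0d020c0f0d0e010802) (Net.cons (nat_lit 8) (nat_lit 0xd500c6005a004600ad0050006300a800e80038007d00b400300052004600b00001) (Net.cons (nat_lit 16) (nat_lit 0x30000984e000044d40000a12b0000b8c90000908300003dd10000021500001040) (Net.cons (nat_lit 32) (nat_lit 0x40867abd00000000781bd6b400000000d0185ea5000000000002c980) (Net.cons (nat_lit 64) (nat_lit 0x4800183083fa005e0000000000000000000000000003f125)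 (Net.cons (nat_lit 128) (nat_lit 0xb7bd6f510b8167466e87312adc7ab9bc) (Net.cons (nat_lit 256) (nat_lit 522751) (Net.cons (nat_lit 128) (nat_lit 290565) (Net.cons (nat_lit 64) (nat_lit 0xdec4f425ae4762b20000000000000000d50254e4332a2f64) (Net.cons (nat_lit 32) (nat_lit 0x289e5e6400000000622ba08f000000008ed69d6400000000d0a1cbd9) (Net.cons (nat_lit 16) (nat_lit 0xcbab00005f0000005b830000c29e000087a1000081760000e33a00001f13) (Net.cons (nat_lit 8) (nat_lit 0xcd0061002700f400cd0012004200b100aa00fc00b5003f00a300f800eb005b0014) (Net.cons (nat_lit 4) (nat_lit 0x1070a050b05050c08040a050a05080a0a0b0c0d0f0c0b07000e0b0b030b06090f07) (Net.cons (nat_lit 2) (nat_lit 0x11103201321222212330132103121102201112323122200000022031033331332201) (Net.cons (nat_lit 1) (nat_lit 0x1004050141414040451145145545401111501014004500001511050151000105511) Net.nil)))))))))))))))))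

theorem g12_ok : Net.ok 275 g12 = true := by decide +kernel

noncomputable def g13 : Net := (Net.cons (nat_lit 1) (nat_lit 0x105010545401145011501145501145150440454511444015555114411444051410141) (Net.cons (nat_lit 2) (nat_lit 0x120021202110133210211112301122131321333120031322020100212013311020020) (Net.cons (nat_lit 4) (nat_lit 0x6050f0d0503050e0d0d0b000c0b0203050e00080f08050c0408000d050500030000) (Net.cons (nat_lit 8) (nat_lit 0x2d009c008100f20049001600600032007300c1000e00a0003400e00085000b0004) (Net.cons (nat_lit 16) (nat_lit 0x60000472f0000baa200007b5a0000c0210000a6b2000005fe0000ade300006240) (Net.cons (nat_lit 32) (nat_lit 0xa0f59180000000089c2ba9a00000000ecdc40a50000000000008708) (Net.cons (nat_lit 64) (nat_lit 0x900604fa4b70b820000000000000000000000000004c8a9) (Net.cons (nat_lit 128) (nat_lit 0x8670f495ecc873b289ae145a41792696) (Net.cons (nat_lit 256) (nat_lit 520191) (Net.cons (nat_lit 128) (nat_lit 429723) (Net.cons (nat_lit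 64) (nat_lit 0x7dc3fc258a3b8874000000000000000051a04665658a559c) (Net.cons (nat_lit 32) (nat_lit 0x40d5c74f00000000218e1a950000000070bda51f00000000b0cc9479) (Net.cons (nat_lit 16) (nat_lit 0x20000a7ed0000a0a20000bf6a0000f0af0000465b0000d1e400005dc10000e29d) (Net.cons (nat_lit 8) (nat_lit 0x3800ff0038003a00df00e20055001e00b8007200c20099003000d600c500840078) (Net.cons (nat_lit 4) (nat_lit 0xa02080203070d010d030f050d0f0a0200080d0c06000d0c0d0d010d0a060f020d00) (Net.cons (nat_lit 2) (nat_lit 0x33220102220331112310233312130112233331011113313333300020023233331110) (Net.cons (nat_lit 1) (nat_lit 0x100054044141545514114055011545005440551005551111041515514410411501511) Net.nil)))))))))))))))))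

theorem g13_ok : Net.ok 275 g13 = true := by decide +kernel

noncomputable def V14 : List Net := [g12, g13, g7]

theorem V14_ok : okE 275 V14 = true := (okE_cons.2 ⟨g12_ok, (okE_cons.2 ⟨g13_ok, (okE_cons.2 ⟨g7_ok, (okE_nil 275)⟩)⟩)⟩)

noncomputable def g16 : Net := (Net.cons (nat_lit 1) (nat_lit 0x11510040011400050544015414405545051115441100400040041145510005010550) (Net.cons (nat_lit 2) (nat_lit 0x32101133200323323333103232120302201211311012222102033221201313202) (Net.cons (nat_lit 4) (nat_lit 0xd090a0900020e0e0c0f05090c010105000d0b0d080c020903070a01040802010b03) (Net.cons (nat_lit 8) (nat_lit 0x12009b009a00c400150012003100200032008e00040032000700bb00ac00600000) (Net.cons (nat_lit 16) (nat_lit 0x30000651e0000c8f00000253a000047d600008d900000aa050000f00400008438) (Net.cons (nat_lit 32) (nat_lit 0xa707420d00000000084055140000000022141d690000000000004e5c) (Net.cons (nat_lit 64) (nat_lit 0x347a04990dc1ff0a000000000000000000000000000093a9)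 (Net.cons (nat_lit 128) (nat_lit 0x12a3da359ded348b66d9f78c1020fe00) (Net.cons (nat_lit 256) (nat_lit 393215) (Net.cons (nat_lit 128) (nat_lit 414180) (Net.cons (nat_lit 64) (nat_lit 0xd45e619c0e7bdee9000000000000000075dadaf219c21e87) (Net.cons (nat_lit 32) (nat_lit 0x7390ba4c000000005f7ca1f0000000004cc18d7f0000000069805342) (Net.cons (nat_lit 16) (nat_lit 0x20000585b0000385d0000de720000e17400001f6d0000c8e3000046430000ad3c) (Net.cons (nat_lit 8) (nat_lit 0x12007a00aa006d000e00c300bf00e100e2003c008700d1005b00a200f500bd0041) (Net.cons (nat_lit 4) (nat_lit 0x8080c0709070c0403080c0d000806010007010904010f04090903060e0a0d0f0801) (Net.cons (nat_lit 2) (nat_lit 0x20132012300003101211133313230010102311020221103300302213033112130222) (Net.cons (nat_lit 1) (nat_lit 0x51454114115005111504511550500404041040505540450150111115401150415540) Net.nil)))))))))))))))))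

theorem g16_ok : Net.ok 275 g16 = true := by decide +kernel

noncomputable def g17 : Net := (Net.cons (nat_lit 1) (nat_lit 0x50151015500455550501115455501415141104110540551450050400141540450100) (Net.cons (nat_lit 2) (nat_lit 0x12210102320123122000103103313330330221112130212121301001310200032120) (Net.cons (nat_lit 4) (nat_lit 0x6070a0206040f080f070a0d080e0d0d0903040c02050a0201020c0a020401030d02) (Net.cons (nat_lit 8) (nat_lit 0x3400d8006e0023008500b100650015000200090063001a001d000400b600640000) (Net.cons (nat_lit 16) (nat_lit 0x30000b28a00000f1d00001f46000090750000f5ec00004fea0000149c00002f38) (Net.cons (nat_lit 32) (nat_lit 0xf0a10159000000006e10e62700000000e217034e000000000000068a) (Net.cons (nat_lit 64) (nat_lit 0xf22c22368c32a8080000000000000000000000000007bf6c) (Net.cons (nat_lit 128) (nat_lit 0xe01a223d6fe5d6541f770dcbf110a88e) (Net.cons (nat_lit 256) (nat_lit 524286) (Net.cons (nat_lit 128) (nat_lit 181732) (Net.cons (nat_lit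 64) (nat_lit 0xb6421221deb9c95600000000000000002f4dea1cbd801e9e) (Net.cons (nat_lit 32) (nat_lit 0x9130519b00000000075903f90000000007fc3772000000005d00229a) (Net.cons (nat_lit 16) (nat_lit 0x60000dfd600005d9600005d7e0000414d0000b18200009a3a000011550000d7a2) (Net.cons (nat_lit 8) (nat_lit 0x8200a400f80031004e00c50040003d007300ae0006005d00c100e70067004b00dc) (Net.cons (nat_lit 4) (nat_lit 0xb06070f0809080604010d04020105090c03090c0e0b0f0c0f0a040a01080d020406) (Net.cons (nat_lit 2) (nat_lit 0x12130223110223301201113221320202203233330220011000333323133102312020) (Net.cons (nat_lit 1) (nat_lit 0x4041045154145510011105414501455150054440014501414141514441115454150) Net.nil)))))))))))))))))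

theorem g17_ok : Net.ok 275 g17 = true := by decide +kernel

noncomputable def V18 : List Net := [g16, g17]

theorem V18_ok : okE 275 V18 = true := (okE_cons.2 ⟨g16_ok, (okE_cons.2 ⟨g17_ok, (okE_nil 275)⟩)⟩)

noncomputable def g20 : Net := (Net.cons (nat_lit 1) (nat_lit 0x41454115055005111544511440510404045040504540450150041015401150415540) (Net.cons (nat_lit 2) (nat_lit 0x12111320212321333031321001330230300311202211303300320211033320310200) (Net.cons (nat_lit 4) (nat_lit 0xe04060a0103060e09060d0d08010205000f0d030c070f0f05090f05040a06060603) (Net.cons (nat_lit 8) (nat_lit 0xd100ab00c500ea00e500c0002a00600068009000cf005d005400ef00d000180000) (Net.cons (nat_lit 16) (nat_lit 0x10000230700006e270000e20600004d050000ac600000e51700002c6000007f60) (Net.cons (nat_lit 32) (nat_lit 0x514a31b1000000000614115c0000000051a74c260000000000022010) (Net.cons (nat_lit 64) (nat_lit 0xdb592e488541ac490000000000000000000000000007d053) (Net.cons (nat_lit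 128) (nat_lit 0xabd68c257ca7135a74a9b3cbb140e05d) (Net.cons (nat_lit 256) (nat_lit 524159) (Net.cons (nat_lit 128) (nat_lit 15576) (Net.cons (nat_lit 64) (nat_lit 0x826022c97fc63f5800000000000000001f6a238f17d1917a) (Net.cons (nat_lit 32) (nat_lit 0x538a803d000000004d4d0c6900000000312debb9000000003000fb94) (Net.cons (nat_lit 16) (nat_lit 0x60000f9730000e4060000cb480000b993000060000000be090000c83000006be3) (Net.cons (nat_lit 8) (nat_lit 0xf600da001700230096002d005500e6003900050083008200a400ef00cb00c80004) (Net.cons (nat_lit 4) (nat_lit 0xe070e0500080d060a0b050b000502050405030702040709090b0f0c0e0f0b09070b) (Net.cons (nat_lit 2) (nat_lit 0x22331321331203300323121023030322002021030313221102300103233231131200) (Net.cons (nat_lit 1) (nat_lit 0x11550040011440051444005014405445151115444100410040040145414005010550) Net.nil)))))))))))))))))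

theorem g20_ok : Net.ok 275 g20 = true := by decide +kernel

noncomputable def V21 : List Net := [g20]

theorem V21_ok : okE 275 V21 = true := (okE_cons.2 ⟨g20_ok, (okE_nil 275)⟩)

noncomputable def g23 : Net := (Net.cons (nat_lit 1) (nat_lit 0x1440545115540154515050155410451505501145055550415441444051104101140) (Net.cons (nat_lit 2) (nat_lit 0x33121301022220130131010120232101210110302010310310303333210322231000) (Net.cons (nat_lit 4) (nat_lit 0x2020e080900070008080203060702020406010a030304050a0e0d0a0f07030f0e02) (Net.cons (nat_lit 8) (nat_lit 0xdc006000c60064006f009c00c000ba00740005003300bc004600de008800830000) (Net.cons (nat_lit 16) (nat_lit 0x40000eca00000834f0000190800000f5500007c0b0000d5810000958900000900) (Net.cons (nat_lit 32) (nat_lit 0xdac4544a000000000a9c91b400000000c00100c00000000000035a00) (Net.cons (nat_lit 64) (nat_lit 0x830382b593280000000000000000000000000001aa80) (Net.cons (nat_lit 128) (nat_lit 0x473347c5dce98224471490160658c42b)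 (Net.cons (nat_lit 256) (nat_lit 524203) (Net.cons (nat_lit 128) (nat_lit 324905) (Net.cons (nat_lit 64) (nat_lit 0x4b95f93c05dd91ff0000000000000000fe0606892a01f7d8) (Net.cons (nat_lit 32) (nat_lit 0x18f4e67d000000007c191bc5000000009922733e00000000384a1098) (Net.cons (nat_lit 16) (nat_lit 0x60000254f000020ee0000214900003ef100001f72000026a50000df8e000040da) (Net.cons (nat_lit 8) (nat_lit 0x99001a00d20073004b0034004d00db003c001f0011002c003200bc002600eb0012) (Net.cons (nat_lit 4) (nat_lit 0x8000e0005080c0f0b02060e030a06020d0d070f010d030804060d080c08080e070e) (Net.cons (nat_lit 2) (nat_lit 0x31203322222333120003130332011011312101303220233331221202313233131120) (Net.cons (nat_lit 1) (nat_lit 0x111040505015110114445144144504400144140045040011515540150144550144510) Net.nil)))))))))))))))))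

theorem g23_ok : Net.ok 275 g23 = true := by decide +kernel

noncomputable def g24 : Net := (Net.cons (nat_lit 1) (nat_lit 0x111040505015110114445144144504400144140045040011515540150144550144510) (Net.cons (nat_lit 2) (nat_lit 0x130202333233232030112021323000110202010212331223230230313302323020020) (Net.cons (nat_lit 4) (nat_lit 0xc070d09040107020f0b030a020b0a05000f070c010a010d0b0400040400070e06) (Net.cons (nat_lit 8) (nat_lit 0xbc00ae003b000500e7000600a800a500820073006100d7000100dc0003004e0004) (Net.cons (nat_lit 16) (nat_lit 0x1000000ea0000073c00002e720000ef2000009291000054b90000980c00004848) (Net.cons (nat_lit 32) (nat_lit 0x13dba9fa000000000800014f00000000130073e0000000000000100e) (Net.cons (nat_lit 64) (nat_lit 0x8a100b00084669c20000000000000000000000000000026c) (Net.cons (nat_lit 128) (nat_lit 0x7c0560954648331382534bcb4d0579e0) (Net.cons (nat_lit 256) (nat_lit 523246) (Net.cons (nat_lit 128) (nat_lit 158100) (Net.cons (nat_lit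 64) (nat_lit 0xa98b0f39e219acc00000000000000000cae5148ddfb6823c) (Net.cons (nat_lit 32) (nat_lit 0x13cf82d3000000001878800300000000fda710cf000000009fc49086) (Net.cons (nat_lit 16) (nat_lit 0x70000da7e000019110000bb100000a346000037a700001cc700001c0e000089d2) (Net.cons (nat_lit 8) (nat_lit 0xb800160021004400de00be002d0088004900e2009700dc002200ff00ed00280006) (Net.cons (nat_lit 4) (nat_lit 0xe0e070004080f0900000a0a0f0a0e0b090e08020e0e090c06070402030b0f03060a) (Net.cons (nat_lit 2) (nat_lit 0x132030310032331030020101031323010300110213001301201202332201232220110) (Net.cons (nat_lit 1) (nat_lit 0x1440545115540154515050155410451505501145055550415441444051104101140) Net.nil)))))))))))))))))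

theorem g24_ok : Net.ok 275 g24 = true := by decide +kernel

noncomputable def V25 : List Net := [g23, g24]

theorem V25_ok : okE 275 V25 = true := (okE_cons.2 ⟨g23_ok, (okE_cons.2 ⟨g24_ok, (okE_nil 275)⟩)⟩)

noncomputable def V27 : List Net := [g24]

theorem V27_ok : okE 275 V27 = true := (okE_cons.2 ⟨g24_ok, (okE_nil 275)⟩)

noncomputable def fix_P3_o_E4 : List Net := []

theorem fix_P3_o_E4_ok : okE 275 fix_P3_o_E4 = true := (okE_nil 275)

noncomputable def fix_P3_o_G3 : List Net := [g24]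

theorem fix_P3_o_G3_ok : okE 275 fix_P3_o_G3 = true := (okE_cons.2 ⟨g24_ok, (okE_nil 275)⟩)

noncomputable def fix_P3_o_E3 : List Net := [g24, g23]

theorem fix_P3_o_E3_ok : okE 275 fix_P3_o_E3 = true := (okE_cons.2 ⟨g24_ok, (okE_cons.2 ⟨g23_ok, (okE_nil 275)⟩)⟩)

noncomputable def fix_P3_o_G2 : List Net := [g20, g24, g23]

theorem fix_P3_o_G2_ok : okE 275 fix_P3_o_G2 = true := (okE_cons.2 ⟨g20_ok, (okE_cons.2 ⟨g24_ok, (okE_cons.2 ⟨g23_ok, (okE_nil 275)⟩)⟩)⟩)

noncomputable def fix_P3_o_E2 : List Net := [g20, g16, g17, g24, g23]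

theorem fix_P3_o_E2_ok : okE 275 fix_P3_o_E2 = true := (okE_cons.2 ⟨g20_ok, (okE_cons.2 ⟨g16_ok, (okE_cons.2 ⟨g17_ok, (okE_cons.2 ⟨g24_ok, (okE_cons.2 ⟨g23_ok, (okE_nil 275)⟩)⟩)⟩)⟩)⟩)

noncomputable def fix_P3_o_G1 : List Net := [g12, g13, g7, g20, g16, g17, g24, g23]

theorem fix_P3_o_G1_ok : okE 275 fix_P3_o_G1 = true := (okE_cons.2 ⟨g12_ok, (okE_cons.2 ⟨g13_ok, (okE_cons.2 ⟨g7_ok, (okE_cons.2 ⟨g20_ok, (okE_cons.2 ⟨g16_ok, (okE_cons.2 ⟨g17_ok, (okE_cons.2 ⟨g24_ok, (okE_cons.2 ⟨g23_ok, (okE_nil 275)⟩)⟩)⟩)⟩)⟩)⟩)⟩)⟩)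

noncomputable def fix_P3_o_E1 : List Net := [g12, g13, g7, g3, g8, g9, g20, g16, g17, g24, g23]

theorem fix_P3_o_E1_ok : okE 275 fix_P3_o_E1 = true := (okE_cons.2 ⟨g12_ok, (okE_cons.2 ⟨g13_ok, (okE_cons.2 ⟨g7_ok, (okE_cons.2 ⟨g3_ok, (okE_cons.2 ⟨g8_ok, (okE_cons.2 ⟨g9_ok, (okE_cons.2 ⟨g20_ok, (okE_cons.2 ⟨g16_ok, (okE_cons.2 ⟨g17_ok, (okE_cons.2 ⟨g24_ok, (okE_cons.2 ⟨g23_ok, (okE_nil 275)⟩)⟩)⟩)⟩)⟩)⟩)⟩)⟩)⟩)⟩)⟩)

noncomputable def fix_P3_o_G0 : List Net := [g2, g12, g13, g7, g3, g8, g9, g20, g16, g17, g24, g23]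

theorem fix_P3_o_G0_ok : okE 275 fix_P3_o_G0 = true := (okE_cons.2 ⟨g2_ok, (okE_cons.2 ⟨g12_ok, (okE_cons.2 ⟨g13_ok, (okE_cons.2 ⟨g7_ok, (okE_cons.2 ⟨g3_ok, (okE_cons.2 ⟨g8_ok, (okE_cons.2 ⟨g9_ok, (okE_cons.2 ⟨g20_ok, (okE_cons.2 ⟨g16_ok, (okE_cons.2 ⟨g17_ok, (okE_cons.2 ⟨g24_ok, (okE_cons.2 ⟨g23_ok, (okE_nil 275)⟩)⟩)⟩)⟩)⟩)⟩)⟩)⟩)⟩)⟩)⟩)⟩)

noncomputable def fix_P3_o_E0 : List Net := [g2, g4, g12, g13, g7, g3, g8, g9, g20, g16, g17, g24, g23]

theorem fix_P3_o_E0_ok : okE 275 fix_P3_o_E0 = true := (okE_cons.2 ⟨g2_ok, (okE_cons.2 ⟨g4_ok, (okE_cons.2 ⟨g12_ok, (okE_cons.2 ⟨g13_ok, (okE_cons.2 ⟨g7_ok, (okE_cons.2 ⟨g3_ok, (okE_cons.2 ⟨g8_ok, (okE_cons.2 ⟨g9_ok, (okE_cons.2 ⟨g20_ok, (okE_cons.2 ⟨g16_ok, (okE_cons.2 ⟨g17_ok, (okE_cons.2 ⟨g24_ok, (okE_cons.2 ⟨g23_ok, (okE_nil 275)⟩)⟩)⟩)⟩)⟩)⟩)⟩)⟩)⟩)⟩)⟩)⟩)⟩)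

noncomputable def g38 : Net := (Net.cons (nat_lit 1) (nat_lit 0x45154110044540455044010141551054550540004515005001041541511011545410) (Net.cons (nat_lit 2) (nat_lit 0x100222221023031131203223133223100321012321332323112303220033321201100) (Net.cons (nat_lit 4) (nat_lit 0x301030c0b080204030b010301000c0d0d02010e07000b0c070a0c09020d09050004) (Net.cons (nat_lit 8) (nat_lit 0xb00022008200b400c60067002f00c300040000006c004800ac0024004800450002) (Net.cons (nat_lit 16) (nat_lit 0x10000de22000049d800003c8e00001a23000078a3000000080000400000003208) (Net.cons (nat_lit 32) (nat_lit 0x27224884000000000a444ae9000000002232aa8200000000000753a1) (Net.cons (nat_lit 64) (nat_lit 0x22080c2e0293840c0000000000000000000000000000a6a2) (Net.cons (nat_lit 128) (nat_lit 0x985414cd3661a3243f4ef8e2899b0f07) (Net.cons (nat_lit 256) (nat_lit 524287) (Net.cons (nat_lit 128) (nat_lit 420476) (Net.cons (nat_lit 64) (nat_lit 0xee86600165d73e8700000000000000003c59642c743f09d3)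 (Net.cons (nat_lit 32) (nat_lit 0x1c558a30000000000926061600000000b89cddb500000000dd1388cb) (Net.cons (nat_lit 16) (nat_lit 0x20000105c0000391f000002d400005101000065e20000b89c000058f600008248) (Net.cons (nat_lit 8) (nat_lit 0x2800d2004b00c2002400390092002400e100d700f3004b00e00094003c0097002a) (Net.cons (nat_lit 4) (nat_lit 0xd0906080802000a0a040f0a09070e02060003060305040304060d0c02000b000f0c) (Net.cons (nat_lit 2) (nat_lit 0x23002022030223021023130203211233002021310331000231101221220230002330) (Net.cons (nat_lit 1) (nat_lit 0x150151050400540005551100415544514000051101415541050050444515040041050) Net.nil)))))))))))))))))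

theorem g38_ok : Net.ok 275 g38 = true := by decide +kernel

noncomputable def fix_P7 : List Net := [g38]

theorem fix_P7_ok : okE 275 fix_P7 = true := (okE_cons.2 ⟨g38_ok, (okE_nil 275)⟩)

noncomputable def V39 : List Net := [g38]

theorem V39_ok : okE 275 V39 = true := (okE_cons.2 ⟨g38_ok, (okE_nil 275)⟩)

noncomputable def fix_P7_o_E1 : List Net := []

theorem fix_P7_o_E1_ok : okE 275 fix_P7_o_E1 = true := (okE_nil 275)

noncomputable def fix_P7_o_G0 : List Net := [g38]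

theorem fix_P7_o_G0_ok : okE 275 fix_P7_o_G0 = true := (okE_cons.2 ⟨g38_ok, (okE_nil 275)⟩)

noncomputable def fix_P7_o_E0 : List Net := [g38]

theorem fix_P7_o_E0_ok : okE 275 fix_P7_o_E0 = true := (okE_cons.2 ⟨g38_ok, (okE_nil 275)⟩)

noncomputable def g44 : Net := (Net.cons (nat_lit 1) (nat_lit 0x41141540414550401005051114505411150155555505545511444440041541014050) (Net.cons (nat_lit 2) (nat_lit 0x121211133001331301000300110111230100011222113111312010200011031022300) (Net.cons (nat_lit 4) (nat_lit 0xb050f080e080809060f0f070f0f090a030d0e0c000203090904030f0d050f020400) (Net.cons (nat_lit 8) (nat_lit 0x84008d00eb00d4004f00900045001100fc00ff00b2005e00e000c700dd00880004) (Net.cons (nat_lit 16) (nat_lit 0x10000324f000074db0000d756000007430000ce800000f4ca00000e2400005470) (Net.cons (nat_lit 32) (nat_lit 0x8b6cd98700000000c840a3c8000000000083ca41000000000004a0cd) (Net.cons (nat_lit 64) (nat_lit 0xe04dd8880c71a1cd00000000000000000000000000028407)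 (Net.cons (nat_lit 128) (nat_lit 0x9fae130cc87c62256ef3cf9617054dd3) (Net.cons (nat_lit 256) (nat_lit 524287) (Net.cons (nat_lit 128) (nat_lit 426153) (Net.cons (nat_lit 64) (nat_lit 0x3945e7918a1e450b0000000000000000e09758f41018c1b6) (Net.cons (nat_lit 32) (nat_lit 0xdb956aa0000000005a3573dc00000000df08d17900000000205dbcdd) (Net.cons (nat_lit 16) (nat_lit 0x300004a1b0000fb000000eb7b0000bfe50000d6be0000d4460000f0100000ee44) (Net.cons (nat_lit 8) (nat_lit 0x3200cb00b6009b00ab00b7000d00a100a9007c002100ba004800e600aa00c70024) (Net.cons (nat_lit 4) (nat_lit 0x6010c0c0409070805030602000c080e020b0d010709000d0c0307030d01040c0d00) (Net.cons (nat_lit 2) (nat_lit 0x123310102320123003103312123110213311101022031330320333011120001310300) (Net.cons (nat_lit 1) (nat_lit 0x104004101015511054045051444040040554445105450414004114044115115045440) Net.nil)))))))))))))))))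

theorem g44_ok : Net.ok 275 g44 = true := by decide +kernel

noncomputable def fix_P5 : List Net := [g44]

theorem fix_P5_ok : okE 275 fix_P5 = true := (okE_cons.2 ⟨g44_ok, (okE_nil 275)⟩)

noncomputable def V45 : List Net := [g44]

theorem V45_ok : okE 275 V45 = true := (okE_cons.2 ⟨g44_ok, (okE_nil 275)⟩)

noncomputable def fix_P5_o_E1 : List Net := []

theorem fix_P5_o_E1_ok : okE 275 fix_P5_o_E1 = true := (okE_nil 275)

noncomputable def fix_P5_o_G0 : List Net := [g44]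

theorem fix_P5_o_G0_ok : okE 275 fix_P5_o_G0 = true := (okE_cons.2 ⟨g44_ok, (okE_nil 275)⟩)

noncomputable def fix_P5_o_E0 : List Net := [g44]

theorem fix_P5_o_E0_ok : okE 275 fix_P5_o_E0 = true := (okE_cons.2 ⟨g44_ok, (okE_nil 275)⟩)

noncomputable def g50 : Net := (Net.cons (nat_lit 1) (nat_lit 0x141400104550410504411110101504014455540044501414550055401001050454541) (Net.cons (nat_lit 2) (nat_lit 0x32010321113023301321121231102022021131320122213202031121023313202100) (Net.cons (nat_lit 4) (nat_lit 0x30f080a0908060105080503070a060d090d0b0a01090f0e040d040d01020d080405) (Net.cons (nat_lit 8) (nat_lit 0x3008c00fa0033004c009b00f200b000a30059005400940070001e003000c60000) (Net.cons (nat_lit 16) (nat_lit 0x100006ae800008a720000188c0000e1d200001208000030820000698a000021a0) (Net.cons (nat_lit 32) (nat_lit 0xa4f0b21a0000000041c1ea640000000010c56a16000000000003cfd2) (Net.cons (nat_lit 64) (nat_lit 0x66c315c608aa75180000000000000000000000000001c88f)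 (Net.cons (nat_lit 128) (nat_lit 0x59629a8406b88c1127810752c817ebd9) (Net.cons (nat_lit 256) (nat_lit 520191) (Net.cons (nat_lit 128) (nat_lit 301943) (Net.cons (nat_lit 64) (nat_lit 0x13a57b5edc88f67100000000000000008e0dde0e14e3642e) (Net.cons (nat_lit 32) (nat_lit 0xa9b8991f00000000c90f8b13000000002701307f000000007cf6c12f) (Net.cons (nat_lit 16) (nat_lit 0x200008fab00007dbd0000a3f0000079930000254100006fc000000eb0000057a5) (Net.cons (nat_lit 8) (nat_lit 0x8005b0032003a00f0002700a800b700cd009b003000bd002c00a6006400da00fb) (Net.cons (nat_lit 4) (nat_lit 0xb0f0c000202040e0b0705050509020e0e0c0a030003060407050d01040d09080809) (Net.cons (nat_lit 2) (nat_lit 0x3333322232203000032322313301222331003333113122113133022232120022302) (Net.cons (nat_lit 1) (nat_lit 0x55014544514445551110445144141054455040455551511051100445154405550015) Net.nil)))))))))))))))))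

theorem g50_ok : Net.ok 275 g50 = true := by decide +kernel

noncomputable def g51 : Net := (Net.cons (nat_lit 1) (nat_lit 0x105414544501105055105455404140051401105005000454504115544504004015101) (Net.cons (nat_lit 2) (nat_lit 0x22013232322133312220102022010020203123231312312310122132211020131130) (Net.cons (nat_lit 4) (nat_lit 0x10707010e04030201020c0c080d010d0c06010908080707090e070e030b0a0e0000) (Net.cons (nat_lit 8) (nat_lit 0xb10011009700b2006d004900c000e5007a005a0058004d00070048004c00c90003) (Net.cons (nat_lit 16) (nat_lit 0x9458000096f40000b72f0000691c000049b3000023220000225000000080) (Net.cons (nat_lit 32) (nat_lit 0xbf1cf3110000000012e5b669000000001600fd280000000000018834) (Net.cons (nat_lit 64) (nat_lit 0x4c0430c55820b8d400000000000000000000000000034c41) (Net.cons (nat_lit 128) (nat_lit 0x767ec7244df23c82aa2174c1154eb6cc) (Net.cons (nat_lit 256) (nat_lit 524287) (Net.cons (nat_lit 128) (nat_lit 161463) (Net.cons (nat_lit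 64) (nat_lit 0xc8d240426633653d0000000000000000dfe2e07876329526) (Net.cons (nat_lit 32) (nat_lit 0x38d33a14000000005791b89700000000c30f8a9200000000445a1cc8) (Net.cons (nat_lit 16) (nat_lit 0x600000d460000e4cc0000e49f00007aa4000048c30000e436000017e3000008ac) (Net.cons (nat_lit 8) (nat_lit 0x80003e00bb001e000f00b4000f00dc0085003c00e7009500f8007e0053008a005b) (Net.cons (nat_lit 4) (nat_lit 0x6040c0c0d0c0a050b0a06000b0701020b0d010c0b090b0a00090c0e0a0004000c0c) (Net.cons (nat_lit 2) (nat_lit 0x1031312212003313031122233112121310211122313132312322301313220001020) (Net.cons (nat_lit 1) (nat_lit 0x151101545040045051011104000141155414501154054550151051410445114511401) Net.nil)))))))))))))))))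

theorem g51_ok : Net.ok 275 g51 = true := by decide +kernel

noncomputable def g52 : Net := (Net.cons (nat_lit 1) (nat_lit 0x10144555400501105140055100111455001001114145114001545504001005454550) (Net.cons (nat_lit 2) (nat_lit 0x31123300310113112133121231311213221220301223320312331003031111011002) (Net.cons (nat_lit 4) (nat_lit 0x409070500040a0405020c0604070508070f030307040f09040c01040c0c040c0004) (Net.cons (nat_lit 8) (nat_lit 0x7b00df00ea0060008100e200a6006200a5008300d4009900b2001d008a002c0005) (Net.cons (nat_lit 16) (nat_lit 0x60000cfc3000013a90000572a000015230000021c00003758000080f000000698) (Net.cons (nat_lit 32) (nat_lit 0x386b4420000000006390aac00000000fa4125490000000000064a62) (Net.cons (nat_lit 64) (nat_lit 0x2692ac01d200972900000000000000000000000000050ce2) (Net.cons (nat_lit 128) (nat_lit 0x35ff9c25ef8887cf426d707815009829) (Net.cons (nat_lit 256) (nat_lit 524027) (Net.cons (nat_lit 128) (nat_lit 294998) (Net.cons (nat_lit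 64) (nat_lit 0x6a31ab5cdc1925e1000000000000000005dee573ac164662) (Net.cons (nat_lit 32) (nat_lit 0x438475270000000093d85778000000001634e31e0000000047f3266b) (Net.cons (nat_lit 16) (nat_lit 0x45d70000746500008802000087710000083700004e9d00000e9200005e5f) (Net.cons (nat_lit 8) (nat_lit 0x3a00590064009c00de00e2003d007e00e700590074008c006300f000ef00da0033) (Net.cons (nat_lit 4) (nat_lit 0x50a0a080c0803040802040f0707080a0a08050f04060801040b0600060206060e06) (Net.cons (nat_lit 2) (nat_lit 0x122032210303330132321330122200002210303000131021200003030303011011332) (Net.cons (nat_lit 1) (nat_lit 0x45054441405005455544040014110005551444451151410444441404054450140104) Net.nil)))))))))))))))))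

theorem g52_ok : Net.ok 275 g52 = true := by decide +kernel

noncomputable def g53 : Net := (Net.cons (nat_lit 1) (nat_lit 0x110044511511445105411010005441541144041540511414111114404145040105550) (Net.cons (nat_lit 2) (nat_lit 0x10033133303323122132000220123101013021012020310233211311210230101120) (Net.cons (nat_lit 4) (nat_lit 0xe07080b090901030b0302040b0a0d0b0d0e01060e0f00000d04090b070a00070301) (Net.cons (nat_lit 8) (nat_lit 0xdd008d0008002b0055000200700028009a00ae0034007100960042003e00210000) (Net.cons (nat_lit 16) (nat_lit 0x7473000041520000d3420000b30a0000a80000005e8a0000eb7000003130) (Net.cons (nat_lit 32) (nat_lit 0x49b96ef4000000007353c920000000005707ea23000000000001555b) (Net.cons (nat_lit 64) (nat_lit 0x91829d424da9a0d00000000000000000000000000054a24) (Net.cons (nat_lit 128) (nat_lit 0xc5e197889f7d628b9a7c3c5cf9819b35) (Net.cons (nat_lit 256) (nat_lit 393215) (Net.cons (nat_lit 128) (nat_lit 481041) (Net.cons (nat_lit 64)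 (nat_lit 0xc105fdc21ea8f0640000000000000000a3dc1d4097ef1a37) (Net.cons (nat_lit 32) (nat_lit 0x8e2d64bd000000007f82cd5b0000000040ee088900000000002f478b) (Net.cons (nat_lit 16) (nat_lit 0x70000fce40000d5b00000bb900000e0b6000023560000001f00005b2a00002470) (Net.cons (nat_lit 8) (nat_lit 0x9300bc00c500bc0067006c000300f500480084007100c300060009009700350001) (Net.cons (nat_lit 4) (nat_lit 0xc020e060d0e0b0b000d03090d0b09010e0a050b05010c01090d01070700000c0309) (Net.cons (nat_lit 2) (nat_lit 0x132101300313033101130112113133111222230131031312112111113132022103230) (Net.cons (nat_lit 1) (nat_lit 0x101405154511551045500110115045101454055445445414401410414101144505440) Net.nil)))))))))))))))))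

theorem g53_ok : Net.ok 275 g53 = true := by decide +kernel

noncomputable def g54 : Net := (Net.cons (nat_lit 1) (nat_lit 0x150405054154415514455400150010455054050011510140504545414141500101100) (Net.cons (nat_lit 2) (nat_lit 0x23132223020120122010311311220033232132303022203101032303020021300222) (Net.cons (nat_lit 4) (nat_lit 0xc0a0d090c0b050a0d04090a0d0806030c050b020b0904070f040407050003010805) (Net.cons (nat_lit 8) (nat_lit 0xa0009e003f00b70072004c00d8000200f3009700e400b9005e0089000000000004) (Net.cons (nat_lit 16) (nat_lit 0xb3ec0000fd680000b85b000073b80000080900002193000001280000da70) (Net.cons (nat_lit 32) (nat_lit 0xd935fc5100000000d801e77c00000000e503d98a000000000000814d) (Net.cons (nat_lit 64) (nat_lit 0xc18442a800400659000000000000000000000000000610da) (Net.cons (nat_lit 128) (nat_lit 0x200376ca475eceb0c3ef98667c23c2da) (Net.cons (nat_lit 256) (nat_lit 515071) (Net.cons (nat_lit 128) (nat_lit 516533) (Net.cons (nat_lit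 64) (nat_lit 0xfbf2e2f9a10b85fd0000000000000000b358f094050a3ba3) (Net.cons (nat_lit 32) (nat_lit 0x9b61038900000000b94daddb00000000e1e556a300000000ff24cb9e) (Net.cons (nat_lit 16) (nat_lit 0xf3380000522900001efe00001c9c000002580000a6690000eb5f0000da75) (Net.cons (nat_lit 8) (nat_lit 0x2e003d00ba00bc008c00220045001000410039006000b20047009a001100c20003) (Net.cons (nat_lit 4) (nat_lit 0x90f040002080c0109000e0e07060e0203000500080c030f0c0a020e040f0b0f0007) (Net.cons (nat_lit 2) (nat_lit 0x102222231200323102212103102201013130002101013030322001030103020223012) (Net.cons (nat_lit 1) (nat_lit 0x54105045114005151404511411111155041410104111450445451551041551414000) Net.nil)))))))))))))))))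

theorem g54_ok : Net.ok 275 g54 = true := by decide +kernel

noncomputable def g55 : Net := (Net.cons (nat_lit 1) (nat_lit 0x55044140455515045410154545555441404014451045445005145554510514541440) (Net.cons (nat_lit 2) (nat_lit 0x31131322302020012331200310203000320220021012102322330231322002110220) (Net.cons (nat_lit 4) (nat_lit 0xd0a0d0a07010f01080b0a03050f0d0c09070e0807000b0f0b050a040c0806020802) (Net.cons (nat_lit 8) (nat_lit 0xd4004800a2000600e2007c00a10055002000a0007c00aa005a00f4001000010000) (Net.cons (nat_lit 16) (nat_lit 0x70000881c0000fc5e0000d1bb00005a8500000c69000034d10000221300003478) (Net.cons (nat_lit 32) (nat_lit 0xcf2fbf7f000000001506486d00000000af6710a7000000000001c121) (Net.cons (nat_lit 64) (nat_lit 0x509224b0062c424100000000000000000000000000009014) (Net.cons (nat_lit 128) (nat_lit 0x128998f08d764d6b4e366404d30c9323) (Net.cons (nat_lit 256) (nat_lit 524287) (Net.cons (nat_lit 128) (nat_lit 330627) (Net.cons (nat_lit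 64) (nat_lit 0x5b2123e781a4a24900000000000000006175714000854885) (Net.cons (nat_lit 32) (nat_lit 0xc4bf67d700000000da8e4e2d00000000c0d2364f00000000ef884051) (Net.cons (nat_lit 16) (nat_lit 0x700000c560000b66e00003930000051390000a1db00005cf60000c7a400005cf8) (Net.cons (nat_lit 8) (nat_lit 0x2500e000aa007500ae008400ea005f00a9000c007c007200de006e00980025008a) (Net.cons (nat_lit 4) (nat_lit 0xc0e0d0707010b0d0a0b0604090c0d010d03080d070006040305080b090d0a070c02) (Net.cons (nat_lit 2) (nat_lit 0x10030333322023130333320210233203321223231002111220230233333312102320) (Net.cons (nat_lit 1) (nat_lit 0x55044140405515101400155555555441404014051445455001154514514514551440) Net.nil)))))))))))))))))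

theorem g55_ok : Net.ok 275 g55 = true := by decide +kernel

noncomputable def nm_K : List Net := [g50, g51, g52, g53, g54, g55, McLM.g16]

theorem nm_K_ok : okE 275 nm_K = true := (okE_cons.2 ⟨g50_ok, (okE_cons.2 ⟨g51_ok, (okE_cons.2 ⟨g52_ok, (okE_cons.2 ⟨g53_ok, (okE_cons.2 ⟨g54_ok, (okE_cons.2 ⟨g55_ok, (okE_cons.2 ⟨McLM.g16_ok, (okE_nil 275)⟩)⟩)⟩)⟩)⟩)⟩)⟩)

noncomputable def g56 : Net := (Net.cons (nat_lit 1) (nat_lit 0x110011115454040045555451010511515411005001551051451111111445440010000) (Net.cons (nat_lit 2) (nat_lit 0x113301113032320131012333010220233303231230220303111210300113122001020) (Net.cons (nat_lit 4) (nat_lit 0xc0f08020a0d020b07090e010202030b070603060a02080d050107080e0c0a080006) (Net.cons (nat_lit 8) (nat_lit 0xcc007e00720055009c00c8006e00ca004900fd000300a50022006000f000180004) (Net.cons (nat_lit 16) (nat_lit 0x2000008a70000e63b00000622000098880000c91d0000cfa90000815c00002b00) (Net.cons (nat_lit 32) (nat_lit 0xc4844359000000007ab532f60000000062418e51000000000004c314)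 (Net.cons (nat_lit 64) (nat_lit 0x11c16400c710c2160000000000000000000000000004ca20) (Net.cons (nat_lit 128) (nat_lit 0xce8618d706d2f698fd6f7c40d1053cd1) (Net.cons (nat_lit 256) (nat_lit 393215) (Net.cons (nat_lit 128) (nat_lit 136687) (Net.cons (nat_lit 64) (nat_lit 0xff00c52919ad441000000000000000009b4dd34eac78f226) (Net.cons (nat_lit 32) (nat_lit 0x9462d7fd000000005835f8f50000000042e59b920000000010414118) (Net.cons (nat_lit 16) (nat_lit 0x70000ea800000804c00002c0f00003a890000dc1700007ccf0000f5900000828c) (Net.cons (nat_lit 8) (nat_lit 0xe100d80072004a00fd00d2004700d7003a009200730006004d007400ef0075000a) (Net.cons (nat_lit 4) (nat_lit 0x90e0c060f0c000f050f09060206020e030407030e0309090806060c0b0908080206) (Net.cons (nat_lit 2) (nat_lit 0x2201022122230121113222100220223203321321231302233302211102113102120) (Net.cons (nat_lit 1) (nat_lit 0x10011115454041045555451010115515011005401551051451111111445440010140) Net.nil)))))))))))))))))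

theorem g56_ok : Net.ok 275 g56 = true := by decide +kernel

noncomputable def nm_E : List Net := [g56, McLM.g1, McLM.g2, McLM.g3, McLM.g4, McLM.g7, McLM.g8, McLM.g11, McLM.g12, McLM.g13, McLM.g16, McLM.g16]

theorem nm_E_ok : okE 275 nm_E = true := (okE_cons.2 ⟨g56_ok, (okE_cons.2 ⟨McLM.g1_ok, (okE_cons.2 ⟨McLM.g2_ok, (okE_cons.2 ⟨McLM.g3_ok, (okE_cons.2 ⟨McLM.g4_ok, (okE_cons.2 ⟨McLM.g7_ok, (okE_cons.2 ⟨McLM.g8_ok, (okE_cons.2 ⟨McLM.g11_ok, (okE_cons.2 ⟨McLM.g12_ok, (okE_cons.2 ⟨McLM.g13_ok, (okE_cons.2 ⟨McLM.g16_ok, (okE_cons.2 ⟨McLM.g16_ok, (okE_nil 275)⟩)⟩)⟩)⟩)⟩)⟩)⟩)⟩)⟩)⟩)⟩)⟩)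

theorem T_s0 : Stab 275 (grp 275 McLM.E) [] McLM.lb_E 898128000 :=
  Stab.root' McLM.lb_E_ok McLM.eq_lb McLM.card_grp

theorem T_s1 : Stab 275 (grp 275 McLM.E) [nat_lit 0] V1 3265920 :=
  Stab.step (k := 9) (L := (lab 275 9)) hn T_s0 V1_ok (grp_mono (List.subset_append_right [McLM.g1, McLM.g2] _)) (c := (Ch.cons (nat_lit 1) [nat_lit 1, nat_lit 3] (Ch.cons (nat_lit 2) [nat_lit 5, nat_lit 7] (Ch.cons (nat_lit 4) [nat_lit 9, nat_lit 11, nat_lit 13] (Ch.cons (nat_lit 3) [nat_lit 15, nat_lit 17] Ch.nil))))) (by decide +kernel)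

theorem one : OneFix (grp 275 McLM.E) (⟨0, by decide⟩ : Fin 275) :=
  Stab.oneFix hn (by decide) T_s1 (grp_trans McLM.E_ok (by decide) (by decide +kernel)) (ss := [nat_lit 0, nat_lit 1, nat_lit 8]) (by decide +kernel)

theorem fix_P3_le : grp 275 fix_P3 ≤ grp 275 V1 :=
  grp_le_of_memB hn hk V1_ok fix_P3_ok (ws := [nat_lit 0x90c0710010404, nat_lit 0x10070b01070c, nat_lit 0xf0b091006070d010d]) (by decide +kernel)

theorem le6 : grp 275 V5 ≤ grp 275 fix_P3 :=
  grp_le_of_memB hn hk fix_P3_ok V5_ok (ws := [nat_lit 1]) (by decide +kernel)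

theorem le11 : grp 275 V10 ≤ grp 275 fix_P3 :=
  grp_le_of_memB hn hk fix_P3_ok V10_ok (ws := [nat_lit 0x30103030302, nat_lit 0x503010302040205, nat_lit 0x60104040202, nat_lit 0x60103060302040604]) (by decide +kernel)

theorem le15 : grp 275 V14 ≤ grp 275 V10 :=
  grp_le_of_memB hn hk V10_ok V14_ok (ws := [nat_lit 131846, nat_lit 262, nat_lit 3]) (by decide +kernel)

theorem le19 : grp 275 V18 ≤ grp 275 V10 :=
  grp_le_of_memB hn hk V10_ok V18_ok (ws := [nat_lit 0x5050206020406030804, nat_lit 0x1030302050703]) (by decide +kernel)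

theorem le22 : grp 275 V21 ≤ grp 275 V18 :=
  grp_le_of_memB hn hk V18_ok V21_ok (ws := [nat_lit 2]) (by decide +kernel)

theorem le26 : grp 275 V25 ≤ grp 275 V18 :=
  grp_le_of_memB hn hk V18_ok V25_ok (ws := [nat_lit 0x1010302020202, nat_lit 0x2040104040402]) (by decide +kernel)

theorem le28 : grp 275 V27 ≤ grp 275 V25 :=
  grp_le_of_memB hn hk V25_ok V27_ok (ws := [nat_lit 2]) (by decide +kernel)

theorem fix_P3_o_card4 : Nat.card (grp 275 fix_P3_o_E4) = 1 :=
  card_grp_nil 275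

theorem fix_P3_o_leO4 : grp 275 fix_P3_o_E4 ≤ grp 275 fix_P3 :=
  grp_nil_le _

theorem fix_P3_o_3_fix : grp 275 fix_P3_o_E4 ≤ MulAction.stabilizer (Equiv.Perm (Fin 275)) (⟨2, by decide⟩ : Fin 275) :=
  grp_le_stab fix_P3_o_E4_ok (by decide : 2 < 275) (by decide +kernel)

noncomputable def fix_P3_o_3_ts : List ℕ := [nat_lit 0, nat_lit 1, nat_lit 2]

noncomputable def fix_P3_o_3_ds : List ℕ := [nat_lit 2, nat_lit 56, nat_lit 6]

theorem fix_P3_o_3_dist : Dist 275 fix_P3_o_E4 fix_P3_o_G3 (⟨2, by decide⟩ : Fin 275) fix_P3_o_3_ts fix_P3_o_3_ds :=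
  dist_of_distB (k := 2) hn fix_P3_o_E4_ok fix_P3_o_G3_ok (by decide : 2 < 275) (by decide +kernel)

noncomputable def fix_P3_o_3_sl0 : SL := (SL.cons (nat_lit 1) (nat_lit 56) Ch.nil [] (SL.cons (nat_lit 2) (nat_lit 6) Ch.nil [] SL.nil))

theorem fix_P3_o_3_sc0 : SCs 275 fix_P3_o_E4 fix_P3_o_G3 (⟨2, by decide⟩ : Fin 275) (SL.words fix_P3_o_3_sl0) :=
  scs_of_ok hn (det_lab hk ⊤) fix_P3_o_E4_ok fix_P3_o_G3_ok le_top le_top (by decide : 2 < 275) fix_P3_o_3_fix fix_P3_o_card4.le (by decide +kernel)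

noncomputable def fix_P3_o_3_l : List ℕ := (appL (SL.words fix_P3_o_3_sl0) [])

theorem fix_P3_o_3_scs : SCs 275 fix_P3_o_E4 fix_P3_o_G3 (⟨2, by decide⟩ : Fin 275) fix_P3_o_3_l :=
  (SCs.append fix_P3_o_3_sc0 SCs.nil)

noncomputable def fix_P3_o_3_rl0_0 : RL := (RL.cons (nat_lit 0) (nat_lit 2) (nat_lit 0) (nat_lit 0) (nat_lit 2) (nat_lit 0) (RL.cons (nat_lit 1) (nat_lit 56) (nat_lit 0) (nat_lit 0) (nat_lit 0) (nat_lit 0) (RL.cons (nat_lit 2) (nat_lit 6) (nat_lit 0) (nat_lit 0) (nat_lit 1) (nat_lit 0) RL.nil)))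

theorem fix_P3_o_3_good0_0 : GoodSet 275 fix_P3_o_E4 fix_P3_o_G3 (⟨2, by decide⟩ : Fin 275) fix_P3_o_3_ts (nat_lit 1) (RL.pts fix_P3_o_3_rl0_0) :=
  goodSet_of_ok hn (det_lab hk ⊤) fix_P3_o_E4_ok fix_P3_o_G3_ok le_top le_top (by decide : 2 < 275) (sepAt_lab hk _) (by decide +kernel)

theorem fix_P3_o_3_step0 : Step 275 fix_P3_o_E4 fix_P3_o_G3 fix_P3_o_3_ts (2 * 0 + 1) :=
  step_of_cover fix_P3_o_E4_ok fix_P3_o_3_dist (by decide +kernel) fix_P3_o_3_scs (by decide +kernel) fix_P3_o_3_good0_0 (kw := [])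
    (conj_mem_of_scs fix_P3_o_E4_ok fix_P3_o_G3_ok (by decide : 2 < 275) fix_P3_o_3_scs (c := 0) (d := 56) (by decide +kernel)) (by decide +kernel)

theorem fix_P3_o_3_lev : grp 275 fix_P3_o_G3 ⊓ MulAction.stabilizer (Equiv.Perm (Fin 275)) (⟨2, by decide⟩ : Fin 275) = grp 275 fix_P3_o_E4 :=
  sims_level (gs := V27) rfl (by decide) fix_P3_o_3_fix fix_P3_o_3_dist (forall_lt_one fix_P3_o_3_step0)

theorem fix_P3_o_3_cardG : Nat.card (grp 275 fix_P3_o_G3) = 3 :=
  card_of_level hn fix_P3_o_G3_ok (by decide : 2 < 275) fix_P3_o_3_lev fix_P3_o_card4 (m := 3) (by decide +kernel)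

theorem le29 : grp 275 fix_P3_o_E3 ≤ grp 275 fix_P3_o_G3 :=
  grp_le_of_memB hn hk fix_P3_o_G3_ok fix_P3_o_E3_ok (ws := [nat_lit 1, nat_lit 2]) (by decide +kernel)

theorem le30 : grp 275 fix_P3_o_G3 ≤ grp 275 fix_P3_o_E3 :=
  grp_le_of_memB hn hk fix_P3_o_E3_ok fix_P3_o_G3_ok (ws := [nat_lit 1]) (by decide +kernel)

theorem fix_P3_o_3_eq : grp 275 fix_P3_o_E3 = grp 275 fix_P3_o_G3 :=
  le_antisymm le29 le30

theorem fix_P3_o_card3 : Nat.card (grp 275 fix_P3_o_E3) = 3 :=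
  by rw [fix_P3_o_3_eq]; exact fix_P3_o_3_cardG

theorem fix_P3_o_stab3 : grp 275 fix_P3_o_E3 ⊓ MulAction.stabilizer (Equiv.Perm (Fin 275)) (⟨2, by decide⟩ : Fin 275) = grp 275 fix_P3_o_E4 :=
  by rw [fix_P3_o_3_eq]; exact fix_P3_o_3_lev

theorem fix_P3_o_leO3 : grp 275 fix_P3_o_E3 ≤ grp 275 fix_P3 :=
  fix_P3_o_3_eq.le.trans (grp_cons_le ((le26.trans (le19.trans (le11.trans (le_refl (grp 275 fix_P3))))) (le28 (toPerm_mem_grp (E := V27) (by simp [V27])))) fix_P3_o_leO4)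

theorem fix_P3_o_2_fix : grp 275 fix_P3_o_E3 ≤ MulAction.stabilizer (Equiv.Perm (Fin 275)) (⟨114, by decide⟩ : Fin 275) :=
  grp_le_stab fix_P3_o_E3_ok (by decide : 114 < 275) (by decide +kernel)

noncomputable def fix_P3_o_2_ts : List ℕ := [nat_lit 0, nat_lit 1, nat_lit 2]

noncomputable def fix_P3_o_2_ds : List ℕ := [nat_lit 114, nat_lit 270, nat_lit 207]

theorem fix_P3_o_2_dist : Dist 275 fix_P3_o_E3 fix_P3_o_G2 (⟨114, by decide⟩ : Fin 275) fix_P3_o_2_ts fix_P3_o_2_ds :=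
  dist_of_distB (k := 2) hn fix_P3_o_E3_ok fix_P3_o_G2_ok (by decide : 114 < 275) (by decide +kernel)

noncomputable def fix_P3_o_2_sl0 : SL := (SL.cons (nat_lit 1) (nat_lit 270) (Ch.cons (nat_lit 2) [nat_lit 2] Ch.nil) [nat_lit 2] (SL.cons (nat_lit 2) (nat_lit 207) (Ch.cons (nat_lit 2) [nat_lit 2] Ch.nil) [nat_lit 2] SL.nil))

theorem fix_P3_o_2_sc0 : SCs 275 fix_P3_o_E3 fix_P3_o_G2 (⟨114, by decide⟩ : Fin 275) (SL.words fix_P3_o_2_sl0) :=
  scs_of_ok hn (det_lab hk ⊤) fix_P3_o_E3_ok fix_P3_o_G2_ok le_top le_top (by decide : 114 < 275) fix_P3_o_2_fix fix_P3_o_card3.le (by decide +kernel)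

noncomputable def fix_P3_o_2_l : List ℕ := (appL (SL.words fix_P3_o_2_sl0) [])

theorem fix_P3_o_2_scs : SCs 275 fix_P3_o_E3 fix_P3_o_G2 (⟨114, by decide⟩ : Fin 275) fix_P3_o_2_l :=
  (SCs.append fix_P3_o_2_sc0 SCs.nil)

noncomputable def fix_P3_o_2_rl0_0 : RL := (RL.cons (nat_lit 0) (nat_lit 114) (nat_lit 0) (nat_lit 0) (nat_lit 2) (nat_lit 0) (RL.cons (nat_lit 1) (nat_lit 270) (nat_lit 0) (nat_lit 0) (nat_lit 0) (nat_lit 0) (RL.cons (nat_lit 2) (nat_lit 207) (nat_lit 0) (nat_lit 0) (nat_lit 1) (nat_lit 0) RL.nil)))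

theorem fix_P3_o_2_good0_0 : GoodSet 275 fix_P3_o_E3 fix_P3_o_G2 (⟨114, by decide⟩ : Fin 275) fix_P3_o_2_ts (nat_lit 1) (RL.pts fix_P3_o_2_rl0_0) :=
  goodSet_of_ok hn (det_lab hk ⊤) fix_P3_o_E3_ok fix_P3_o_G2_ok le_top le_top (by decide : 114 < 275) (sepAt_lab hk _) (by decide +kernel)

theorem fix_P3_o_2_step0 : Step 275 fix_P3_o_E3 fix_P3_o_G2 fix_P3_o_2_ts (2 * 0 + 1) :=
  step_of_cover fix_P3_o_E3_ok fix_P3_o_2_dist (by decide +kernel) fix_P3_o_2_scs (by decide +kernel) fix_P3_o_2_good0_0 (kw := [nat_lit 2])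
    (conj_mem_of_scs fix_P3_o_E3_ok fix_P3_o_G2_ok (by decide : 114 < 275) fix_P3_o_2_scs (c := 0) (d := 270) (by decide +kernel)) (by decide +kernel)

theorem fix_P3_o_2_lev : grp 275 fix_P3_o_G2 ⊓ MulAction.stabilizer (Equiv.Perm (Fin 275)) (⟨114, by decide⟩ : Fin 275) = grp 275 fix_P3_o_E3 :=
  sims_level (gs := V21) rfl (by decide) fix_P3_o_2_fix fix_P3_o_2_dist (forall_lt_one fix_P3_o_2_step0)

theorem fix_P3_o_2_cardG : Nat.card (grp 275 fix_P3_o_G2) = 9 :=
  card_of_level hn fix_P3_o_G2_ok (by decide : 114 < 275) fix_P3_o_2_lev fix_P3_o_card3 (m := 3) (by decide +kernel)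

theorem le31 : grp 275 fix_P3_o_E2 ≤ grp 275 fix_P3_o_G2 :=
  grp_le_of_memB hn hk fix_P3_o_G2_ok fix_P3_o_E2_ok (ws := [nat_lit 1, nat_lit 2, nat_lit 1025, nat_lit 3, nat_lit 5]) (by decide +kernel)

theorem le32 : grp 275 fix_P3_o_G2 ≤ grp 275 fix_P3_o_E2 :=
  grp_le_of_memB hn hk fix_P3_o_E2_ok fix_P3_o_G2_ok (ws := [nat_lit 1, nat_lit 7, nat_lit 9]) (by decide +kernel)

theorem fix_P3_o_2_eq : grp 275 fix_P3_o_E2 = grp 275 fix_P3_o_G2 :=
  le_antisymm le31 le32

theorem fix_P3_o_card2 : Nat.card (grp 275 fix_P3_o_E2) = 9 :=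
  by rw [fix_P3_o_2_eq]; exact fix_P3_o_2_cardG

theorem fix_P3_o_stab2 : grp 275 fix_P3_o_E2 ⊓ MulAction.stabilizer (Equiv.Perm (Fin 275)) (⟨114, by decide⟩ : Fin 275) = grp 275 fix_P3_o_E3 :=
  by rw [fix_P3_o_2_eq]; exact fix_P3_o_2_lev

theorem fix_P3_o_leO2 : grp 275 fix_P3_o_E2 ≤ grp 275 fix_P3 :=
  fix_P3_o_2_eq.le.trans (grp_cons_le ((le19.trans (le11.trans (le_refl (grp 275 fix_P3)))) (le22 (toPerm_mem_grp (E := V21) (by simp [V21])))) fix_P3_o_leO3)

theorem fix_P3_o_1_fix : grp 275 fix_P3_o_E2 ≤ MulAction.stabilizer (Equiv.Perm (Fin 275)) (⟨1, by decide⟩ : Fin 275) :=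
  grp_le_stab fix_P3_o_E2_ok (by decide : 1 < 275) (by decide +kernel)

noncomputable def fix_P3_o_1_ts : List ℕ := [nat_lit 0, nat_lit 1, nat_lit 2, nat_lit 3, nat_lit 4, nat_lit 5, nat_lit 6, nat_lit 773, nat_lit 774, nat_lit 1029, nat_lit 1030]

noncomputable def fix_P3_o_1_ds : List ℕ := [nat_lit 1, nat_lit 187, nat_lit 252, nat_lit 114, nat_lit 274, nat_lit 219, nat_lit 34, nat_lit 11, nat_lit 140, nat_lit 77, nat_lit 264]

theorem fix_P3_o_1_dist : Dist 275 fix_P3_o_E2 fix_P3_o_G1 (⟨1, by decide⟩ : Fin 275) fix_P3_o_1_ts fix_P3_o_1_ds :=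
  dist_of_distB (k := 4) hn fix_P3_o_E2_ok fix_P3_o_G1_ok (by decide : 1 < 275) (by decide +kernel)

noncomputable def fix_P3_o_1_sl0 : SL := (SL.cons (nat_lit 1) (nat_lit 187) (Ch.cons (nat_lit 2) [nat_lit 2050, nat_lit 7] Ch.nil) [nat_lit 2050, nat_lit 7] (SL.cons (nat_lit 2) (nat_lit 252) (Ch.cons (nat_lit 2) [nat_lit 7, nat_lit 1] Ch.nil) [nat_lit 7, nat_lit 1] (SL.cons (nat_lit 3) (nat_lit 114) (Ch.cons (nat_lit 2) [nat_lit 7, nat_lit 9] Ch.nil) [nat_lit 7, nat_lit 8] (SL.cons (nat_lit 4) (nat_lit 274) (Ch.cons (nat_lit 2) [nat_lit 8] Ch.nil) [nat_lit 8] (SL.cons (nat_lit 5) (nat_lit 219) (Ch.cons (nat_lit 2) [nat_lit 2050] Ch.nil) [nat_lit 2050] (SL.cons (nat_lit 6) (nat_lit 34) (Ch.cons (nat_lit 2) [nat_lit 2050] Ch.nil) [nat_lit 2050] (SL.cons (nat_lit 773) (nat_lit 11) (Ch.cons (nat_lit 2) [nat_lit 1] Ch.nil) [nat_lit 1] (SL.cons (nat_lit 774) (nat_lit 140) (Ch.cons (nat_lit 2) [nat_lit 2049] Ch.nil) [nat_lit 2049] (SL.cons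 (nat_lit 1029) (nat_lit 77) (Ch.cons (nat_lit 2) [nat_lit 2049] Ch.nil) [nat_lit 2049] (SL.cons (nat_lit 1030) (nat_lit 264) (Ch.cons (nat_lit 2) [nat_lit 1] Ch.nil) [nat_lit 1] SL.nil))))))))))

theorem fix_P3_o_1_sc0 : SCs 275 fix_P3_o_E2 fix_P3_o_G1 (⟨1, by decide⟩ : Fin 275) (SL.words fix_P3_o_1_sl0) :=
  scs_of_ok hn (det_lab hk ⊤) fix_P3_o_E2_ok fix_P3_o_G1_ok le_top le_top (by decide : 1 < 275) fix_P3_o_1_fix fix_P3_o_card2.le (by decide +kernel)

noncomputable def fix_P3_o_1_l : List ℕ := (appL (SL.words fix_P3_o_1_sl0) [])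

theorem fix_P3_o_1_scs : SCs 275 fix_P3_o_E2 fix_P3_o_G1 (⟨1, by decide⟩ : Fin 275) fix_P3_o_1_l :=
  (SCs.append fix_P3_o_1_sc0 SCs.nil)

noncomputable def fix_P3_o_1_rl0_0 : RL := (RL.cons (nat_lit 0) (nat_lit 1) (nat_lit 0) (nat_lit 0) (nat_lit 2) (nat_lit 0) (RL.cons (nat_lit 1) (nat_lit 187) (nat_lit 0) (nat_lit 0) (nat_lit 0) (nat_lit 0) (RL.cons (nat_lit 2) (nat_lit 252) (nat_lit 0) (nat_lit 0) (nat_lit 1) (nat_lit 0) (RL.cons (nat_lit 3) (nat_lit 114) (nat_lit 0) (nat_lit 2) (nat_lit 3) (nat_lit 2049) (RL.cons (nat_lit 4) (nat_lit 274) (nat_lit 0) (nat_lit 1) (nat_lit 4) (nat_lit 2050) (RL.cons (nat_lit 5) (nat_lit 219) (nat_lit 0) (nat_lit 2) (nat_lit 5) (nat_lit 2049) (RL.cons (nat_lit 6) (nat_lit 34) (nat_lit 0) (nat_lit 0) (nat_lit 6) (nat_lit 8) (RL.cons (nat_lit 7) (nat_lit 11) (nat_lit 0) (nat_lit 6) (nat_lit 7) (nat_lit 1793) (RL.cons (nat_lit 8) (nat_lit 140) (nat_lit 0) (nat_lit 0) (nat_lit 8) (nat_lit 8) (RL.cons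 (nat_lit 9) (nat_lit 77) (nat_lit 0) (nat_lit 1) (nat_lit 9) (nat_lit 2050) (RL.cons (nat_lit 10) (nat_lit 264) (nat_lit 0) (nat_lit 0) (nat_lit 10) (nat_lit 8) RL.nil)))))))))))

theorem fix_P3_o_1_good0_0 : GoodSet 275 fix_P3_o_E2 fix_P3_o_G1 (⟨1, by decide⟩ : Fin 275) fix_P3_o_1_ts (nat_lit 1) (RL.pts fix_P3_o_1_rl0_0) :=
  goodSet_of_ok hn (det_lab hk ⊤) fix_P3_o_E2_ok fix_P3_o_G1_ok le_top le_top (by decide : 1 < 275) (sepAt_lab hk _) (by decide +kernel)

theorem fix_P3_o_1_step0 : Step 275 fix_P3_o_E2 fix_P3_o_G1 fix_P3_o_1_ts (2 * 0 + 1) :=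
  step_of_cover fix_P3_o_E2_ok fix_P3_o_1_dist (by decide +kernel) fix_P3_o_1_scs (by decide +kernel) fix_P3_o_1_good0_0 (kw := [nat_lit 2050, nat_lit 7])
    (conj_mem_of_scs fix_P3_o_E2_ok fix_P3_o_G1_ok (by decide : 1 < 275) fix_P3_o_1_scs (c := 0) (d := 187) (by decide +kernel)) (by decide +kernel)

noncomputable def fix_P3_o_1_rl1_0 : RL := (RL.cons (nat_lit 0) (nat_lit 1) (nat_lit 0) (nat_lit 0) (nat_lit 4) (nat_lit 0) (RL.cons (nat_lit 1) (nat_lit 187) (nat_lit 0) (nat_lit 2) (nat_lit 4) (nat_lit 1793) (RL.cons (nat_lit 2) (nat_lit 252) (nat_lit 0) (nat_lit 1) (nat_lit 4) (nat_lit 2050) (RL.cons (nat_lit 3) (nat_lit 114) (nat_lit 0) (nat_lit 0) (nat_lit 0) (nat_lit 0) (RL.cons (nat_lit 3) (nat_lit 270) (nat_lit 1) (nat_lit 0) (nat_lit 1) (nat_lit 2049) (RL.cons (nat_lit 3) (nat_lit 207) (nat_lit 2) (nat_lit 0) (nat_lit 2) (nat_lit 1794) (RL.cons (nat_lit 4) (nat_lit 274) (nat_lit 0) (nat_lit 0) (nat_lit 3) (nat_lit 0) (RL.cons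 (nat_lit 4) (nat_lit 17) (nat_lit 1) (nat_lit 2) (nat_lit 3) (nat_lit 2) (RL.cons (nat_lit 4) (nat_lit 181) (nat_lit 2) (nat_lit 1) (nat_lit 3) (nat_lit 1) (RL.cons (nat_lit 5) (nat_lit 219) (nat_lit 0) (nat_lit 0) (nat_lit 9) (nat_lit 0) (RL.cons (nat_lit 6) (nat_lit 34) (nat_lit 0) (nat_lit 0) (nat_lit 10) (nat_lit 0) (RL.cons (nat_lit 7) (nat_lit 11) (nat_lit 0) (nat_lit 0) (nat_lit 5) (nat_lit 0) (RL.cons (nat_lit 8) (nat_lit 140) (nat_lit 0) (nat_lit 0) (nat_lit 6) (nat_lit 0) (RL.cons (nat_lit 9) (nat_lit 77) (nat_lit 0) (nat_lit 0) (nat_lit 7) (nat_lit 0) (RL.cons (nat_lit 10) (nat_lit 264) (nat_lit 0) (nat_lit 0) (nat_lit 8) (nat_lit 0) RL.nil)))))))))))))))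

theorem fix_P3_o_1_good1_0 : GoodSet 275 fix_P3_o_E2 fix_P3_o_G1 (⟨1, by decide⟩ : Fin 275) fix_P3_o_1_ts (nat_lit 3) (RL.pts fix_P3_o_1_rl1_0) :=
  goodSet_of_ok hn (det_lab hk ⊤) fix_P3_o_E2_ok fix_P3_o_G1_ok le_top le_top (by decide : 1 < 275) (sepAt_lab hk _) (by decide +kernel)

theorem fix_P3_o_1_step1 : Step 275 fix_P3_o_E2 fix_P3_o_G1 fix_P3_o_1_ts (2 * 1 + 1) :=
  step_of_cover fix_P3_o_E2_ok fix_P3_o_1_dist (by decide +kernel) fix_P3_o_1_scs (by decide +kernel) fix_P3_o_1_good1_0 (kw := [nat_lit 7, nat_lit 9])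
    (conj_mem_of_scs fix_P3_o_E2_ok fix_P3_o_G1_ok (by decide : 1 < 275) fix_P3_o_1_scs (c := 2) (d := 114) (by decide +kernel)) (by decide +kernel)

noncomputable def fix_P3_o_1_rl2_0 : RL := (RL.cons (nat_lit 0) (nat_lit 1) (nat_lit 0) (nat_lit 0) (nat_lit 6) (nat_lit 0) (RL.cons (nat_lit 1) (nat_lit 187) (nat_lit 0) (nat_lit 1) (nat_lit 6) (nat_lit 1794) (RL.cons (nat_lit 2) (nat_lit 252) (nat_lit 0) (nat_lit 2) (nat_lit 6) (nat_lit 2049) (RL.cons (nat_lit 3) (nat_lit 114) (nat_lit 0) (nat_lit 0) (nat_lit 8) (nat_lit 0) (RL.cons (nat_lit 4) (nat_lit 274) (nat_lit 0) (nat_lit 0) (nat_lit 10) (nat_lit 0) (RL.cons (nat_lit 5) (nat_lit 219) (nat_lit 0) (nat_lit 0) (nat_lit 0) (nat_lit 0) (RL.cons (nat_lit 5) (nat_lit 133) (nat_lit 1) (nat_lit 0) (nat_lit 2) (nat_lit 1793) (RL.cons (nat_lit 5) (nat_lit 5) (nat_lit 2) (nat_lit 0) (nat_lit 1) (nat_lit 2050) (RL.cons (nat_lit 6) (nat_lit 34) (nat_lit 0) (nat_lit 0) (nat_lit 5) (nat_lit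 0) (RL.cons (nat_lit 6) (nat_lit 196) (nat_lit 1) (nat_lit 2) (nat_lit 5) (nat_lit 2) (RL.cons (nat_lit 6) (nat_lit 192) (nat_lit 2) (nat_lit 1) (nat_lit 5) (nat_lit 1) (RL.cons (nat_lit 7) (nat_lit 11) (nat_lit 0) (nat_lit 0) (nat_lit 3) (nat_lit 0) (RL.cons (nat_lit 8) (nat_lit 140) (nat_lit 0) (nat_lit 0) (nat_lit 7) (nat_lit 0) (RL.cons (nat_lit 9) (nat_lit 77) (nat_lit 0) (nat_lit 0) (nat_lit 4) (nat_lit 0) (RL.cons (nat_lit 10) (nat_lit 264) (nat_lit 0) (nat_lit 0) (nat_lit 9) (nat_lit 0) RL.nil)))))))))))))))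

theorem fix_P3_o_1_good2_0 : GoodSet 275 fix_P3_o_E2 fix_P3_o_G1 (⟨1, by decide⟩ : Fin 275) fix_P3_o_1_ts (nat_lit 5) (RL.pts fix_P3_o_1_rl2_0) :=
  goodSet_of_ok hn (det_lab hk ⊤) fix_P3_o_E2_ok fix_P3_o_G1_ok le_top le_top (by decide : 1 < 275) (sepAt_lab hk _) (by decide +kernel)

theorem fix_P3_o_1_step2 : Step 275 fix_P3_o_E2 fix_P3_o_G1 fix_P3_o_1_ts (2 * 2 + 1) :=
  step_of_cover fix_P3_o_E2_ok fix_P3_o_1_dist (by decide +kernel) fix_P3_o_1_scs (by decide +kernel) fix_P3_o_1_good2_0 (kw := [nat_lit 2050])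
    (conj_mem_of_scs fix_P3_o_E2_ok fix_P3_o_G1_ok (by decide : 1 < 275) fix_P3_o_1_scs (c := 4) (d := 219) (by decide +kernel)) (by decide +kernel)

theorem fix_P3_o_1_lev : grp 275 fix_P3_o_G1 ⊓ MulAction.stabilizer (Equiv.Perm (Fin 275)) (⟨1, by decide⟩ : Fin 275) = grp 275 fix_P3_o_E2 :=
  sims_level (gs := V14) rfl (by decide) fix_P3_o_1_fix fix_P3_o_1_dist (forall_lt_succ' (forall_lt_succ' (forall_lt_one fix_P3_o_1_step0) fix_P3_o_1_step1) fix_P3_o_1_step2)

theorem fix_P3_o_1_cardG : Nat.card (grp 275 fix_P3_o_G1) = 243 :=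
  card_of_level hn fix_P3_o_G1_ok (by decide : 1 < 275) fix_P3_o_1_lev fix_P3_o_card2 (m := 27) (by decide +kernel)

theorem le33 : grp 275 fix_P3_o_E1 ≤ grp 275 fix_P3_o_G1 :=
  grp_le_of_memB hn hk fix_P3_o_G1_ok fix_P3_o_E1_ok (ws := [nat_lit 1, nat_lit 3, nat_lit 5, nat_lit 0xe020406, nat_lit 0xe020306, nat_lit 0xd070405, nat_lit 7, nat_lit 9, nat_lit 11, nat_lit 13, nat_lit 15]) (by decide +kernel)

theorem le34 : grp 275 fix_P3_o_G1 ≤ grp 275 fix_P3_o_E1 :=
  grp_le_of_memB hn hk fix_P3_o_E1_ok fix_P3_o_G1_ok (ws := [nat_lit 1, nat_lit 3, nat_lit 5, nat_lit 13, nat_lit 15, nat_lit 17, nat_lit 19, nat_lit 21]) (by decide +kernel)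

theorem fix_P3_o_1_eq : grp 275 fix_P3_o_E1 = grp 275 fix_P3_o_G1 :=
  le_antisymm le33 le34

theorem fix_P3_o_card1 : Nat.card (grp 275 fix_P3_o_E1) = 243 :=
  by rw [fix_P3_o_1_eq]; exact fix_P3_o_1_cardG

theorem fix_P3_o_stab1 : grp 275 fix_P3_o_E1 ⊓ MulAction.stabilizer (Equiv.Perm (Fin 275)) (⟨1, by decide⟩ : Fin 275) = grp 275 fix_P3_o_E2 :=
  by rw [fix_P3_o_1_eq]; exact fix_P3_o_1_lev

theorem fix_P3_o_leO1 : grp 275 fix_P3_o_E1 ≤ grp 275 fix_P3 :=
  fix_P3_o_1_eq.le.trans (grp_cons_le ((le11.trans (le_refl (grp 275 fix_P3))) (le15 (toPerm_mem_grp (E := V14) (by simp [V14])))) (grp_cons_le ((le11.trans (le_refl (grp 275 fix_P3))) (le15 (toPerm_mem_grp (E := V14) (by simp [V14])))) (grp_cons_le ((le11.trans (le_refl (grp 275 fix_P3))) (le15 (toPerm_mem_grp (E := V14) (by simp [V14])))) fix_P3_o_leO2)))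

theorem fix_P3_o_0_fix : grp 275 fix_P3_o_E1 ≤ MulAction.stabilizer (Equiv.Perm (Fin 275)) (⟨62, by decide⟩ : Fin 275) :=
  grp_le_stab fix_P3_o_E1_ok (by decide : 62 < 275) (by decide +kernel)

noncomputable def fix_P3_o_0_ts : List ℕ := [nat_lit 0, nat_lit 1, nat_lit 2]

noncomputable def fix_P3_o_0_ds : List ℕ := [nat_lit 62, nat_lit 108, nat_lit 154]

theorem fix_P3_o_0_dist : Dist 275 fix_P3_o_E1 fix_P3_o_G0 (⟨62, by decide⟩ : Fin 275) fix_P3_o_0_ts fix_P3_o_0_ds :=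
  dist_of_distB (k := 2) hn fix_P3_o_E1_ok fix_P3_o_G0_ok (by decide : 62 < 275) (by decide +kernel)

noncomputable def fix_P3_o_0_sl0 : SL := (SL.cons (nat_lit 1) (nat_lit 108) (Ch.cons (nat_lit 1) [nat_lit 3329, nat_lit 917765, nat_lit 4] (Ch.cons (nat_lit 2) [nat_lit 13, nat_lit 4877] Ch.nil)) [nat_lit 0x140204, nat_lit 917765, nat_lit 0x140d08, nat_lit 0x140e0a, nat_lit 260] (SL.cons (nat_lit 2) (nat_lit 154) (Ch.cons (nat_lit 1) [nat_lit 0x140d0a, nat_lit 263] (Ch.cons (nat_lit 2) [nat_lit 20, nat_lit 13] Ch.nil)) [nat_lit 852490, nat_lit 4871, nat_lit 852230, nat_lit 265] SL.nil))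

theorem fix_P3_o_0_sc0 : SCs 275 fix_P3_o_E1 fix_P3_o_G0 (⟨62, by decide⟩ : Fin 275) (SL.words fix_P3_o_0_sl0) :=
  scs_of_ok hn (det_lab hk ⊤) fix_P3_o_E1_ok fix_P3_o_G0_ok le_top le_top (by decide : 62 < 275) fix_P3_o_0_fix fix_P3_o_card1.le (by decide +kernel)

noncomputable def fix_P3_o_0_l : List ℕ := (appL (SL.words fix_P3_o_0_sl0) [])

theorem fix_P3_o_0_scs : SCs 275 fix_P3_o_E1 fix_P3_o_G0 (⟨62, by decide⟩ : Fin 275) fix_P3_o_0_l :=
  (SCs.append fix_P3_o_0_sc0 SCs.nil)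

noncomputable def fix_P3_o_0_rl0_0 : RL := (RL.cons (nat_lit 0) (nat_lit 62) (nat_lit 0) (nat_lit 0) (nat_lit 2) (nat_lit 0) (RL.cons (nat_lit 1) (nat_lit 108) (nat_lit 0) (nat_lit 0) (nat_lit 0) (nat_lit 0) (RL.cons (nat_lit 2) (nat_lit 154) (nat_lit 0) (nat_lit 0) (nat_lit 1) (nat_lit 5121) RL.nil)))

theorem fix_P3_o_0_good0_0 : GoodSet 275 fix_P3_o_E1 fix_P3_o_G0 (⟨62, by decide⟩ : Fin 275) fix_P3_o_0_ts (nat_lit 1) (RL.pts fix_P3_o_0_rl0_0) :=
  goodSet_of_ok hn (det_lab hk ⊤) fix_P3_o_E1_ok fix_P3_o_G0_ok le_top le_top (by decide : 62 < 275) (sepAt_lab hk _) (by decide +kernel)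

theorem fix_P3_o_0_step0 : Step 275 fix_P3_o_E1 fix_P3_o_G0 fix_P3_o_0_ts (2 * 0 + 1) :=
  step_of_cover fix_P3_o_E1_ok fix_P3_o_0_dist (by decide +kernel) fix_P3_o_0_scs (by decide +kernel) fix_P3_o_0_good0_0 (kw := [nat_lit 3329, nat_lit 917765, nat_lit 4, nat_lit 13, nat_lit 4877])
    (conj_mem_of_scs fix_P3_o_E1_ok fix_P3_o_G0_ok (by decide : 62 < 275) fix_P3_o_0_scs (c := 0) (d := 108) (by decide +kernel)) (by decide +kernel)

theorem fix_P3_o_0_lev : grp 275 fix_P3_o_G0 ⊓ MulAction.stabilizer (Equiv.Perm (Fin 275)) (⟨62, by decide⟩ : Fin 275) = grp 275 fix_P3_o_E1 :=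
  sims_level (gs := V5) rfl (by decide) fix_P3_o_0_fix fix_P3_o_0_dist (forall_lt_one fix_P3_o_0_step0)

theorem fix_P3_o_0_cardG : Nat.card (grp 275 fix_P3_o_G0) = 729 :=
  card_of_level hn fix_P3_o_G0_ok (by decide : 62 < 275) fix_P3_o_0_lev fix_P3_o_card1 (m := 3) (by decide +kernel)

theorem le35 : grp 275 fix_P3_o_E0 ≤ grp 275 fix_P3_o_G0 :=
  grp_le_of_memB hn hk fix_P3_o_G0_ok fix_P3_o_E0_ok (ws := [nat_lit 1, nat_lit 0x15100402, nat_lit 3, nat_lit 5, nat_lit 7, nat_lit 9, nat_lit 11, nat_lit 13, nat_lit 15, nat_lit 17, nat_lit 19, nat_lit 21, nat_lit 23]) (by decide +kernel)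

theorem le36 : grp 275 fix_P3_o_G0 ≤ grp 275 fix_P3_o_E0 :=
  grp_le_of_memB hn hk fix_P3_o_E0_ok fix_P3_o_G0_ok (ws := [nat_lit 1, nat_lit 5, nat_lit 7, nat_lit 9, nat_lit 11, nat_lit 13, nat_lit 15, nat_lit 17, nat_lit 19, nat_lit 21, nat_lit 23, nat_lit 25]) (by decide +kernel)

theorem fix_P3_o_0_eq : grp 275 fix_P3_o_E0 = grp 275 fix_P3_o_G0 :=
  le_antisymm le35 le36

theorem fix_P3_o_card0 : Nat.card (grp 275 fix_P3_o_E0) = 729 :=
  by rw [fix_P3_o_0_eq]; exact fix_P3_o_0_cardG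

theorem fix_P3_o_stab0 : grp 275 fix_P3_o_E0 ⊓ MulAction.stabilizer (Equiv.Perm (Fin 275)) (⟨62, by decide⟩ : Fin 275) = grp 275 fix_P3_o_E1 :=
  by rw [fix_P3_o_0_eq]; exact fix_P3_o_0_lev

theorem fix_P3_o_leO0 : grp 275 fix_P3_o_E0 ≤ grp 275 fix_P3 :=
  fix_P3_o_0_eq.le.trans (grp_cons_le ((le_refl (grp 275 fix_P3)) (le6 (toPerm_mem_grp (E := V5) (by simp [V5])))) fix_P3_o_leO1)

theorem le37 : grp 275 fix_P3 ≤ grp 275 fix_P3_o_E0 :=
  grp_le_of_memB hn hk fix_P3_o_E0_ok fix_P3_ok (ws := [nat_lit 1, nat_lit 11, nat_lit 3]) (by decide +kernel)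

theorem fix_P3_o_eq : grp 275 fix_P3 = grp 275 fix_P3_o_E0 :=
  le_antisymm le37 fix_P3_o_leO0

theorem fix_P3_o_card : Nat.card (grp 275 fix_P3) = 729 :=
  by rw [fix_P3_o_eq]; exact fix_P3_o_card0

noncomputable def fix_P3_o_ch : Ch := (Ch.cons (nat_lit 62) [nat_lit 1, nat_lit 3] (Ch.cons (nat_lit 1) [nat_lit 5, nat_lit 7, nat_lit 9, nat_lit 11, nat_lit 13, nat_lit 15] (Ch.cons (nat_lit 114) [nat_lit 17, nat_lit 19, nat_lit 21] (Ch.cons (nat_lit 2) [nat_lit 23, nat_lit 25] Ch.nil))))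

theorem fix_P3_o_exact : Ch.Exact 275 fix_P3_o_E0 fix_P3_o_ch (grp 275 fix_P3_o_E0) :=
  Ch.exact (k := 9) (L := (lab 275 9)) hn fix_P3_o_E0_ok (by decide +kernel) (wgrp_le_grp _ _ _) fix_P3_o_card0.le

theorem fix_P3_ai : AI (grp 275 McLM.E) (grp 275 fix_P3) :=
  (AI.top _).sylow (fix_P3_le.trans T_s1.le) (p := 3) (k := 6) (by norm_num) fix_P3_o_card (by rw [McLM.card_grp]; norm_num)

theorem fix_P3_res : ∀ c ∈ [(3, 2), (9, 5), (27, 5), (81, 32)], Res (grp 275 fix_P3) c.1 c.2 :=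
  res_of_check hn fix_P3_ok (ss := [nat_lit 0, nat_lit 1, nat_lit 2, nat_lit 8, nat_lit 13, nat_lit 21, nat_lit 62]) (by decide +kernel)

theorem fix_P7_le : grp 275 fix_P7 ≤ grp 275 V1 :=
  grp_le_of_memB hn hk V1_ok fix_P7_ok (ws := [nat_lit 0xf0a0e060f]) (by decide +kernel)

theorem le40 : grp 275 V39 ≤ grp 275 fix_P7 :=
  grp_le_of_memB hn hk fix_P7_ok V39_ok (ws := [nat_lit 1]) (by decide +kernel)

theorem fix_P7_o_card1 : Nat.card (grp 275 fix_P7_o_E1) = 1 :=
  card_grp_nil 275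

theorem fix_P7_o_leO1 : grp 275 fix_P7_o_E1 ≤ grp 275 fix_P7 :=
  grp_nil_le _

theorem fix_P7_o_0_fix : grp 275 fix_P7_o_E1 ≤ MulAction.stabilizer (Equiv.Perm (Fin 275)) (⟨2, by decide⟩ : Fin 275) :=
  grp_le_stab fix_P7_o_E1_ok (by decide : 2 < 275) (by decide +kernel)

noncomputable def fix_P7_o_0_ts : List ℕ := [nat_lit 0, nat_lit 1, nat_lit 2, nat_lit 257, nat_lit 514, nat_lit 65793, nat_lit 131586]

noncomputable def fix_P7_o_0_ds : List ℕ := [nat_lit 2, nat_lit 262, nat_lit 30, nat_lit 138, nat_lit 171, nat_lit 166, nat_lit 178]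

theorem fix_P7_o_0_dist : Dist 275 fix_P7_o_E1 fix_P7_o_G0 (⟨2, by decide⟩ : Fin 275) fix_P7_o_0_ts fix_P7_o_0_ds :=
  dist_of_distB (k := 3) hn fix_P7_o_E1_ok fix_P7_o_G0_ok (by decide : 2 < 275) (by decide +kernel)

noncomputable def fix_P7_o_0_sl0 : SL := (SL.cons (nat_lit 1) (nat_lit 262) Ch.nil [] (SL.cons (nat_lit 2) (nat_lit 30) Ch.nil [] (SL.cons (nat_lit 257) (nat_lit 138) Ch.nil [] (SL.cons (nat_lit 514) (nat_lit 171) Ch.nil [] (SL.cons (nat_lit 65793) (nat_lit 166) Ch.nil [] (SL.cons (nat_lit 131586) (nat_lit 178) Ch.nil [] SL.nil))))))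

theorem fix_P7_o_0_sc0 : SCs 275 fix_P7_o_E1 fix_P7_o_G0 (⟨2, by decide⟩ : Fin 275) (SL.words fix_P7_o_0_sl0) :=
  scs_of_ok hn (det_lab hk ⊤) fix_P7_o_E1_ok fix_P7_o_G0_ok le_top le_top (by decide : 2 < 275) fix_P7_o_0_fix fix_P7_o_card1.le (by decide +kernel)

noncomputable def fix_P7_o_0_l : List ℕ := (appL (SL.words fix_P7_o_0_sl0) [])

theorem fix_P7_o_0_scs : SCs 275 fix_P7_o_E1 fix_P7_o_G0 (⟨2, by decide⟩ : Fin 275) fix_P7_o_0_l :=
  (SCs.append fix_P7_o_0_sc0 SCs.nil)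

noncomputable def fix_P7_o_0_rl0_0 : RL := (RL.cons (nat_lit 0) (nat_lit 2) (nat_lit 0) (nat_lit 0) (nat_lit 2) (nat_lit 0) (RL.cons (nat_lit 1) (nat_lit 262) (nat_lit 0) (nat_lit 0) (nat_lit 0) (nat_lit 0) (RL.cons (nat_lit 2) (nat_lit 30) (nat_lit 0) (nat_lit 0) (nat_lit 4) (nat_lit 0) (RL.cons (nat_lit 3) (nat_lit 138) (nat_lit 0) (nat_lit 0) (nat_lit 1) (nat_lit 0) (RL.cons (nat_lit 4) (nat_lit 171) (nat_lit 0) (nat_lit 0) (nat_lit 6) (nat_lit 0) (RL.cons (nat_lit 5) (nat_lit 166) (nat_lit 0) (nat_lit 0) (nat_lit 3) (nat_lit 0) (RL.cons (nat_lit 6) (nat_lit 178) (nat_lit 0) (nat_lit 0) (nat_lit 5) (nat_lit 0) RL.nil)))))))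

theorem fix_P7_o_0_good0_0 : GoodSet 275 fix_P7_o_E1 fix_P7_o_G0 (⟨2, by decide⟩ : Fin 275) fix_P7_o_0_ts (nat_lit 1) (RL.pts fix_P7_o_0_rl0_0) :=
  goodSet_of_ok hn (det_lab hk ⊤) fix_P7_o_E1_ok fix_P7_o_G0_ok le_top le_top (by decide : 2 < 275) (sepAt_lab hk _) (by decide +kernel)

theorem fix_P7_o_0_step0 : Step 275 fix_P7_o_E1 fix_P7_o_G0 fix_P7_o_0_ts (2 * 0 + 1) :=
  step_of_cover fix_P7_o_E1_ok fix_P7_o_0_dist (by decide +kernel) fix_P7_o_0_scs (by decide +kernel) fix_P7_o_0_good0_0 (kw := [])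
    (conj_mem_of_scs fix_P7_o_E1_ok fix_P7_o_G0_ok (by decide : 2 < 275) fix_P7_o_0_scs (c := 0) (d := 262) (by decide +kernel)) (by decide +kernel)

theorem fix_P7_o_0_lev : grp 275 fix_P7_o_G0 ⊓ MulAction.stabilizer (Equiv.Perm (Fin 275)) (⟨2, by decide⟩ : Fin 275) = grp 275 fix_P7_o_E1 :=
  sims_level (gs := V39) rfl (by decide) fix_P7_o_0_fix fix_P7_o_0_dist (forall_lt_one fix_P7_o_0_step0)

theorem fix_P7_o_0_cardG : Nat.card (grp 275 fix_P7_o_G0) = 7 :=
  card_of_level hn fix_P7_o_G0_ok (by decide : 2 < 275) fix_P7_o_0_lev fix_P7_o_card1 (m := 7) (by decide +kernel)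

theorem le41 : grp 275 fix_P7_o_E0 ≤ grp 275 fix_P7_o_G0 :=
  grp_le_of_memB hn hk fix_P7_o_G0_ok fix_P7_o_E0_ok (ws := [nat_lit 1]) (by decide +kernel)

theorem le42 : grp 275 fix_P7_o_G0 ≤ grp 275 fix_P7_o_E0 :=
  grp_le_of_memB hn hk fix_P7_o_E0_ok fix_P7_o_G0_ok (ws := [nat_lit 1]) (by decide +kernel)

theorem fix_P7_o_0_eq : grp 275 fix_P7_o_E0 = grp 275 fix_P7_o_G0 :=
  le_antisymm le41 le42

theorem fix_P7_o_card0 : Nat.card (grp 275 fix_P7_o_E0) = 7 :=
  by rw [fix_P7_o_0_eq]; exact fix_P7_o_0_cardG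

theorem fix_P7_o_stab0 : grp 275 fix_P7_o_E0 ⊓ MulAction.stabilizer (Equiv.Perm (Fin 275)) (⟨2, by decide⟩ : Fin 275) = grp 275 fix_P7_o_E1 :=
  by rw [fix_P7_o_0_eq]; exact fix_P7_o_0_lev

theorem fix_P7_o_leO0 : grp 275 fix_P7_o_E0 ≤ grp 275 fix_P7 :=
  fix_P7_o_0_eq.le.trans (grp_cons_le ((le_refl (grp 275 fix_P7)) (le40 (toPerm_mem_grp (E := V39) (by simp [V39])))) fix_P7_o_leO1)

theorem le43 : grp 275 fix_P7 ≤ grp 275 fix_P7_o_E0 :=
  grp_le_of_memB hn hk fix_P7_o_E0_ok fix_P7_ok (ws := [nat_lit 1]) (by decide +kernel)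

theorem fix_P7_o_eq : grp 275 fix_P7 = grp 275 fix_P7_o_E0 :=
  le_antisymm le43 fix_P7_o_leO0

theorem fix_P7_o_card : Nat.card (grp 275 fix_P7) = 7 :=
  by rw [fix_P7_o_eq]; exact fix_P7_o_card0

noncomputable def fix_P7_o_ch : Ch := (Ch.cons (nat_lit 2) [nat_lit 1] Ch.nil)

theorem fix_P7_o_exact : Ch.Exact 275 fix_P7_o_E0 fix_P7_o_ch (grp 275 fix_P7_o_E0) :=
  Ch.exact (k := 9) (L := (lab 275 9)) hn fix_P7_o_E0_ok (by decide +kernel) (wgrp_le_grp _ _ _) fix_P7_o_card0.le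

theorem fix_P7_ai : AI (grp 275 McLM.E) (grp 275 fix_P7) :=
  (AI.top _).sylow (fix_P7_le.trans T_s1.le) (p := 7) (k := 1) (by norm_num) fix_P7_o_card (by rw [McLM.card_grp]; norm_num)

theorem fix_P7_res : ∀ c ∈ [(7, 2)], Res (grp 275 fix_P7) c.1 c.2 :=
  res_of_check hn fix_P7_ok (ss := [nat_lit 0, nat_lit 1, nat_lit 2, nat_lit 3, nat_lit 4, nat_lit 5, nat_lit 7, nat_lit 8, nat_lit 11, nat_lit 12, nat_lit 13, nat_lit 14, nat_lit 15, nat_lit 16, nat_lit 17, nat_lit 18, nat_lit 19, nat_lit 20, nat_lit 22, nat_lit 24, nat_lit 25, nat_lit 26, nat_lit 27, nat_lit 28, nat_lit 29, nat_lit 33, nat_lit 35, nat_lit 36, nat_lit 37, nat_lit 39, nat_lit 42, nat_lit 43, nat_lit 48, nat_lit 54, nat_lit 58, nat_lit 59, nat_lit 67, nat_lit 69, nat_lit 79, nat_lit 133, nat_lit 148]) (by decide +kernel)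

theorem fix_P5_le : grp 275 fix_P5 ≤ grp 275 V1 :=
  grp_le_of_memB hn hk V1_ok fix_P5_ok (ws := [nat_lit 0x10090b09050905]) (by decide +kernel)

theorem le46 : grp 275 V45 ≤ grp 275 fix_P5 :=
  grp_le_of_memB hn hk fix_P5_ok V45_ok (ws := [nat_lit 1]) (by decide +kernel)

theorem fix_P5_o_card1 : Nat.card (grp 275 fix_P5_o_E1) = 1 :=
  card_grp_nil 275

theorem fix_P5_o_leO1 : grp 275 fix_P5_o_E1 ≤ grp 275 fix_P5 :=
  grp_nil_le _

theorem fix_P5_o_0_fix : grp 275 fix_P5_o_E1 ≤ MulAction.stabilizer (Equiv.Perm (Fin 275)) (⟨2, by decide⟩ : Fin 275) :=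
  grp_le_stab fix_P5_o_E1_ok (by decide : 2 < 275) (by decide +kernel)

noncomputable def fix_P5_o_0_ts : List ℕ := [nat_lit 0, nat_lit 1, nat_lit 2, nat_lit 257, nat_lit 514]

noncomputable def fix_P5_o_0_ds : List ℕ := [nat_lit 2, nat_lit 137, nat_lit 198, nat_lit 268, nat_lit 103]

theorem fix_P5_o_0_dist : Dist 275 fix_P5_o_E1 fix_P5_o_G0 (⟨2, by decide⟩ : Fin 275) fix_P5_o_0_ts fix_P5_o_0_ds :=
  dist_of_distB (k := 3) hn fix_P5_o_E1_ok fix_P5_o_G0_ok (by decide : 2 < 275) (by decide +kernel)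

noncomputable def fix_P5_o_0_sl0 : SL := (SL.cons (nat_lit 1) (nat_lit 137) Ch.nil [] (SL.cons (nat_lit 2) (nat_lit 198) Ch.nil [] (SL.cons (nat_lit 257) (nat_lit 268) Ch.nil [] (SL.cons (nat_lit 514) (nat_lit 103) Ch.nil [] SL.nil))))

theorem fix_P5_o_0_sc0 : SCs 275 fix_P5_o_E1 fix_P5_o_G0 (⟨2, by decide⟩ : Fin 275) (SL.words fix_P5_o_0_sl0) :=
  scs_of_ok hn (det_lab hk ⊤) fix_P5_o_E1_ok fix_P5_o_G0_ok le_top le_top (by decide : 2 < 275) fix_P5_o_0_fix fix_P5_o_card1.le (by decide +kernel)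

noncomputable def fix_P5_o_0_l : List ℕ := (appL (SL.words fix_P5_o_0_sl0) [])

theorem fix_P5_o_0_scs : SCs 275 fix_P5_o_E1 fix_P5_o_G0 (⟨2, by decide⟩ : Fin 275) fix_P5_o_0_l :=
  (SCs.append fix_P5_o_0_sc0 SCs.nil)

noncomputable def fix_P5_o_0_rl0_0 : RL := (RL.cons (nat_lit 0) (nat_lit 2) (nat_lit 0) (nat_lit 0) (nat_lit 2) (nat_lit 0) (RL.cons (nat_lit 1) (nat_lit 137) (nat_lit 0) (nat_lit 0) (nat_lit 0) (nat_lit 0) (RL.cons (nat_lit 2) (nat_lit 198) (nat_lit 0) (nat_lit 0) (nat_lit 4) (nat_lit 0) (RL.cons (nat_lit 3) (nat_lit 268) (nat_lit 0) (nat_lit 0) (nat_lit 1) (nat_lit 0) (RL.cons (nat_lit 4) (nat_lit 103) (nat_lit 0) (nat_lit 0) (nat_lit 3) (nat_lit 0) RL.nil)))))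

theorem fix_P5_o_0_good0_0 : GoodSet 275 fix_P5_o_E1 fix_P5_o_G0 (⟨2, by decide⟩ : Fin 275) fix_P5_o_0_ts (nat_lit 1) (RL.pts fix_P5_o_0_rl0_0) :=
  goodSet_of_ok hn (det_lab hk ⊤) fix_P5_o_E1_ok fix_P5_o_G0_ok le_top le_top (by decide : 2 < 275) (sepAt_lab hk _) (by decide +kernel)

theorem fix_P5_o_0_step0 : Step 275 fix_P5_o_E1 fix_P5_o_G0 fix_P5_o_0_ts (2 * 0 + 1) :=
  step_of_cover fix_P5_o_E1_ok fix_P5_o_0_dist (by decide +kernel) fix_P5_o_0_scs (by decide +kernel) fix_P5_o_0_good0_0 (kw := [])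
    (conj_mem_of_scs fix_P5_o_E1_ok fix_P5_o_G0_ok (by decide : 2 < 275) fix_P5_o_0_scs (c := 0) (d := 137) (by decide +kernel)) (by decide +kernel)

theorem fix_P5_o_0_lev : grp 275 fix_P5_o_G0 ⊓ MulAction.stabilizer (Equiv.Perm (Fin 275)) (⟨2, by decide⟩ : Fin 275) = grp 275 fix_P5_o_E1 :=
  sims_level (gs := V45) rfl (by decide) fix_P5_o_0_fix fix_P5_o_0_dist (forall_lt_one fix_P5_o_0_step0)

theorem fix_P5_o_0_cardG : Nat.card (grp 275 fix_P5_o_G0) = 5 :=
  card_of_level hn fix_P5_o_G0_ok (by decide : 2 < 275) fix_P5_o_0_lev fix_P5_o_card1 (m := 5) (by decide +kernel)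

theorem le47 : grp 275 fix_P5_o_E0 ≤ grp 275 fix_P5_o_G0 :=
  grp_le_of_memB hn hk fix_P5_o_G0_ok fix_P5_o_E0_ok (ws := [nat_lit 1]) (by decide +kernel)

theorem le48 : grp 275 fix_P5_o_G0 ≤ grp 275 fix_P5_o_E0 :=
  grp_le_of_memB hn hk fix_P5_o_E0_ok fix_P5_o_G0_ok (ws := [nat_lit 1]) (by decide +kernel)

theorem fix_P5_o_0_eq : grp 275 fix_P5_o_E0 = grp 275 fix_P5_o_G0 :=
  le_antisymm le47 le48

theorem fix_P5_o_card0 : Nat.card (grp 275 fix_P5_o_E0) = 5 :=
  by rw [fix_P5_o_0_eq]; exact fix_P5_o_0_cardG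

theorem fix_P5_o_stab0 : grp 275 fix_P5_o_E0 ⊓ MulAction.stabilizer (Equiv.Perm (Fin 275)) (⟨2, by decide⟩ : Fin 275) = grp 275 fix_P5_o_E1 :=
  by rw [fix_P5_o_0_eq]; exact fix_P5_o_0_lev

theorem fix_P5_o_leO0 : grp 275 fix_P5_o_E0 ≤ grp 275 fix_P5 :=
  fix_P5_o_0_eq.le.trans (grp_cons_le ((le_refl (grp 275 fix_P5)) (le46 (toPerm_mem_grp (E := V45) (by simp [V45])))) fix_P5_o_leO1)

theorem le49 : grp 275 fix_P5 ≤ grp 275 fix_P5_o_E0 :=
  grp_le_of_memB hn hk fix_P5_o_E0_ok fix_P5_ok (ws := [nat_lit 1]) (by decide +kernel)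

theorem fix_P5_o_eq : grp 275 fix_P5 = grp 275 fix_P5_o_E0 :=
  le_antisymm le49 fix_P5_o_leO0

theorem fix_P5_o_card : Nat.card (grp 275 fix_P5) = 5 :=
  by rw [fix_P5_o_eq]; exact fix_P5_o_card0

noncomputable def fix_P5_o_ch : Ch := (Ch.cons (nat_lit 2) [nat_lit 1] Ch.nil)

theorem fix_P5_o_exact : Ch.Exact 275 fix_P5_o_E0 fix_P5_o_ch (grp 275 fix_P5_o_E0) :=
  Ch.exact (k := 9) (L := (lab 275 9)) hn fix_P5_o_E0_ok (by decide +kernel) (wgrp_le_grp _ _ _) fix_P5_o_card0.le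

theorem fix_P5_res : ∀ c ∈ [(5, 5)], Res (grp 275 fix_P5) c.1 c.2 :=
  res_of_check hn fix_P5_ok (ss := [nat_lit 0, nat_lit 1, nat_lit 2, nat_lit 3, nat_lit 4, nat_lit 5, nat_lit 6, nat_lit 7, nat_lit 8, nat_lit 10, nat_lit 11, nat_lit 12, nat_lit 13, nat_lit 14, nat_lit 15, nat_lit 17, nat_lit 18, nat_lit 19, nat_lit 20, nat_lit 21, nat_lit 22, nat_lit 24, nat_lit 25, nat_lit 26, nat_lit 27, nat_lit 29, nat_lit 32, nat_lit 33, nat_lit 35, nat_lit 37, nat_lit 38, nat_lit 42, nat_lit 43, nat_lit 45, nat_lit 46, nat_lit 47, nat_lit 48, nat_lit 49, nat_lit 50, nat_lit 52, nat_lit 53, nat_lit 55, nat_lit 61, nat_lit 62, nat_lit 64, nat_lit 66, nat_lit 72, nat_lit 76, nat_lit 77, nat_lit 81, nat_lit 90, nat_lit 92, nat_lit 98, nat_lit 106, nat_lit 107, nat_lit 114, nat_lit 120, nat_lit 121, nat_lit 141]) (by decide +kernel)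

theorem fix : FixP (grp 275 McLM.E) (⟨0, by decide⟩ : Fin 275) :=
  fixP_of_res one (T_s1.eq_inf (by decide)) T_s1.card (Nat.card_fin _) (ResL.append fix_P7_le fix_P7_ai fix_P7_res (ResL.append fix_P3_le fix_P3_ai fix_P3_res ResL.nil)) fix_P5_le (p := 5) (k := 1) (by norm_num) fix_P5_o_card (by norm_num) fix_P5_res (f := 825) (by decide +kernel)

theorem nm_g56 : Net.toPerm 275 g56 ∈ (Subgroup.normalizer ((grp 275 McLM.E) : Set (Equiv.Perm (Fin 275)))) :=
  mem_normalizer_grp fun o ho => T_s0.le (conj_mem_of_normB hn hk McLM.lb_E_ok McLM.E_ok g56_ok (ws := [nat_lit 0x1312140a13090505080114, nat_lit 0x140f0d11090c0d0509010609]) (by decide +kernel) o ho)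

theorem le57 : grp 275 nm_K ≤ grp 275 nm_E :=
  grp_le_of_memB hn hk nm_E_ok nm_K_ok (ws := [nat_lit 0x161116130d12070b0b031009, nat_lit 0x14110d0d071501, nat_lit 0x12130c0e01, nat_lit 5649, nat_lit 987393, nat_lit 5633, nat_lit 21]) (by decide +kernel)

theorem nm_le : grp 275 nm_K ≤ (Subgroup.normalizer ((grp 275 McLM.E) : Set (Equiv.Perm (Fin 275)))) :=
  le57.trans (grp_cons_le nm_g56 (T_s0.le.trans Subgroup.le_normalizer))

noncomputable def T_s1_O : ℕ := (nat_lit 0x9406856b937e031a8d0251680b160b70c00d651dc8a23b1de25ae03cc6e48b30b080000000000000000000000000000000000000000000000000000000000000000000001)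

theorem T_s1_F : Frame 275 (Subgroup.normalizer ((grp 275 McLM.E) : Set (Equiv.Perm (Fin 275)))) 1 2 T_s1_O 0 1 :=
  Stab.frameN hn T_s1 (ss := [nat_lit 0, nat_lit 1, nat_lit 8]) (l := [(112, 1)]) (by decide +kernel)

noncomputable def nm_cnt_L : List ℕ := [1, 2, T_s1_O, 0, 0]

theorem nm_cnt_P : Prob 275 9 (Subgroup.normalizer ((grp 275 McLM.E) : Set (Equiv.Perm (Fin 275)))) nm_K [] [] nm_K nm_cnt_L 0 0 :=
  Sym.prob hn hk (Sym.of_le nm_K_ok nm_le) nm_K_ok nm_le (Frames.cons T_s1_F Frames.nil) (okE_nil _) _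

noncomputable def nm_cnt_t : BT := (BT.br (nat_lit 2) (nat_lit 0) [nat_lit 1, nat_lit 3] (BT.kid (nat_lit 0) (nat_lit 0x63ab00) (BT.frm (nat_lit 0) (nat_lit 0) (nat_lit 0) [nat_lit 0] (BT.pln (nat_lit 0) (nat_lit 1) (BT.dif (nat_lit 5) (nat_lit 0) (BT.dif (nat_lit 0) (nat_lit 3) (BT.br (nat_lit 0) (nat_lit 1) [nat_lit 3, nat_lit 5] (BT.kid (nat_lit 1) (nat_lit 40320) (BT.frm (nat_lit 0) (nat_lit 514) (nat_lit 514) [nat_lit 0] (BT.pln (nat_lit 0) (nat_lit 1) (BT.dif (nat_lit 4) (nat_lit 0) (BT.dif (nat_lit 0) (nat_lit 8) (BT.dif (nat_lit 0) (nat_lit 4) (BT.br (nat_lit 0) (nat_lit 2) [nat_lit 5, nat_lit 7] (BT.kid (nat_lit 2) (nat_lit 384) (BT.frm (nat_lit 0) (nat_lit 0x1050d06) (nat_lit 0x1050d06) [nat_lit 0] (BT.pln (nat_lit 0) (nat_lit 1) (BT.dif (nat_lit 5) (nat_lit 0) (BT.dif (nat_lit 0) (nat_lit 14) (BT.dif (nat_lit 0) (nat_lit 10) (BT.dif (nat_lit 0) (nat_lit 5) (BT.br (nat_lit 0) (nat_lit 4) [nat_lit 7, nat_lit 9] (BT.dead (nat_lit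 6) (BT.dif (nat_lit 11) (nat_lit 16) (BT.and (nat_lit 0) (nat_lit 6) (BT.frm (nat_lit 0) (nat_lit 0x1010507) (nat_lit 65800) [nat_lit 2] (BT.pln (nat_lit 0) (nat_lit 1) (BT.dif (nat_lit 2) (nat_lit 0) (BT.br (nat_lit 0) (nat_lit 3) [nat_lit 0xd070d08, nat_lit 2826] (BT.dead (nat_lit 60) (BT.frm (nat_lit 0) (nat_lit 0x1060d03) (nat_lit 0x1010301) [nat_lit 0] (BT.pln (nat_lit 0) (nat_lit 1) (BT.and (nat_lit 0) (nat_lit 24) (BT.dif (nat_lit 0) (nat_lit 20) (BT.and (nat_lit 0) (nat_lit 6) (BT.and (nat_lit 0) (nat_lit 16) (BT.cnt (nat_lit 0)))))))) BT.nil))))))) (BT.kid (nat_lit 4) (nat_lit 6) (BT.dif (nat_lit 11) (nat_lit 16) (BT.and (nat_lit 0) (nat_lit 6) (BT.frm (nat_lit 0) (nat_lit 0x1010507) (nat_lit 0x1010507) [nat_lit 2] (BT.pln (nat_lit 0) (nat_lit 1) (BT.dif (nat_lit 2) (nat_lit 0) (BT.br (nat_lit 0) (nat_lit 3) [nat_lit 11, nat_lit 13] (BT.dead (nat_lit 60) (BT.frm (nat_lit 0) (nat_lit 0x1060d03) (nat_lit 0x1010301) [nat_lit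 0] (BT.pln (nat_lit 0) (nat_lit 1) (BT.and (nat_lit 0) (nat_lit 24) (BT.and (nat_lit 0) (nat_lit 5) (BT.dif (nat_lit 0) (nat_lit 15) (BT.and (nat_lit 0) (nat_lit 22) (BT.cnt (nat_lit 0)))))))) (BT.kid (nat_lit 3) (nat_lit 1) (BT.frm (nat_lit 0) (nat_lit 0x1060d03) (nat_lit 0x1060d03) [nat_lit 0] (BT.pln (nat_lit 0) (nat_lit 1) (BT.dif (nat_lit 24) (nat_lit 19) (BT.dif (nat_lit 0) (nat_lit 1) (BT.and (nat_lit 0) (nat_lit 6) (BT.dif (nat_lit 0) (nat_lit 16) (BT.frm (nat_lit 0) (nat_lit 0x103020b) (nat_lit 0x103020b) [nat_lit 0] (BT.pln (nat_lit 0) (nat_lit 1) (BT.and (nat_lit 25) (nat_lit 6) (BT.dif (nat_lit 0) (nat_lit 31) (BT.dif (nat_lit 0) (nat_lit 2) (BT.frm (nat_lit 0) (nat_lit 67332) (nat_lit 67332) [nat_lit 0] (BT.pln (nat_lit 0) (nat_lit 1) (BT.and (nat_lit 24) (nat_lit 11) (BT.dif (nat_lit 0) (nat_lit 36) (BT.dif (nat_lit 0) (nat_lit 7) (BT.frm (nat_lit 0) (nat_lit 262) (nat_lit 262) [nat_lit 0] (BT.pln (nat_lit 0) (nat_lit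 1) (BT.and (nat_lit 8) (nat_lit 29) (BT.dif (nat_lit 0) (nat_lit 21) (BT.frm (nat_lit 0) (nat_lit 67074) (nat_lit 67074) [nat_lit 0] (BT.pln (nat_lit 0) (nat_lit 1) (BT.and (nat_lit 44) (nat_lit 39) (BT.dif (nat_lit 0) (nat_lit 34) (BT.dif (nat_lit 0) (nat_lit 26) (BT.dif (nat_lit 0) (nat_lit 23) (BT.dif (nat_lit 0) (nat_lit 4) (BT.dif (nat_lit 0) (nat_lit 14) (BT.frm (nat_lit 0) (nat_lit 0x1050103) (nat_lit 0x1050103) [nat_lit 0] (BT.pln (nat_lit 0) (nat_lit 1) (BT.dif (nat_lit 15) (nat_lit 32) (BT.dif (nat_lit 0) (nat_lit 48) (BT.and (nat_lit 28) (nat_lit 43) (BT.dif (nat_lit 0) (nat_lit 35) (BT.dif (nat_lit 0) (nat_lit 12) (BT.dif (nat_lit 0) (nat_lit 17) (BT.frm (nat_lit 0) (nat_lit 0x1030501) (nat_lit 0x1030501) [nat_lit 0] (BT.pln (nat_lit 0) (nat_lit 1) (BT.dif (nat_lit 6) (nat_lit 0) (BT.frm (nat_lit 0) (nat_lit 522) (nat_lit 522) [nat_lit 0] (BT.pln (nat_lit 0) (nat_lit 1) (BT.and (nat_lit 46) (nat_lit 43) (BT.dif (nat_lit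 0) (nat_lit 53) (BT.dif (nat_lit 0) (nat_lit 41) (BT.dif (nat_lit 0) (nat_lit 22) (BT.dif (nat_lit 0) (nat_lit 27) (BT.frm (nat_lit 0) (nat_lit 0x1010a04) (nat_lit 0x1010a04) [nat_lit 0] (BT.pln (nat_lit 0) (nat_lit 1) (BT.dif (nat_lit 53) (nat_lit 59) (BT.dif (nat_lit 0) (nat_lit 51) (BT.dif (nat_lit 0) (nat_lit 42) (BT.dif (nat_lit 0) (nat_lit 33) (BT.dif (nat_lit 63) (nat_lit 74) (BT.and (nat_lit 0) (nat_lit 55) (BT.dif (nat_lit 0) (nat_lit 71) (BT.dif (nat_lit 0) (nat_lit 53) (BT.dif (nat_lit 0) (nat_lit 34) (BT.dif (nat_lit 0) (nat_lit 44) (BT.frm (nat_lit 0) (nat_lit 65793) (nat_lit 65793) [nat_lit 0] (BT.pln (nat_lit 0) (nat_lit 1) (BT.dif (nat_lit 8) (nat_lit 0) (BT.dif (nat_lit 0) (nat_lit 20) (BT.frm (nat_lit 0) (nat_lit 0x1030306) (nat_lit 0x1030306) [nat_lit 0] (BT.pln (nat_lit 0) (nat_lit 1) (BT.dif (nat_lit 65) (nat_lit 64) (BT.dif (nat_lit 0) (nat_lit 63) (BT.dif (nat_lit 0) (nat_lit 53) (BT.dif (nat_lit 0) (nat_lit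 49) (BT.dif (nat_lit 0) (nat_lit 38) (BT.dif (nat_lit 0) (nat_lit 28) (BT.frm (nat_lit 0) (nat_lit 0x1010301) (nat_lit 0x1010301) [nat_lit 0] (BT.pln (nat_lit 0) (nat_lit 1) (BT.dif (nat_lit 68) (nat_lit 83) (BT.dif (nat_lit 0) (nat_lit 75) (BT.dif (nat_lit 0) (nat_lit 14) (BT.and (nat_lit 0) (nat_lit 27) (BT.and (nat_lit 71) (nat_lit 87) (BT.dif (nat_lit 0) (nat_lit 59) (BT.dif (nat_lit 0) (nat_lit 37) (BT.frm (nat_lit 0) (nat_lit 0x2060402) (nat_lit 0x2060402) [nat_lit 0] (BT.pln (nat_lit 0) (nat_lit 1) (BT.dif (nat_lit 5) (nat_lit 0) (BT.frm (nat_lit 0) (nat_lit 0x1030802) (nat_lit 0x1030802) [nat_lit 0] (BT.pln (nat_lit 0) (nat_lit 1) (BT.dif (nat_lit 61) (nat_lit 86) (BT.and (nat_lit 0) (nat_lit 96) (BT.dif (nat_lit 0) (nat_lit 78) (BT.dif (nat_lit 0) (nat_lit 74) (BT.dif (nat_lit 0) (nat_lit 70) (BT.dif (nat_lit 0) (nat_lit 5) (BT.frm (nat_lit 0) (nat_lit 0x105010d) (nat_lit 0x105010d) [nat_lit 0] (BT.pln (nat_lit 0) (nat_lit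 1) (BT.and (nat_lit 68) (nat_lit 94) (BT.dif (nat_lit 0) (nat_lit 91) (BT.dif (nat_lit 0) (nat_lit 81) (BT.dif (nat_lit 0) (nat_lit 23) (BT.frm (nat_lit 0) (nat_lit 0x205020d) (nat_lit 0x205020d) [nat_lit 0] (BT.pln (nat_lit 0) (nat_lit 1) (BT.disc [nat_lit 120, nat_lit 115, nat_lit 109, nat_lit 100, nat_lit 96, nat_lit 90, nat_lit 85, nat_lit 80, nat_lit 76, nat_lit 68, nat_lit 57, nat_lit 50, nat_lit 34, nat_lit 26, nat_lit 14, nat_lit 6, nat_lit 0]))))))))))))))))))))))))))))))))))))))))))))))))))))))))))))))))))))))))))))))))))))))))))))))))))) BT.nil)))))))) BT.nil))))))))) BT.nil))))))) BT.nil)))))) BT.nil))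

theorem nm_cnt : Cnt 275 (Subgroup.normalizer ((grp 275 McLM.E) : Set (Equiv.Perm (Fin 275)))) [] [] 0 0 0 0 1796256000 :=
  BT.sound nm_cnt_P Known.nil (t := nm_cnt_t) (d := 0) (by decide +kernel)

theorem nm_ge : 1796256000 ≤ Nat.card (grp 275 nm_K) :=
  Ch.le_card_grp (k := 9) (L := (lab 275 9)) hn nm_K_ok (c := (Ch.cons (nat_lit 0) [nat_lit 1] (Ch.cons (nat_lit 1) [nat_lit 3] (Ch.cons (nat_lit 2) [nat_lit 5] (Ch.cons (nat_lit 4) [nat_lit 7, nat_lit 9] (Ch.cons (nat_lit 3) [nat_lit 11, nat_lit 13] Ch.nil)))))) (by decide +kernel)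

theorem nm_card : Nat.card (Subgroup.normalizer ((grp 275 McLM.E) : Set (Equiv.Perm (Fin 275)))) = 1796256000 :=
  (eq_grp_of_cnt nm_K_ok nm_le nm_cnt nm_ge).2

theorem card_out : Nat.card (Cfsg.Out ↥Cfsg.Spor.McL) = 2 :=
  card_out_of_equiv one fix McLM.equiv (by rw [nm_card, McLM.card_grp])

end Cfsg.Agent.H43.McLO
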