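import Mathlib
import Cfsg.Agent.H43.Cent
import Cfsg.Agent.H43.Mp
import Cfsg.Agent.S2066

set_option autoImplicit false
set_option maxRecDepth 200000
set_option linter.style.longLine false

namespace Cfsg.Agent.H43.MpJ2

open Cfsg.Agent.H43

theorem hn : NOk 100 := by decide

theorem hk : 100 ≤ 2 ^ 7 := by decide

noncomputable def g1 : Net := (Net.cons (nat_lit 1) (nat_lit 0x5554010414550454000015150) (Net.cons (nat_lit 2) (nat_lit 0x313023203133122003113120) (Net.cons (nat_lit 4) (nat_lit 0xd000b0d02040c0003020100) (Net.cons (nat_lit 8) (nat_lit 0x8c00dc00180043009c0001) (Net.cons (nat_lit 16) (nat_lit 0x98ca0000220200000002) (Net.cons (nat_lit 32) (nat_lit 0xc01e0400) (Net.cons (nat_lit 64) (nat_lit 0x7d03f9fe7) (Net.cons (nat_lit 32) (nat_lit 0x9000000009fe468f7) (Net.cons (nat_lit 16) (nat_lit 0xa20c00007a130000f1b1) (Net.cons (nat_lit 8) (nat_lit 0x25002100e500120073001b) (Net.cons (nat_lit 4) (nat_lit 0x90907030e070e0f020c0603)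 (Net.cons (nat_lit 2) (nat_lit 0x11122223203330112302321) (Net.cons (nat_lit 1) (nat_lit 0x4045444054400150500155454) Net.nil)))))))))))))

theorem g1_ok : Net.ok 100 g1 = true := by decide +kernel

noncomputable def g2 : Net := (Net.cons (nat_lit 1) (nat_lit 0x1510411155001050541401550) (Net.cons (nat_lit 2) (nat_lit 0x3202103302223120320202300) (Net.cons (nat_lit 4) (nat_lit 0xc060500000a090f01010008) (Net.cons (nat_lit 8) (nat_lit 0x4700200015004000520000) (Net.cons (nat_lit 16) (nat_lit 0xa1e00000886d00000000) (Net.cons (nat_lit 32) (nat_lit 0xc0000000008871630) (Net.cons (nat_lit 64) (nat_lit 0x7cfe73e39) (Net.cons (nat_lit 32) (nat_lit 0x2000000008174361d) (Net.cons (nat_lit 16) (nat_lit 0x48050000ce650000431d) (Net.cons (nat_lit 8) (nat_lit 0xe000f00b5003a00690095) (Net.cons (nat_lit 4) (nat_lit 0x5020b0f0406030a090d0409) (Net.cons (nat_lit 2) (nat_lit 0x3121233001121211302132100) (Net.cons (nat_lit 1) (nat_lit 0x1144550110414145500154451)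 Net.nil)))))))))))))

theorem g2_ok : Net.ok 100 g2 = true := by decide +kernel

noncomputable def g3 : Net := (Net.cons (nat_lit 1) (nat_lit 0x54041555004511110050010) (Net.cons (nat_lit 2) (nat_lit 0x2202012122113213010030200) (Net.cons (nat_lit 4) (nat_lit 0x40d010a0808020300090808) (Net.cons (nat_lit 8) (nat_lit 0xf00f40072002a0040000c) (Net.cons (nat_lit 16) (nat_lit 0x5d050000300100000004) (Net.cons (nat_lit 32) (nat_lit 0x40000000040063500) (Net.cons (nat_lit 64) (nat_lit 0x9f90f35cc) (Net.cons (nat_lit 32) (nat_lit 0xe0000000040463508) (Net.cons (nat_lit 16) (nat_lit 0xdbb10000b62500008496) (Net.cons (nat_lit 8) (nat_lit 0x8b0071007e007e00c1008c) (Net.cons (nat_lit 4) (nat_lit 0x40d010b0908020b01090808) (Net.cons (nat_lit 2) (nat_lit 0x2202012122113213010030200) (Net.cons (nat_lit 1) (nat_lit 0x54041555004511110050010) Net.nil)))))))))))))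

theorem g3_ok : Net.ok 100 g3 = true := by decide +kernel

noncomputable def R : List Net := [g1, g2, g3]

theorem R_ok : okE 100 R = true := (okE_cons.2 ⟨g1_ok, (okE_cons.2 ⟨g2_ok, (okE_cons.2 ⟨g3_ok, (okE_nil 100)⟩)⟩)⟩)

noncomputable def g4 : Net := (Net.cons (nat_lit 1) (nat_lit 0x5045115151441104045454510) (Net.cons (nat_lit 2) (nat_lit 0x2200132312302002202123000) (Net.cons (nat_lit 4) (nat_lit 0xf080c000d08020e060e000a) (Net.cons (nat_lit 8) (nat_lit 0x4e008b0026002b00a70004) (Net.cons (nat_lit 16) (nat_lit 0xe3cd000055b000000000) (Net.cons (nat_lit 32) (nat_lit 0x6000000004d9cb260) (Net.cons (nat_lit 64) (nat_lit 0xedffdbf70) (Net.cons (nat_lit 32) (nat_lit 0x800000000ba211d71) (Net.cons (nat_lit 16) (nat_lit 0x82630000830f00005558) (Net.cons (nat_lit 8) (nat_lit 0xce0037004d005400e300a5) (Net.cons (nat_lit 4) (nat_lit 0xa040408030d0d050e0f0001) (Net.cons (nat_lit 2) (nat_lit 0x3221132033133131303012221) (Net.cons (nat_lit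 1) (nat_lit 0x154100514141041554555404) Net.nil)))))))))))))

theorem g4_ok : Net.ok 100 g4 = true := by decide +kernel

noncomputable def g5 : Net := (Net.cons (nat_lit 1) (nat_lit 0x144141104151014444540000) (Net.cons (nat_lit 2) (nat_lit 0x212022003202033112123210) (Net.cons (nat_lit 4) (nat_lit 0x20a050c00030808090b0200) (Net.cons (nat_lit 8) (nat_lit 0x15004200d600b800080006) (Net.cons (nat_lit 16) (nat_lit 0x54000008e000000001) (Net.cons (nat_lit 32) (nat_lit 0xc000000000d028720) (Net.cons (nat_lit 64) (nat_lit 0xb7f7eaf27) (Net.cons (nat_lit 32) (nat_lit 0x100000000af1b12d1) (Net.cons (nat_lit 16) (nat_lit 0x8953000055490000520f) (Net.cons (nat_lit 8) (nat_lit 0xf5000700d70025001000c0) (Net.cons (nat_lit 4) (nat_lit 0x803090a070801080a020006) (Net.cons (nat_lit 2) (nat_lit 0x2310221210323002210031120) (Net.cons (nat_lit 1) (nat_lit 0x454100455040544554005451) Net.nil)))))))))))))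

theorem g5_ok : Net.ok 100 g5 = true := by decide +kernel

noncomputable def Y : List Net := [g4, g5]

theorem Y_ok : okE 100 Y = true := (okE_cons.2 ⟨g4_ok, (okE_cons.2 ⟨g5_ok, (okE_nil 100)⟩)⟩)

noncomputable def g6 : Net := (Net.cons (nat_lit 1) (nat_lit 0x1400010410140404100001140) (Net.cons (nat_lit 2) (nat_lit 0x1122032221111100302001000) (Net.cons (nat_lit 4) (nat_lit 0xf0a0808060c0c0c09080508) (Net.cons (nat_lit 8) (nat_lit 0x32001c0040002c00720000) (Net.cons (nat_lit 16) (nat_lit 0x69000065580000000c) (Net.cons (nat_lit 32) (nat_lit 0x6000000007d518800) (Net.cons (nat_lit 64) (nat_lit 0xafdd79cec) (Net.cons (nat_lit 32) (nat_lit 0xe00000000ed197958) (Net.cons (nat_lit 16) (nat_lit 0x90a90000f598000098ee) (Net.cons (nat_lit 8) (nat_lit 0x3a001c0048002c00730000) (Net.cons (nat_lit 4) (nat_lit 0x80a0e08060c0e0c0b0a050a) (Net.cons (nat_lit 2) (nat_lit 0x1032032221111111302001000) (Net.cons (nat_lit 1) (nat_lit 0x1400010410140404100001140)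 Net.nil)))))))))))))

theorem g6_ok : Net.ok 100 g6 = true := by decide +kernel

noncomputable def g7 : Net := (Net.cons (nat_lit 1) (nat_lit 0x454504050054001545444114) (Net.cons (nat_lit 2) (nat_lit 0x1003020003212321002210) (Net.cons (nat_lit 4) (nat_lit 0x80f0d080f01010302080003) (Net.cons (nat_lit 8) (nat_lit 0xbd000e005d00c30092000e) (Net.cons (nat_lit 16) (nat_lit 0x2749000031a000000003) (Net.cons (nat_lit 32) (nat_lit 0x20000000002ac0500) (Net.cons (nat_lit 64) (nat_lit 0x992ae2547) (Net.cons (nat_lit 32) (nat_lit 0xf000000008e5e364c) (Net.cons (nat_lit 16) (nat_lit 0x274d000015540000aa0b) (Net.cons (nat_lit 8) (nat_lit 0x2a00cf00fd008d00aa00ad) (Net.cons (nat_lit 4) (nat_lit 0xb0306050f060a09020f050d) (Net.cons (nat_lit 2) (nat_lit 0x3221130233312130220030) (Net.cons (nat_lit 1) (nat_lit 0x115414551004541041045504) Net.nil)))))))))))))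

theorem g7_ok : Net.ok 100 g7 = true := by decide +kernel

noncomputable def V8 : List Net := [g6, g7]

theorem V8_ok : okE 100 V8 = true := (okE_cons.2 ⟨g6_ok, (okE_cons.2 ⟨g7_ok, (okE_nil 100)⟩)⟩)

noncomputable def g10 : Net := (Net.cons (nat_lit 1) (nat_lit 0x5510114000455554001000540) (Net.cons (nat_lit 2) (nat_lit 0x3001300000310022000330300) (Net.cons (nat_lit 4) (nat_lit 0x202000402000200050c0a02) (Net.cons (nat_lit 8) (nat_lit 0xa000000200010004c0004) (Net.cons (nat_lit 16) (nat_lit 0x8060000006000000006) (Net.cons (nat_lit 32) (nat_lit 0x40000000) (Net.cons (nat_lit 64) (nat_lit 0xff7f94806) (Net.cons (nat_lit 32) (nat_lit 0x60000000000067366) (Net.cons (nat_lit 16) (nat_lit 0x480600006c4000001006) (Net.cons (nat_lit 8) (nat_lit 0xb000600000060001d00a4) (Net.cons (nat_lit 4) (nat_lit 0xa010104020902000c090a02) (Net.cons (nat_lit 2) (nat_lit 0x3131300000310123022221300) (Net.cons (nat_lit 1) (nat_lit 0x5111514000455554004400540)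 Net.nil)))))))))))))

theorem g10_ok : Net.ok 100 g10 = true := by decide +kernel

noncomputable def g11 : Net := (Net.cons (nat_lit 1) (nat_lit 0x4510115145011541450154114) (Net.cons (nat_lit 2) (nat_lit 0x1022121211203030023120000) (Net.cons (nat_lit 4) (nat_lit 0xc06010205030b0809040a08) (Net.cons (nat_lit 8) (nat_lit 0xaf00d900ac005f00410002) (Net.cons (nat_lit 16) (nat_lit 0xb0e50000120a00000002) (Net.cons (nat_lit 32) (nat_lit 0x12780000) (Net.cons (nat_lit 64) (nat_lit 0xf7ef9df0e) (Net.cons (nat_lit 32) (nat_lit 0x500000000eed2133c) (Net.cons (nat_lit 16) (nat_lit 0x60100000b3700000f154) (Net.cons (nat_lit 8) (nat_lit 0x81005d003b00c800ab0062) (Net.cons (nat_lit 4) (nat_lit 0x40b0b030e070607010d050a) (Net.cons (nat_lit 2) (nat_lit 0x2300230010312133010123000) (Net.cons (nat_lit 1) (nat_lit 0x511114440011114451440544) Net.nil)))))))))))))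

theorem g11_ok : Net.ok 100 g11 = true := by decide +kernel

noncomputable def V12 : List Net := [g10, g11]

theorem V12_ok : okE 100 V12 = true := (okE_cons.2 ⟨g10_ok, (okE_cons.2 ⟨g11_ok, (okE_nil 100)⟩)⟩)

noncomputable def V14 : List Net := [H47.J2P.h_g46, H47.J2P.h_a0]

theorem V14_ok : okE 100 V14 = true := (okE_cons.2 ⟨H47.J2P.h_g46_ok, (okE_cons.2 ⟨H47.J2P.h_a0_ok, (okE_nil 100)⟩)⟩)

noncomputable def V16 : List Net := [H47.J2P.h_g53, H47.J2P.h_a0, H47.J2P.h_g49]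

theorem V16_ok : okE 100 V16 = true := (okE_cons.2 ⟨H47.J2P.h_g53_ok, (okE_cons.2 ⟨H47.J2P.h_a0_ok, (okE_cons.2 ⟨H47.J2P.h_g49_ok, (okE_nil 100)⟩)⟩)⟩)

noncomputable def V18 : List Net := [H47.J2P.h_a0, H47.J2P.h_g50]

theorem V18_ok : okE 100 V18 = true := (okE_cons.2 ⟨H47.J2P.h_a0_ok, (okE_cons.2 ⟨H47.J2P.h_g50_ok, (okE_nil 100)⟩)⟩)

noncomputable def V20 : List Net := [H47.J2P.h_a0, H47.J2P.h_a0]

theorem V20_ok : okE 100 V20 = true := (okE_cons.2 ⟨H47.J2P.h_a0_ok, (okE_cons.2 ⟨H47.J2P.h_a0_ok, (okE_nil 100)⟩)⟩)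

noncomputable def lY_E : List Net := [g4, g5, g6, g7, g10, g11, H47.J2P.h_g46, H47.J2P.h_a0, H47.J2P.h_g53, H47.J2P.h_a0, H47.J2P.h_g49, H47.J2P.h_a0, H47.J2P.h_g50, H47.J2P.h_a0, H47.J2P.h_a0]

theorem lY_E_ok : okE 100 lY_E = true := (okE_cons.2 ⟨g4_ok, (okE_cons.2 ⟨g5_ok, (okE_cons.2 ⟨g6_ok, (okE_cons.2 ⟨g7_ok, (okE_cons.2 ⟨g10_ok, (okE_cons.2 ⟨g11_ok, (okE_cons.2 ⟨H47.J2P.h_g46_ok, (okE_cons.2 ⟨H47.J2P.h_a0_ok, (okE_cons.2 ⟨H47.J2P.h_g53_ok, (okE_cons.2 ⟨H47.J2P.h_a0_ok, (okE_cons.2 ⟨H47.J2P.h_g49_ok, (okE_cons.2 ⟨H47.J2P.h_a0_ok, (okE_cons.2 ⟨H47.J2P.h_g50_ok, (okE_cons.2 ⟨H47.J2P.h_a0_ok, (okE_cons.2 ⟨H47.J2P.h_a0_ok, (okE_nil 100)⟩)⟩)⟩)⟩)⟩)⟩)⟩)⟩)⟩)⟩)⟩)⟩)⟩)⟩)⟩)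

noncomputable def a : Net := (Net.cons (nat_lit 1) (nat_lit 0x5501104104515100114544414) (Net.cons (nat_lit 2) (nat_lit 0x311213333212100312003000) (Net.cons (nat_lit 4) (nat_lit 0x909020e0900040f0b050105) (Net.cons (nat_lit 8) (nat_lit 0xc9009700f2003600140002) (Net.cons (nat_lit 16) (nat_lit 0x62710000495e0000000d) (Net.cons (nat_lit 32) (nat_lit 0x40000000068020050) (Net.cons (nat_lit 64) (nat_lit 0xffe0e9471) (Net.cons (nat_lit 32) (nat_lit 0x100000000186b1943) (Net.cons (nat_lit 16) (nat_lit 0xee1e0000c77c0000f424) (Net.cons (nat_lit 8) (nat_lit 0x5002f00f800470055006c) (Net.cons (nat_lit 4) (nat_lit 0x90b0c0702050f00070b00) (Net.cons (nat_lit 2) (nat_lit 0x1200212120303033211001202) (Net.cons (nat_lit 1) (nat_lit 0x151401141150145411505) Net.nil)))))))))))))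

theorem a_ok : Net.ok 100 a = true := by decide +kernel

theorem R_le : grp 100 R ≤ grp 100 H47.J2P.h_E0 :=
  grp_le_of_memB hn hk H47.J2P.h_E0_ok R_ok (ws := [nat_lit 0x19170f120b0b0511, nat_lit 0x1607100318, nat_lit 0x181a0f12070715]) (by decide +kernel)

theorem R_dvd : 2 ^ 7 ∣ Nat.card (grp 100 R) :=
  Ch.dvd_card_grp (k := 7) hn R_ok (c := (Ch.cons (nat_lit 0) [nat_lit 1, nat_lit 3] (Ch.cons (nat_lit 1) [nat_lit 5] Ch.nil))) (by decide +kernel)

theorem Y_le : grp 100 Y ≤ grp 100 H47.J2P.h_E0 :=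
  grp_le_of_memB hn hk H47.J2P.h_E0_ok Y_ok (ws := [nat_lit 0x161a0f110707010d02, nat_lit 0x17170f0b010111]) (by decide +kernel)

theorem le9 : grp 100 V8 ≤ grp 100 Y :=
  grp_le_of_memB hn hk Y_ok V8_ok (ws := [nat_lit 0x1030202040202020202, nat_lit 0x104020303010402020303]) (by decide +kernel)

theorem le13 : grp 100 V12 ≤ grp 100 V8 :=
  grp_le_of_memB hn hk V8_ok V12_ok (ws := [nat_lit 263172, nat_lit 0x1040401030204020302]) (by decide +kernel)

theorem le15 : grp 100 V14 ≤ grp 100 V12 :=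
  grp_le_of_memB hn hk V12_ok V14_ok (ws := [nat_lit 0x20301040104040204, nat_lit 0x20303010303]) (by decide +kernel)

theorem le17 : grp 100 V16 ≤ grp 100 V14 :=
  grp_le_of_memB hn hk V14_ok V16_ok (ws := [nat_lit 0x2020404010301010301, nat_lit 0x10104020402020302, nat_lit 197122]) (by decide +kernel)

theorem le19 : grp 100 V18 ≤ grp 100 V16 :=
  grp_le_of_memB hn hk V16_ok V18_ok (ws := [nat_lit 0x10504050301060306, nat_lit 0x3060105]) (by decide +kernel)

theorem le21 : grp 100 V20 ≤ grp 100 V18 :=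
  grp_le_of_memB hn hk V18_ok V20_ok (ws := [nat_lit 262404, nat_lit 0x2030104040204]) (by decide +kernel)

theorem lY_le : grp 100 lY_E ≤ grp 100 Y :=
  (grp_cons_le ((le_refl (grp 100 Y)) (toPerm_mem_grp (E := Y) (by simp [Y]))) (grp_cons_le ((le_refl (grp 100 Y)) (toPerm_mem_grp (E := Y) (by simp [Y]))) (grp_cons_le ((le9.trans (le_refl (grp 100 Y))) (toPerm_mem_grp (E := V8) (by simp [V8]))) (grp_cons_le ((le9.trans (le_refl (grp 100 Y))) (toPerm_mem_grp (E := V8) (by simp [V8]))) (grp_cons_le ((le13.trans (le9.trans (le_refl (grp 100 Y)))) (toPerm_mem_grp (E := V12) (by simp [V12]))) (grp_cons_le ((le13.trans (le9.trans (le_refl (grp 100 Y)))) (toPerm_mem_grp (E := V12) (by simp [V12]))) (grp_cons_le ((le15.trans (le13.trans (le9.trans (le_refl (grp 100 Y))))) (toPerm_mem_grp (E := V14) (by simp [V14]))) (grp_cons_le ((le15.trans (le13.trans (le9.trans (le_refl (grp 100 Y))))) (toPerm_mem_grp (E := V14) (by simp [V14]))) (grp_cons_le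 ((le17.trans (le15.trans (le13.trans (le9.trans (le_refl (grp 100 Y)))))) (toPerm_mem_grp (E := V16) (by simp [V16]))) (grp_cons_le ((le17.trans (le15.trans (le13.trans (le9.trans (le_refl (grp 100 Y)))))) (toPerm_mem_grp (E := V16) (by simp [V16]))) (grp_cons_le ((le17.trans (le15.trans (le13.trans (le9.trans (le_refl (grp 100 Y)))))) (toPerm_mem_grp (E := V16) (by simp [V16]))) (grp_cons_le ((le19.trans (le17.trans (le15.trans (le13.trans (le9.trans (le_refl (grp 100 Y))))))) (toPerm_mem_grp (E := V18) (by simp [V18]))) (grp_cons_le ((le19.trans (le17.trans (le15.trans (le13.trans (le9.trans (le_refl (grp 100 Y))))))) (toPerm_mem_grp (E := V18) (by simp [V18]))) (grp_cons_le ((le21.trans (le19.trans (le17.trans (le15.trans (le13.trans (le9.trans (le_refl (grp 100 Y)))))))) (toPerm_mem_grp (E := V20) (by simp [V20]))) (grp_cons_le ((le21.trans (le19.trans (le17.trans (le15.trans (le13.trans (le9.trans (le_refl (grp 100 Y))))))))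 (toPerm_mem_grp (E := V20) (by simp [V20]))) (grp_nil_le _))))))))))))))))

noncomputable def lY_ch : Ch := (Ch.cons (nat_lit 0) [nat_lit 1, nat_lit 3] (Ch.cons (nat_lit 2) [nat_lit 5, nat_lit 7] (Ch.cons (nat_lit 3) [nat_lit 9, nat_lit 11] (Ch.cons (nat_lit 15) [nat_lit 13, nat_lit 15] (Ch.cons (nat_lit 1) [nat_lit 17, nat_lit 19, nat_lit 21] (Ch.cons (nat_lit 4) [nat_lit 23, nat_lit 25] (Ch.cons (nat_lit 8) [nat_lit 27, nat_lit 29] Ch.nil)))))))

theorem lY_chk : Ch.chk 100 7 (lab 100 7) lY_E lY_ch 604800 = true :=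
  by decide +kernel

theorem lY_ge : 604800 ≤ Nat.card (grp 100 Y) :=
  (Ch.le_card_grp hn lY_E_ok lY_chk).trans (Subgroup.card_le_of_le lY_le)

noncomputable def T1 : ℕ := (nat_lit 0xa050340400209410a400d80)

noncomputable def T2 : ℕ := (nat_lit 0x400000080100000080)

theorem a_norm : Net.toPerm 100 a ∈ Subgroup.normalizer (grp 100 H47.J2P.h_E0 : Set (Equiv.Perm (Fin 100))) :=
  mem_normalizer_grp fun o ho => (le_refl (grp 100 H47.J2P.h_E0)) (conj_mem_of_normB hn hk H47.J2P.h_E0_ok H47.J2P.h_E0_ok a_ok (ws := [nat_lit 0x170d070509, nat_lit 0x1919110c010d02, nat_lit 0x181208080101, nat_lit 0x1719170f070c01070f, nat_lit 0x1710071101010d, nat_lit 0x170f120d1a0215, nat_lit 0x1819191008150509, nat_lit 0x1819190f120711, nat_lit 0x18190f120d1301010d, nat_lit 0x161a100815, nat_lit 0x190f0b0b020302, nat_lit 0x171719100d16050d, nat_lit 0x1717191208030f, nat_lit 0xf110c0f050d]) (by decide +kernel) o ho)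

theorem a_dvd : 2 ^ (7 + 1) ∣ Nat.card (grp 100 (a :: R)) :=
  Ch.dvd_card_grp (k := 7) hn (okE_cons.2 ⟨a_ok, R_ok⟩) (c := (Ch.cons (nat_lit 0) [nat_lit 1025] (Ch.cons (nat_lit 1) [nat_lit 0x5050501, nat_lit 7] Ch.nil))) (by decide +kernel)

noncomputable def K : List Net := [H47.J2P.h_g7, H47.J2P.h_a0, H47.J2P.h_g4, H47.J2P.h_a8, H47.J2P.h_g14, H47.J2P.h_g10, H47.J2P.h_g11, H47.J2P.h_g21, H47.J2P.h_g22, H47.J2P.h_g17, H47.J2P.h_g18]

theorem K_ok : okE 100 K = true :=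
  (okE_cons.2 ⟨H47.J2P.h_g7_ok, (okE_cons.2 ⟨H47.J2P.h_a0_ok, (okE_cons.2 ⟨H47.J2P.h_g4_ok, (okE_cons.2 ⟨H47.J2P.h_a8_ok, (okE_cons.2 ⟨H47.J2P.h_g14_ok, (okE_cons.2 ⟨H47.J2P.h_g10_ok, (okE_cons.2 ⟨H47.J2P.h_g11_ok, (okE_cons.2 ⟨H47.J2P.h_g21_ok, (okE_cons.2 ⟨H47.J2P.h_g22_ok, (okE_cons.2 ⟨H47.J2P.h_g17_ok, (okE_cons.2 ⟨H47.J2P.h_g18_ok, (okE_nil 100)⟩)⟩)⟩)⟩)⟩)⟩)⟩)⟩)⟩)⟩)⟩)

theorem one : OneFix (grp 100 H47.J2P.h_E0) (⟨0, by decide⟩ : Fin 100) :=
  oneFix_of_fixAll hn hk H47.J2P.h_E0_ok K_ok ((grp_mono (by simp [K, H47.J2P.h_E0])).trans (le_refl (grp 100 H47.J2P.h_E0))) (by decide) (by decide +kernel)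

theorem good : H57.MPS.Good (grp 100 H47.J2P.h_E0) :=
  good_perm (k := 7) (m := 4725) (T₁ := T1) (T₂ := T2) H47.J2P.h_E0_ok R_ok Y_ok (H47.J2P.h_card0.trans (by norm_num)) (by decide) (by decide)
    (R_le.trans (le_refl (grp 100 H47.J2P.h_E0))) (Y_le.trans (le_refl (grp 100 H47.J2P.h_E0))) R_dvd (le_of_eq_of_le (by norm_num) lY_ge) (by decide +kernel)
    (.inr ⟨((H42.card_Out_congr H47.eH0).symm.trans S2066.result), ⟨_, one⟩, a, a_ok, a_norm, by decide +kernel, a_dvd⟩)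

end Cfsg.Agent.H43.MpJ2
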