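import Mathlib
import Cfsg.Agent.H43.Cent
import Cfsg.Agent.H43.Mp
import Cfsg.Agent.H43.HSO

set_option autoImplicit false
set_option maxRecDepth 200000
set_option linter.style.longLine false

namespace Cfsg.Agent.H43.MpHS

open Cfsg.Agent.H43

theorem hn : NOk 100 := by decide

theorem hk : 100 ≤ 2 ^ 7 := by decide

noncomputable def g1 : Net := (Net.cons (nat_lit 1) (nat_lit 0x401110055004145040011500) (Net.cons (nat_lit 2) (nat_lit 0x132010302320121203131220) (Net.cons (nat_lit 4) (nat_lit 0xf040108050e01080808010f) (Net.cons (nat_lit 8) (nat_lit 0xd700440062005200150004) (Net.cons (nat_lit 16) (nat_lit 0x2f0d00008e080000000d) (Net.cons (nat_lit 32) (nat_lit 0x200000000500b8810) (Net.cons (nat_lit 64) (nat_lit 0x9ff7f897a) (Net.cons (nat_lit 32) (nat_lit 0x60000000051068e2c) (Net.cons (nat_lit 16) (nat_lit 0x8b3e0000cc290000cdc8) (Net.cons (nat_lit 8) (nat_lit 0x8300d500ab0041001b00e8) (Net.cons (nat_lit 4) (nat_lit 0xb000100080f050d0e080e07) (Net.cons (nat_lit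 2) (nat_lit 0x1332033302000020201103231) (Net.cons (nat_lit 1) (nat_lit 0x4444115540444100411100400) Net.nil)))))))))))))

theorem g1_ok : Net.ok 100 g1 = true := by decide +kernel

noncomputable def g2 : Net := (Net.cons (nat_lit 1) (nat_lit 0x1540151550410444040401510) (Net.cons (nat_lit 2) (nat_lit 0x320302003321002033200000) (Net.cons (nat_lit 4) (nat_lit 0x40a0e090b04040e0c0b0a07) (Net.cons (nat_lit 8) (nat_lit 0x600b6009b000c001c0002) (Net.cons (nat_lit 16) (nat_lit 0x56020000964200000005) (Net.cons (nat_lit 32) (nat_lit 0x900000000005d9080) (Net.cons (nat_lit 64) (nat_lit 0xe107fffc5) (Net.cons (nat_lit 32) (nat_lit 0xa00000000d5a68a0b) (Net.cons (nat_lit 16) (nat_lit 0x30b1000071aa00002034) (Net.cons (nat_lit 8) (nat_lit 0xef0030001e0011001500f3) (Net.cons (nat_lit 4) (nat_lit 0xd07070b030c07020d0a0606) (Net.cons (nat_lit 2) (nat_lit 0x3132023212303302100312132) (Net.cons (nat_lit 1) (nat_lit 0x5101510051500401150551114) Net.nil)))))))))))))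

theorem g2_ok : Net.ok 100 g2 = true := by decide +kernel

noncomputable def g3 : Net := (Net.cons (nat_lit 1) (nat_lit 0x4401401540015150440500050) (Net.cons (nat_lit 2) (nat_lit 0x1233320320102100101001000) (Net.cons (nat_lit 4) (nat_lit 0xc040b04000a070a000b0a06) (Net.cons (nat_lit 8) (nat_lit 0x8900b1008c008c00480000) (Net.cons (nat_lit 16) (nat_lit 0x2066000078ba0000000a) (Net.cons (nat_lit 32) (nat_lit 0x7000000001a10a0a0) (Net.cons (nat_lit 64) (nat_lit 0x9fa3db6e6) (Net.cons (nat_lit 32) (nat_lit 0xd00000000c142a464) (Net.cons (nat_lit 16) (nat_lit 0x5170000a5ea00002c00) (Net.cons (nat_lit 8) (nat_lit 0x9a00090074008300a10064) (Net.cons (nat_lit 4) (nat_lit 0xf0a0f010a0c0307050e0d0e) (Net.cons (nat_lit 2) (nat_lit 0x3132320011020101121200220) (Net.cons (nat_lit 1) (nat_lit 0x5041014004441050450515110) Net.nil)))))))))))))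

theorem g3_ok : Net.ok 100 g3 = true := by decide +kernel

noncomputable def g4 : Net := (Net.cons (nat_lit 1) (nat_lit 0x4145441100514010440014400) (Net.cons (nat_lit 2) (nat_lit 0x101120123011212001130100) (Net.cons (nat_lit 4) (nat_lit 0xc0400090f060f0900050100) (Net.cons (nat_lit 8) (nat_lit 0xf700010000003800880000) (Net.cons (nat_lit 16) (nat_lit 0xc9000060c000000001) (Net.cons (nat_lit 32) (nat_lit 0x76090400) (Net.cons (nat_lit 64) (nat_lit 0x778d5740) (Net.cons (nat_lit 32) (nat_lit 0x900000000f6d36831) (Net.cons (nat_lit 16) (nat_lit 0x88f90000ad4c00008801) (Net.cons (nat_lit 8) (nat_lit 0xf70001000000b000880000) (Net.cons (nat_lit 4) (nat_lit 0xc000405030e0301080d0d00) (Net.cons (nat_lit 2) (nat_lit 0x101120123011212001130100) (Net.cons (nat_lit 1) (nat_lit 0x4145441100514011441414400) Net.nil)))))))))))))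

theorem g4_ok : Net.ok 100 g4 = true := by decide +kernel

noncomputable def R : List Net := [g1, g2, g3, g4]

theorem R_ok : okE 100 R = true := (okE_cons.2 ⟨g1_ok, (okE_cons.2 ⟨g2_ok, (okE_cons.2 ⟨g3_ok, (okE_cons.2 ⟨g4_ok, (okE_nil 100)⟩)⟩)⟩)⟩)

noncomputable def g5 : Net := (Net.cons (nat_lit 1) (nat_lit 0x544501051514151504154000) (Net.cons (nat_lit 2) (nat_lit 0x1303131022011223122212000) (Net.cons (nat_lit 4) (nat_lit 0x30c0d080e07090a0f090608) (Net.cons (nat_lit 8) (nat_lit 0xc2007800920006000b000b) (Net.cons (nat_lit 16) (nat_lit 0x8cc1000091c90000000b) (Net.cons (nat_lit 32) (nat_lit 0x1000000000300a080) (Net.cons (nat_lit 64) (nat_lit 0xf43a0adfc) (Net.cons (nat_lit 32) (nat_lit 0xe0000000029ca3619) (Net.cons (nat_lit 16) (nat_lit 0x9f0d000070880000e47d) (Net.cons (nat_lit 8) (nat_lit 0x90006e009c003000e4003b) (Net.cons (nat_lit 4) (nat_lit 0x50e0b0308010b0908000b0f) (Net.cons (nat_lit 2) (nat_lit 0x3332112102323330133203210) (Net.cons (nat_lit 1)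 (nat_lit 0x400150050150450050101014) Net.nil)))))))))))))

theorem g5_ok : Net.ok 100 g5 = true := by decide +kernel

noncomputable def g6 : Net := (Net.cons (nat_lit 1) (nat_lit 0x1051501410444041451104444) (Net.cons (nat_lit 2) (nat_lit 0x3021131332211213102101020) (Net.cons (nat_lit 4) (nat_lit 0x2090d0c020008020000060e) (Net.cons (nat_lit 8) (nat_lit 0x8a007400e400a80049000b) (Net.cons (nat_lit 16) (nat_lit 0x39c00000012000000008) (Net.cons (nat_lit 32) (nat_lit 0xf000000009240c0b0) (Net.cons (nat_lit 64) (nat_lit 0x9f7f8ceb6) (Net.cons (nat_lit 32) (nat_lit 0x6000000008619e1d1) (Net.cons (nat_lit 16) (nat_lit 0xed4b0000326d0000e3e2) (Net.cons (nat_lit 8) (nat_lit 0x9e00cf00910038001a0043) (Net.cons (nat_lit 4) (nat_lit 0xe0e0d0f0a040107040f000c) (Net.cons (nat_lit 2) (nat_lit 0x1322120110021213213101301) (Net.cons (nat_lit 1) (nat_lit 0x1551055401044100141545445) Net.nil)))))))))))))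

theorem g6_ok : Net.ok 100 g6 = true := by decide +kernel

noncomputable def Y : List Net := [g5, g6]

theorem Y_ok : okE 100 Y = true := (okE_cons.2 ⟨g5_ok, (okE_cons.2 ⟨g6_ok, (okE_nil 100)⟩)⟩)

noncomputable def g7 : Net := (Net.cons (nat_lit 1) (nat_lit 0x550510014040001001115000) (Net.cons (nat_lit 2) (nat_lit 0x3003123121310020010000) (Net.cons (nat_lit 4) (nat_lit 0x2030204020f0b0006060a01) (Net.cons (nat_lit 8) (nat_lit 0xb80054002200290000) (Net.cons (nat_lit 16) (nat_lit 0xe5100000059b00000000) (Net.cons (nat_lit 32) (nat_lit 0x400000000c1c42050) (Net.cons (nat_lit 64) (nat_lit 0x7c5f428f0) (Net.cons (nat_lit 32) (nat_lit 0x40000000053c635d8) (Net.cons (nat_lit 16) (nat_lit 0xe73000000d5b0000e069) (Net.cons (nat_lit 8) (nat_lit 0x8007800b400220069004a) (Net.cons (nat_lit 4) (nat_lit 0x603020c02070b010e0e0209) (Net.cons (nat_lit 2) (nat_lit 0x3003123121310021010010) (Net.cons (nat_lit 1) (nat_lit 0x551550015040015001115000) Net.nil)))))))))))))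

theorem g7_ok : Net.ok 100 g7 = true := by decide +kernel

noncomputable def g8 : Net := (Net.cons (nat_lit 1) (nat_lit 0x4505115551510415150514440) (Net.cons (nat_lit 2) (nat_lit 0x330121033022121212000300) (Net.cons (nat_lit 4) (nat_lit 0xd0e060d020e0906020309) (Net.cons (nat_lit 8) (nat_lit 0x8b008600a1008300240000) (Net.cons (nat_lit 16) (nat_lit 0x99fe00000c6800000006) (Net.cons (nat_lit 32) (nat_lit 0x10000000082507b20) (Net.cons (nat_lit 64) (nat_lit 0xc82d57f67) (Net.cons (nat_lit 32) (nat_lit 0xf000000001b0a2f45) (Net.cons (nat_lit 16) (nat_lit 0x7ab600001fcb00009469) (Net.cons (nat_lit 8) (nat_lit 0x4400d100820027000e00a8) (Net.cons (nat_lit 4) (nat_lit 0xa050004080b0e020b00070f) (Net.cons (nat_lit 2) (nat_lit 0x1023300321220232202130112) (Net.cons (nat_lit 1) (nat_lit 0x5510041510401004005500110) Net.nil)))))))))))))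

theorem g8_ok : Net.ok 100 g8 = true := by decide +kernel

noncomputable def V9 : List Net := [g7, g8]

theorem V9_ok : okE 100 V9 = true := (okE_cons.2 ⟨g7_ok, (okE_cons.2 ⟨g8_ok, (okE_nil 100)⟩)⟩)

noncomputable def g11 : Net := (Net.cons (nat_lit 1) (nat_lit 0x1511104410001544045404140) (Net.cons (nat_lit 2) (nat_lit 0x1102032321312322012130300) (Net.cons (nat_lit 4) (nat_lit 0xe07040a0a06070606010a0a) (Net.cons (nat_lit 8) (nat_lit 0x5100cd002e00f60048000e) (Net.cons (nat_lit 16) (nat_lit 0x29800000982300000001) (Net.cons (nat_lit 32) (nat_lit 0x80000000032d6cca0) (Net.cons (nat_lit 64) (nat_lit 0x73fdeffed) (Net.cons (nat_lit 32) (nat_lit 0x500000000816cb8fe) (Net.cons (nat_lit 16) (nat_lit 0xf8e500005acb00000557) (Net.cons (nat_lit 8) (nat_lit 0xf200bd0065003f00ad009e) (Net.cons (nat_lit 4) (nat_lit 0xb0400000e0007010a0d0d0a) (Net.cons (nat_lit 2) (nat_lit 0x2230020333121212110221330) (Net.cons (nat_lit 1) (nat_lit 0x404400150510010141515410) Net.nil)))))))))))))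

theorem g11_ok : Net.ok 100 g11 = true := by decide +kernel

noncomputable def g12 : Net := (Net.cons (nat_lit 1) (nat_lit 0x5444140050104415505400400) (Net.cons (nat_lit 2) (nat_lit 0x1102010223200101030210000) (Net.cons (nat_lit 4) (nat_lit 0xb0b05030001090201010004) (Net.cons (nat_lit 8) (nat_lit 0xb200540088000000110000) (Net.cons (nat_lit 16) (nat_lit 0xea2a0000a80000000005) (Net.cons (nat_lit 32) (nat_lit 0x100000000005b9260) (Net.cons (nat_lit 64) (nat_lit 0x41dfbe61) (Net.cons (nat_lit 32) (nat_lit 0x70000000033d30b60) (Net.cons (nat_lit 16) (nat_lit 0xf3220000a9040000989d) (Net.cons (nat_lit 8) (nat_lit 0x2b004d00000080009d0088) (Net.cons (nat_lit 4) (nat_lit 0xa0a040205000c030902010c) (Net.cons (nat_lit 2) (nat_lit 0x1102010223200101030210000) (Net.cons (nat_lit 1) (nat_lit 0x5444140050104415505400400) Net.nil)))))))))))))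

theorem g12_ok : Net.ok 100 g12 = true := by decide +kernel

noncomputable def V13 : List Net := [g11, g12]

theorem V13_ok : okE 100 V13 = true := (okE_cons.2 ⟨g11_ok, (okE_cons.2 ⟨g12_ok, (okE_nil 100)⟩)⟩)

noncomputable def g15 : Net := (Net.cons (nat_lit 1) (nat_lit 0x5115455501411100155001000) (Net.cons (nat_lit 2) (nat_lit 0x2033031222103123333301300) (Net.cons (nat_lit 4) (nat_lit 0xd07030c03040c0d090a0600) (Net.cons (nat_lit 8) (nat_lit 0x350090006200cb00ad0001) (Net.cons (nat_lit 16) (nat_lit 0x30430000182200000005) (Net.cons (nat_lit 32) (nat_lit 0x400000000004e6590) (Net.cons (nat_lit 64) (nat_lit 0x924ee779d) (Net.cons (nat_lit 32) (nat_lit 0x700000000c717bda0) (Net.cons (nat_lit 16) (nat_lit 0xecdb0000f13500007e2d) (Net.cons (nat_lit 8) (nat_lit 0x8b0086009300c4002900f1) (Net.cons (nat_lit 4) (nat_lit 0x60008030c060c0c03070708) (Net.cons (nat_lit 2) (nat_lit 0x2033322133231321302122100) (Net.cons (nat_lit 1) (nat_lit 0x1501415440444101045150550)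 Net.nil)))))))))))))

theorem g15_ok : Net.ok 100 g15 = true := by decide +kernel

noncomputable def g16 : Net := (Net.cons (nat_lit 1) (nat_lit 0x44440405404414414010000) (Net.cons (nat_lit 2) (nat_lit 0x1332312323300121222000000) (Net.cons (nat_lit 4) (nat_lit 0xe0e09010d020f0300090802) (Net.cons (nat_lit 8) (nat_lit 0x88002800b000e300040004) (Net.cons (nat_lit 16) (nat_lit 0x4380000912b00000000) (Net.cons (nat_lit 32) (nat_lit 0x20000000098484160) (Net.cons (nat_lit 64) (nat_lit 0xfd78416a) (Net.cons (nat_lit 32) (nat_lit 0x600000000ca53a9f8) (Net.cons (nat_lit 16) (nat_lit 0x52330000d3310000401c) (Net.cons (nat_lit 8) (nat_lit 0x88003800b600f100960004) (Net.cons (nat_lit 4) (nat_lit 0xe0e09090d030f0300090802) (Net.cons (nat_lit 2) (nat_lit 0x1232313323300121222010000) (Net.cons (nat_lit 1) (nat_lit 0x44440405404414414010100) Net.nil)))))))))))))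

theorem g16_ok : Net.ok 100 g16 = true := by decide +kernel

noncomputable def g17 : Net := (Net.cons (nat_lit 1) (nat_lit 0x1404014014145400151500400) (Net.cons (nat_lit 2) (nat_lit 0x1000100201133010200210000) (Net.cons (nat_lit 4) (nat_lit 0x6020e020909060e01090307) (Net.cons (nat_lit 8) (nat_lit 0xb400a2002400dc000a0000) (Net.cons (nat_lit 16) (nat_lit 0xc8c00000054d00000002) (Net.cons (nat_lit 32) (nat_lit 0xc0cacd20) (Net.cons (nat_lit 64) (nat_lit 0x5fdebdd24) (Net.cons (nat_lit 32) (nat_lit 0xf00000000fd9c3524) (Net.cons (nat_lit 16) (nat_lit 0x78dd000088310000b581) (Net.cons (nat_lit 8) (nat_lit 0x4200380031008c00230080) (Net.cons (nat_lit 4) (nat_lit 0x803070801060c0904070407) (Net.cons (nat_lit 2) (nat_lit 0x2201110011323010302202220) (Net.cons (nat_lit 1) (nat_lit 0x11044440500514041455440) Net.nil)))))))))))))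

theorem g17_ok : Net.ok 100 g17 = true := by decide +kernel

noncomputable def V18 : List Net := [g15, g16, g17]

theorem V18_ok : okE 100 V18 = true := (okE_cons.2 ⟨g15_ok, (okE_cons.2 ⟨g16_ok, (okE_cons.2 ⟨g17_ok, (okE_nil 100)⟩)⟩)⟩)

noncomputable def g20 : Net := (Net.cons (nat_lit 1) (nat_lit 0x5451141510155444014500000) (Net.cons (nat_lit 2) (nat_lit 0x300320320132313030233000) (Net.cons (nat_lit 4) (nat_lit 0xd000a0b0b0c030c0e010701) (Net.cons (nat_lit 8) (nat_lit 0xf0071006400c3009e0000) (Net.cons (nat_lit 16) (nat_lit 0x36000040850000000d) (Net.cons (nat_lit 32) (nat_lit 0x90000000018926400) (Net.cons (nat_lit 64) (nat_lit 0x57af374ec) (Net.cons (nat_lit 32) (nat_lit 0x314033e4) (Net.cons (nat_lit 16) (nat_lit 0x386d0000968c0000dbec) (Net.cons (nat_lit 8) (nat_lit 0x7e00b100dc0010005e0020) (Net.cons (nat_lit 4) (nat_lit 0x80b020c0e09020f07010701) (Net.cons (nat_lit 2) (nat_lit 0x1311320102121301003222100) (Net.cons (nat_lit 1) (nat_lit 0x5051144500500550454515410)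 Net.nil)))))))))))))

theorem g20_ok : Net.ok 100 g20 = true := by decide +kernel

noncomputable def g21 : Net := (Net.cons (nat_lit 1) (nat_lit 0x515151505400551111111000) (Net.cons (nat_lit 2) (nat_lit 0x3322120220122020210210000) (Net.cons (nat_lit 4) (nat_lit 0x506050a07040f0e00060902) (Net.cons (nat_lit 8) (nat_lit 0x6000f0005a008c005f0001) (Net.cons (nat_lit 16) (nat_lit 0x221e0000d69500000009) (Net.cons (nat_lit 32) (nat_lit 0x100000000040c7860) (Net.cons (nat_lit 64) (nat_lit 0xcd4f7ef9) (Net.cons (nat_lit 32) (nat_lit 0xb00000000da8a3c71) (Net.cons (nat_lit 16) (nat_lit 0xacda000043860000089b) (Net.cons (nat_lit 8) (nat_lit 0x4d007900680011007c0011) (Net.cons (nat_lit 4) (nat_lit 0xd0d010606050f03050f0402) (Net.cons (nat_lit 2) (nat_lit 0x1122321010121202030030000) (Net.cons (nat_lit 1) (nat_lit 0x515111554105051100415000) Net.nil)))))))))))))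

theorem g21_ok : Net.ok 100 g21 = true := by decide +kernel

noncomputable def g22 : Net := (Net.cons (nat_lit 1) (nat_lit 0x4145150511441405114144440) (Net.cons (nat_lit 2) (nat_lit 0x2012002220103003310203300) (Net.cons (nat_lit 4) (nat_lit 0xa00020308020c0900010001) (Net.cons (nat_lit 8) (nat_lit 0x4200560016001600230005) (Net.cons (nat_lit 16) (nat_lit 0xe10600006a030000000a) (Net.cons (nat_lit 32) (nat_lit 0x1000000006e5304c0) (Net.cons (nat_lit 64) (nat_lit 0x7fe578fec) (Net.cons (nat_lit 32) (nat_lit 0xc00000000c5035c0e) (Net.cons (nat_lit 16) (nat_lit 0xfd10000a95d0000a36b) (Net.cons (nat_lit 8) (nat_lit 0x970050001c00c6003a00e5) (Net.cons (nat_lit 4) (nat_lit 0xc0e040f070a0109080e0801) (Net.cons (nat_lit 2) (nat_lit 0x323130000122231330211230) (Net.cons (nat_lit 1) (nat_lit 0x144144150540140155011400) Net.nil)))))))))))))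

theorem g22_ok : Net.ok 100 g22 = true := by decide +kernel

noncomputable def V23 : List Net := [g20, g21, g22]

theorem V23_ok : okE 100 V23 = true := (okE_cons.2 ⟨g20_ok, (okE_cons.2 ⟨g21_ok, (okE_cons.2 ⟨g22_ok, (okE_nil 100)⟩)⟩)⟩)

noncomputable def g25 : Net := (Net.cons (nat_lit 1) (nat_lit 0x150550154115400001400400) (Net.cons (nat_lit 2) (nat_lit 0x3203223023101302132130000) (Net.cons (nat_lit 4) (nat_lit 0xc030508030c000b0e030d00) (Net.cons (nat_lit 8) (nat_lit 0x80002400690003006a0002) (Net.cons (nat_lit 16) (nat_lit 0x826a0000828e00000000) (Net.cons (nat_lit 32) (nat_lit 0xa00000000fe341ca0) (Net.cons (nat_lit 64) (nat_lit 0xdfef61cb2) (Net.cons (nat_lit 32) (nat_lit 0x10000000044667810) (Net.cons (nat_lit 16) (nat_lit 0xc7300000caed00002d70) (Net.cons (nat_lit 8) (nat_lit 0x1500360069000c00fb00f2) (Net.cons (nat_lit 4) (nat_lit 0x908090801010b0b0f0b0400) (Net.cons (nat_lit 2) (nat_lit 0x111210121200113021113230) (Net.cons (nat_lit 1) (nat_lit 0x4051001141111450105444000)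 Net.nil)))))))))))))

theorem g25_ok : Net.ok 100 g25 = true := by decide +kernel

noncomputable def g26 : Net := (Net.cons (nat_lit 1) (nat_lit 0x5515550150111510501004440) (Net.cons (nat_lit 2) (nat_lit 0x3130122322123100113001000) (Net.cons (nat_lit 4) (nat_lit 0x701010d040405020c0a0c00) (Net.cons (nat_lit 8) (nat_lit 0xcf008800aa004500850004) (Net.cons (nat_lit 16) (nat_lit 0x66780000201800000001) (Net.cons (nat_lit 32) (nat_lit 0x40000000043233820) (Net.cons (nat_lit 64) (nat_lit 0xdc72ff9f1) (Net.cons (nat_lit 32) (nat_lit 0x900000000ca4d0b74) (Net.cons (nat_lit 16) (nat_lit 0x42d40000393900005181) (Net.cons (nat_lit 8) (nat_lit 0x1700e000020005008f00f4) (Net.cons (nat_lit 4) (nat_lit 0x60a040b0807070c010c0e00) (Net.cons (nat_lit 2) (nat_lit 0x3202022220030021300001330) (Net.cons (nat_lit 1) (nat_lit 0x5405444515405544000014540) Net.nil)))))))))))))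

theorem g26_ok : Net.ok 100 g26 = true := by decide +kernel

noncomputable def g27 : Net := (Net.cons (nat_lit 1) (nat_lit 0x54045141045100445440040) (Net.cons (nat_lit 2) (nat_lit 0x222102011311313202002200) (Net.cons (nat_lit 4) (nat_lit 0xa02020d0a07070303040a05) (Net.cons (nat_lit 8) (nat_lit 0x14001400c3005500b10000) (Net.cons (nat_lit 16) (nat_lit 0x2401000051b10000000f) (Net.cons (nat_lit 32) (nat_lit 0xb000000001089e160) (Net.cons (nat_lit 64) (nat_lit 0x478d9fdeb) (Net.cons (nat_lit 32) (nat_lit 0xc000000003018dac7) (Net.cons (nat_lit 16) (nat_lit 0x67b8000017610000410a) (Net.cons (nat_lit 8) (nat_lit 0x4600b600f20093009d0000) (Net.cons (nat_lit 4) (nat_lit 0xb0c09050d0c030a070b0f05) (Net.cons (nat_lit 2) (nat_lit 0x1320030331313010300331200) (Net.cons (nat_lit 1) (nat_lit 0x1551504101440040505141110) Net.nil)))))))))))))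

theorem g27_ok : Net.ok 100 g27 = true := by decide +kernel

noncomputable def V28 : List Net := [g25, g26, g27]

theorem V28_ok : okE 100 V28 = true := (okE_cons.2 ⟨g25_ok, (okE_cons.2 ⟨g26_ok, (okE_cons.2 ⟨g27_ok, (okE_nil 100)⟩)⟩)⟩)

noncomputable def g30 : Net := (Net.cons (nat_lit 1) (nat_lit 0x4414105500500551104015100) (Net.cons (nat_lit 2) (nat_lit 0x1033121233122101002312100) (Net.cons (nat_lit 4) (nat_lit 0xc0100080a010a0209060400) (Net.cons (nat_lit 8) (nat_lit 0x2100240000003000bc0000) (Net.cons (nat_lit 16) (nat_lit 0x8a1000051c700000000) (Net.cons (nat_lit 32) (nat_lit 0xc2000c0) (Net.cons (nat_lit 64) (nat_lit 0x40c2000c0) (Net.cons (nat_lit 32) (nat_lit 0xb000000005def86e0) (Net.cons (nat_lit 16) (nat_lit 0xab65000051d70000a090) (Net.cons (nat_lit 8) (nat_lit 0xb10084000200b9003d00c0) (Net.cons (nat_lit 4) (nat_lit 0xc0100090b010a0209060500) (Net.cons (nat_lit 2) (nat_lit 0x1031101233302101002312100) (Net.cons (nat_lit 1) (nat_lit 0x4415105100540551104015100)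 Net.nil)))))))))))))

theorem g30_ok : Net.ok 100 g30 = true := by decide +kernel

noncomputable def g31 : Net := (Net.cons (nat_lit 1) (nat_lit 0x1155544445004051004101040) (Net.cons (nat_lit 2) (nat_lit 0x2231211030120130022200200) (Net.cons (nat_lit 4) (nat_lit 0xa0b08090906030a02000205) (Net.cons (nat_lit 8) (nat_lit 0x7600990002005800320000) (Net.cons (nat_lit 16) (nat_lit 0x2cc0000084c800000002) (Net.cons (nat_lit 32) (nat_lit 0x50000000004fa3810) (Net.cons (nat_lit 64) (nat_lit 0xa7ffa3b37) (Net.cons (nat_lit 32) (nat_lit 0x7000000005cbea492) (Net.cons (nat_lit 16) (nat_lit 0xf3c10000df8800003b22) (Net.cons (nat_lit 8) (nat_lit 0x7600f900c20018005200a0) (Net.cons (nat_lit 4) (nat_lit 0xa0f0c090906070a02080205) (Net.cons (nat_lit 2) (nat_lit 0x3231211030120130022200210) (Net.cons (nat_lit 1) (nat_lit 0x1155544445004051004101040) Net.nil)))))))))))))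

theorem g31_ok : Net.ok 100 g31 = true := by decide +kernel

noncomputable def g32 : Net := (Net.cons (nat_lit 1) (nat_lit 0x4010054140400110405150100) (Net.cons (nat_lit 2) (nat_lit 0x3003102113100111203013000) (Net.cons (nat_lit 4) (nat_lit 0x30f0f0e00020e06050b0008) (Net.cons (nat_lit 8) (nat_lit 0xb1009b008200e600ea0000) (Net.cons (nat_lit 16) (nat_lit 0x49060000c00400000000) (Net.cons (nat_lit 32) (nat_lit 0x8000000003100c480) (Net.cons (nat_lit 64) (nat_lit 0x6bb0fee98) (Net.cons (nat_lit 32) (nat_lit 0x8000000005c1561a0) (Net.cons (nat_lit 16) (nat_lit 0x68670000e6440000bc40) (Net.cons (nat_lit 8) (nat_lit 0xb8009e000b00fa00e70000) (Net.cons (nat_lit 4) (nat_lit 0x3070f06080a0e0605030808) (Net.cons (nat_lit 2) (nat_lit 0x3003102113100111203013000) (Net.cons (nat_lit 1) (nat_lit 0x4010054140400110405150100) Net.nil)))))))))))))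

theorem g32_ok : Net.ok 100 g32 = true := by decide +kernel

noncomputable def g33 : Net := (Net.cons (nat_lit 1) (nat_lit 0x4101445400145004055500000) (Net.cons (nat_lit 2) (nat_lit 0x2302211133011233002030000) (Net.cons (nat_lit 4) (nat_lit 0x50c010e0308000c040400) (Net.cons (nat_lit 8) (nat_lit 0xc300a8009c001400a50003) (Net.cons (nat_lit 16) (nat_lit 0x50090000691000000004) (Net.cons (nat_lit 32) (nat_lit 0xa0000000054450980) (Net.cons (nat_lit 64) (nat_lit 0xc554509e6) (Net.cons (nat_lit 32) (nat_lit 0xf000000005ced7d94) (Net.cons (nat_lit 16) (nat_lit 0xd20d0000e91400008005) (Net.cons (nat_lit 8) (nat_lit 0xf300a8009e003600e50003) (Net.cons (nat_lit 4) (nat_lit 0x8050c010e030b020c060400) (Net.cons (nat_lit 2) (nat_lit 0x2302211133011233002030000) (Net.cons (nat_lit 1) (nat_lit 0x4101445400145004055500000) Net.nil)))))))))))))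

theorem g33_ok : Net.ok 100 g33 = true := by decide +kernel

noncomputable def V34 : List Net := [g30, g31, g32, g33]

theorem V34_ok : okE 100 V34 = true := (okE_cons.2 ⟨g30_ok, (okE_cons.2 ⟨g31_ok, (okE_cons.2 ⟨g32_ok, (okE_cons.2 ⟨g33_ok, (okE_nil 100)⟩)⟩)⟩)⟩)

noncomputable def g36 : Net := (Net.cons (nat_lit 1) (nat_lit 0x544414005540004114040000) (Net.cons (nat_lit 2) (nat_lit 0x1112022300002321000110000) (Net.cons (nat_lit 4) (nat_lit 0x304080406080d0000030408) (Net.cons (nat_lit 8) (nat_lit 0xde00710083005400000001) (Net.cons (nat_lit 16) (nat_lit 0xc099000081880000000a) (Net.cons (nat_lit 32) (nat_lit 0x700000000c20342a0) (Net.cons (nat_lit 64) (nat_lit 0x4cbcbcab3) (Net.cons (nat_lit 32) (nat_lit 0xf000000006b32b6e8) (Net.cons (nat_lit 16) (nat_lit 0x1f98000062890000aa0a) (Net.cons (nat_lit 8) (nat_lit 0xdf00700082005500050001) (Net.cons (nat_lit 4) (nat_lit 0x304080406080d0800030408) (Net.cons (nat_lit 2) (nat_lit 0x1312022303002321000110000) (Net.cons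 (nat_lit 1) (nat_lit 0x544014005140004114040400) Net.nil)))))))))))))

theorem g36_ok : Net.ok 100 g36 = true := by decide +kernel

noncomputable def g37 : Net := (Net.cons (nat_lit 1) (nat_lit 0x5100410140440444101440000) (Net.cons (nat_lit 2) (nat_lit 0x1332221000010330330300100) (Net.cons (nat_lit 4) (nat_lit 0xe0f06010709020005000200) (Net.cons (nat_lit 8) (nat_lit 0x1d0040004000fe003b0000) (Net.cons (nat_lit 16) (nat_lit 0x3b090000922000000000) (Net.cons (nat_lit 32) (nat_lit 0x2384c180) (Net.cons (nat_lit 64) (nat_lit 0x6bc4f9c0) (Net.cons (nat_lit 32) (nat_lit 0xf000000006fa35680) (Net.cons (nat_lit 16) (nat_lit 0x32390000975a00000c90) (Net.cons (nat_lit 8) (nat_lit 0x5f0040004000fe007b0000) (Net.cons (nat_lit 4) (nat_lit 0xa0e0e01040f000007060b00) (Net.cons (nat_lit 2) (nat_lit 0x1332223002210332330302100) (Net.cons (nat_lit 1) (nat_lit 0x5100410140440444101440000) Net.nil)))))))))))))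

theorem g37_ok : Net.ok 100 g37 = true := by decide +kernel

noncomputable def V38 : List Net := [g36, g37]

theorem V38_ok : okE 100 V38 = true := (okE_cons.2 ⟨g36_ok, (okE_cons.2 ⟨g37_ok, (okE_nil 100)⟩)⟩)

noncomputable def V40 : List Net := [g37, g37]

theorem V40_ok : okE 100 V40 = true := (okE_cons.2 ⟨g37_ok, (okE_cons.2 ⟨g37_ok, (okE_nil 100)⟩)⟩)

noncomputable def lY_E : List Net := [g5, g6, g7, g8, g11, g12, g15, g16, g17, g20, g21, g22, g25, g26, g27, g30, g31, g32, g33, g36, g37, g37, g37]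

theorem lY_E_ok : okE 100 lY_E = true := (okE_cons.2 ⟨g5_ok, (okE_cons.2 ⟨g6_ok, (okE_cons.2 ⟨g7_ok, (okE_cons.2 ⟨g8_ok, (okE_cons.2 ⟨g11_ok, (okE_cons.2 ⟨g12_ok, (okE_cons.2 ⟨g15_ok, (okE_cons.2 ⟨g16_ok, (okE_cons.2 ⟨g17_ok, (okE_cons.2 ⟨g20_ok, (okE_cons.2 ⟨g21_ok, (okE_cons.2 ⟨g22_ok, (okE_cons.2 ⟨g25_ok, (okE_cons.2 ⟨g26_ok, (okE_cons.2 ⟨g27_ok, (okE_cons.2 ⟨g30_ok, (okE_cons.2 ⟨g31_ok, (okE_cons.2 ⟨g32_ok, (okE_cons.2 ⟨g33_ok, (okE_cons.2 ⟨g36_ok, (okE_cons.2 ⟨g37_ok, (okE_cons.2 ⟨g37_ok, (okE_cons.2 ⟨g37_ok, (okE_nil 100)⟩)⟩)⟩)⟩)⟩)⟩)⟩)⟩)⟩)⟩)⟩)⟩)⟩)⟩)⟩)⟩)⟩)⟩)⟩)⟩)⟩)⟩)⟩)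

noncomputable def a : Net := (Net.cons (nat_lit 1) (nat_lit 0x1140411054150001015101150) (Net.cons (nat_lit 2) (nat_lit 0x1012231212122103201301300) (Net.cons (nat_lit 4) (nat_lit 0x202060c0d050f0701060107) (Net.cons (nat_lit 8) (nat_lit 0x1200b50086009c00800002) (Net.cons (nat_lit 16) (nat_lit 0x83720000c23100000000) (Net.cons (nat_lit 32) (nat_lit 0x7000000000810e280) (Net.cons (nat_lit 64) (nat_lit 0x11bdfeaee) (Net.cons (nat_lit 32) (nat_lit 0xc000000009a569832) (Net.cons (nat_lit 16) (nat_lit 0x823500007c990000dba0) (Net.cons (nat_lit 8) (nat_lit 0xd0005a0087000b00d7006a) (Net.cons (nat_lit 4) (nat_lit 0x200010c0d0409030d050f0f) (Net.cons (nat_lit 2) (nat_lit 0x1122331213002130223032100) (Net.cons (nat_lit 1) (nat_lit 0x1154150141044004005550540) Net.nil)))))))))))))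

theorem a_ok : Net.ok 100 a = true := by decide +kernel

theorem R_le : grp 100 R ≤ grp 100 HSM.lb_E :=
  grp_le_of_memB hn hk HSM.lb_E_ok R_ok (ws := [nat_lit 0xd0f0a12060606010309, nat_lit 0x13100a0b0e05070a010406, nat_lit 0x130d10050b0a, nat_lit 0x13120f0909]) (by decide +kernel)

theorem R_dvd : 2 ^ 9 ∣ Nat.card (grp 100 R) :=
  Ch.dvd_card_grp (k := 7) hn R_ok (c := (Ch.cons (nat_lit 0) [nat_lit 1, nat_lit 3] (Ch.cons (nat_lit 4) [nat_lit 5, nat_lit 7] Ch.nil))) (by decide +kernel)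

theorem Y_le : grp 100 Y ≤ grp 100 HSM.lb_E :=
  grp_le_of_memB hn hk HSM.lb_E_ok Y_ok (ws := [nat_lit 0xf0c0c05050a0801060a, nat_lit 0x140d1008060101]) (by decide +kernel)

theorem le10 : grp 100 V9 ≤ grp 100 Y :=
  grp_le_of_memB hn hk Y_ok V9_ok (ws := [nat_lit 0x20203030101, nat_lit 0x3020203020303020402]) (by decide +kernel)

theorem le14 : grp 100 V13 ≤ grp 100 V9 :=
  grp_le_of_memB hn hk V9_ok V13_ok (ws := [nat_lit 0x3010301010302040204, nat_lit 0x101040101010402020303]) (by decide +kernel)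

theorem le19 : grp 100 V18 ≤ grp 100 V13 :=
  grp_le_of_memB hn hk V13_ok V18_ok (ws := [nat_lit 0x302040404010302020402, nat_lit 0x30103020302030203010402, nat_lit 0x30204040203010103020202]) (by decide +kernel)

theorem le24 : grp 100 V23 ≤ grp 100 V18 :=
  grp_le_of_memB hn hk V18_ok V23_ok (ws := [nat_lit 0x406040101030501, nat_lit 0x20205020404, nat_lit 0x4050502060301010302]) (by decide +kernel)

theorem le29 : grp 100 V28 ≤ grp 100 V23 :=
  grp_le_of_memB hn hk V23_ok V28_ok (ws := [nat_lit 0x504050103030104, nat_lit 0x30106010404, nat_lit 0x60601060604]) (by decide +kernel)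

theorem le35 : grp 100 V34 ≤ grp 100 V28 :=
  grp_le_of_memB hn hk V28_ok V34_ok (ws := [nat_lit 0x5020502020302, nat_lit 0x6020401, nat_lit 0x606060406010104, nat_lit 0x10301040503020404]) (by decide +kernel)

theorem le39 : grp 100 V38 ≤ grp 100 V34 :=
  grp_le_of_memB hn hk V34_ok V38_ok (ws := [nat_lit 0x40206010401, nat_lit 0x3080601]) (by decide +kernel)

theorem le41 : grp 100 V40 ≤ grp 100 V38 :=
  grp_le_of_memB hn hk V38_ok V40_ok (ws := [nat_lit 0x301030302, nat_lit 0x30103020401040402]) (by decide +kernel)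

theorem lY_le : grp 100 lY_E ≤ grp 100 Y :=
  (grp_cons_le ((le_refl (grp 100 Y)) (toPerm_mem_grp (E := Y) (by simp [Y]))) (grp_cons_le ((le_refl (grp 100 Y)) (toPerm_mem_grp (E := Y) (by simp [Y]))) (grp_cons_le ((le10.trans (le_refl (grp 100 Y))) (toPerm_mem_grp (E := V9) (by simp [V9]))) (grp_cons_le ((le10.trans (le_refl (grp 100 Y))) (toPerm_mem_grp (E := V9) (by simp [V9]))) (grp_cons_le ((le14.trans (le10.trans (le_refl (grp 100 Y)))) (toPerm_mem_grp (E := V13) (by simp [V13]))) (grp_cons_le ((le14.trans (le10.trans (le_refl (grp 100 Y)))) (toPerm_mem_grp (E := V13) (by simp [V13]))) (grp_cons_le ((le19.trans (le14.trans (le10.trans (le_refl (grp 100 Y))))) (toPerm_mem_grp (E := V18) (by simp [V18]))) (grp_cons_le ((le19.trans (le14.trans (le10.trans (le_refl (grp 100 Y))))) (toPerm_mem_grp (E := V18) (by simp [V18]))) (grp_cons_le ((le19.trans (le14.trans (le10.trans (le_refl (grp 100 Y))))) (toPerm_mem_grp (E := V18) (by simp [V18]))) (grp_cons_le ((le24.trans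 (le19.trans (le14.trans (le10.trans (le_refl (grp 100 Y)))))) (toPerm_mem_grp (E := V23) (by simp [V23]))) (grp_cons_le ((le24.trans (le19.trans (le14.trans (le10.trans (le_refl (grp 100 Y)))))) (toPerm_mem_grp (E := V23) (by simp [V23]))) (grp_cons_le ((le24.trans (le19.trans (le14.trans (le10.trans (le_refl (grp 100 Y)))))) (toPerm_mem_grp (E := V23) (by simp [V23]))) (grp_cons_le ((le29.trans (le24.trans (le19.trans (le14.trans (le10.trans (le_refl (grp 100 Y))))))) (toPerm_mem_grp (E := V28) (by simp [V28]))) (grp_cons_le ((le29.trans (le24.trans (le19.trans (le14.trans (le10.trans (le_refl (grp 100 Y))))))) (toPerm_mem_grp (E := V28) (by simp [V28]))) (grp_cons_le ((le29.trans (le24.trans (le19.trans (le14.trans (le10.trans (le_refl (grp 100 Y))))))) (toPerm_mem_grp (E := V28) (by simp [V28]))) (grp_cons_le ((le35.trans (le29.trans (le24.trans (le19.trans (le14.trans (le10.trans (le_refl (grp 100 Y)))))))) (toPerm_mem_grp (E := V34) (by simp [V34]))) (grp_cons_le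 ((le35.trans (le29.trans (le24.trans (le19.trans (le14.trans (le10.trans (le_refl (grp 100 Y)))))))) (toPerm_mem_grp (E := V34) (by simp [V34]))) (grp_cons_le ((le35.trans (le29.trans (le24.trans (le19.trans (le14.trans (le10.trans (le_refl (grp 100 Y)))))))) (toPerm_mem_grp (E := V34) (by simp [V34]))) (grp_cons_le ((le35.trans (le29.trans (le24.trans (le19.trans (le14.trans (le10.trans (le_refl (grp 100 Y)))))))) (toPerm_mem_grp (E := V34) (by simp [V34]))) (grp_cons_le ((le39.trans (le35.trans (le29.trans (le24.trans (le19.trans (le14.trans (le10.trans (le_refl (grp 100 Y))))))))) (toPerm_mem_grp (E := V38) (by simp [V38]))) (grp_cons_le ((le39.trans (le35.trans (le29.trans (le24.trans (le19.trans (le14.trans (le10.trans (le_refl (grp 100 Y))))))))) (toPerm_mem_grp (E := V38) (by simp [V38]))) (grp_cons_le ((le41.trans (le39.trans (le35.trans (le29.trans (le24.trans (le19.trans (le14.trans (le10.trans (le_refl (grp 100 Y)))))))))) (toPerm_mem_grp (E := V40)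 (by simp [V40]))) (grp_cons_le ((le41.trans (le39.trans (le35.trans (le29.trans (le24.trans (le19.trans (le14.trans (le10.trans (le_refl (grp 100 Y)))))))))) (toPerm_mem_grp (E := V40) (by simp [V40]))) (grp_nil_le _))))))))))))))))))))))))

noncomputable def lY_ch : Ch := (Ch.cons (nat_lit 0) [nat_lit 1, nat_lit 3] (Ch.cons (nat_lit 1) [nat_lit 5, nat_lit 7] (Ch.cons (nat_lit 2) [nat_lit 9, nat_lit 11] (Ch.cons (nat_lit 3) [nat_lit 13, nat_lit 15, nat_lit 17] (Ch.cons (nat_lit 29) [nat_lit 19, nat_lit 21, nat_lit 23] (Ch.cons (nat_lit 32) [nat_lit 25, nat_lit 27, nat_lit 29] (Ch.cons (nat_lit 5) [nat_lit 31, nat_lit 33, nat_lit 35, nat_lit 37] (Ch.cons (nat_lit 14) [nat_lit 39, nat_lit 41] (Ch.cons (nat_lit 4) [nat_lit 43, nat_lit 45] Ch.nil)))))))))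

theorem lY_chk : Ch.chk 100 7 (lab 100 7) lY_E lY_ch 44352000 = true :=
  by decide +kernel

theorem lY_ge : 44352000 ≤ Nat.card (grp 100 Y) :=
  (Ch.le_card_grp hn lY_E_ok lY_chk).trans (Subgroup.card_le_of_le lY_le)

noncomputable def T1 : ℕ := (nat_lit 0x6668400010262800a20140080)

noncomputable def T2 : ℕ := (nat_lit 0x2000000000002800000000080)

theorem a_norm : Net.toPerm 100 a ∈ Subgroup.normalizer (grp 100 HSM.E : Set (Equiv.Perm (Fin 100))) :=
  mem_normalizer_grp fun o ho => HSM.lb_le (conj_mem_of_normB hn hk HSM.lb_E_ok HSM.E_ok a_ok (ws := [nat_lit 0x140d0c050d08020504, nat_lit 0x120f090910050b07010d04]) (by decide +kernel) o ho)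

theorem a_dvd : 2 ^ (9 + 1) ∣ Nat.card (grp 100 (a :: R)) :=
  Ch.dvd_card_grp (k := 7) hn (okE_cons.2 ⟨a_ok, R_ok⟩) (c := (Ch.cons (nat_lit 0) [nat_lit 2054] (Ch.cons (nat_lit 8) [nat_lit 1799, nat_lit 0x5030601, nat_lit 2057, nat_lit 9] Ch.nil))) (by decide +kernel)

noncomputable def K : List Net := [HSM.g3, HSM.g4, HSM.g7, HSM.g8, HSM.g11, HSM.g12, HSM.g13, HSM.g16, HSM.g16]

theorem K_ok : okE 100 K = true :=
  (okE_cons.2 ⟨HSM.g3_ok, (okE_cons.2 ⟨HSM.g4_ok, (okE_cons.2 ⟨HSM.g7_ok, (okE_cons.2 ⟨HSM.g8_ok, (okE_cons.2 ⟨HSM.g11_ok, (okE_cons.2 ⟨HSM.g12_ok, (okE_cons.2 ⟨HSM.g13_ok, (okE_cons.2 ⟨HSM.g16_ok, (okE_cons.2 ⟨HSM.g16_ok, (okE_nil 100)⟩)⟩)⟩)⟩)⟩)⟩)⟩)⟩)⟩)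

theorem one : OneFix (grp 100 HSM.E) (⟨0, by decide⟩ : Fin 100) :=
  oneFix_of_fixAll hn hk HSM.E_ok K_ok ((grp_mono (by simp [K, HSM.lb_E])).trans HSM.lb_le) (by decide) (by decide +kernel)

theorem good : H57.MPS.Good (grp 100 HSM.E) :=
  good_perm (k := 9) (m := 86625) (T₁ := T1) (T₂ := T2) HSM.E_ok R_ok Y_ok (HSM.card_grp.trans (by norm_num)) (by decide) (by decide)
    (R_le.trans HSM.lb_le) (Y_le.trans HSM.lb_le) R_dvd (le_of_eq_of_le (by norm_num) lY_ge) (by decide +kernel)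
    (.inr ⟨((H42.card_Out_congr HSM.equiv).symm.trans HSO.card_out), ⟨_, one⟩, a, a_ok, a_norm, by decide +kernel, a_dvd⟩)

end Cfsg.Agent.H43.MpHS
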