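import Mathlib
import Cfsg.Agent.H43.Cent
import Cfsg.Agent.H43.Leech

set_option autoImplicit false
set_option maxRecDepth 200000
set_option linter.style.longLine false

namespace Cfsg.Agent.H43.HSM

open Cfsg Cfsg.Agent.H43 Pointwise

theorem hn : NOk 100 := by decide

theorem hk : 100 ≤ 2 ^ 7 := by decide

noncomputable def g1 : Net := (Net.cons (nat_lit 1) (nat_lit 0x1545441154111444504415014) (Net.cons (nat_lit 2) (nat_lit 0x3322321131311220001313100) (Net.cons (nat_lit 4) (nat_lit 0x40f080b040b050a080400) (Net.cons (nat_lit 8) (nat_lit 0x3c00a80050006400910002) (Net.cons (nat_lit 16) (nat_lit 0xa0300000544e00000005) (Net.cons (nat_lit 32) (nat_lit 0x80000000080917310) (Net.cons (nat_lit 64) (nat_lit 0x681f97f9f) (Net.cons (nat_lit 32) (nat_lit 0xf000000005ae6d51f) (Net.cons (nat_lit 16) (nat_lit 0x6205000054410000ce9c) (Net.cons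 (nat_lit 8) (nat_lit 0xe60050001400bb00810063) (Net.cons (nat_lit 4) (nat_lit 0xc0b070e01060c060e0c0207) (Net.cons (nat_lit 2) (nat_lit 0x3003133312131013122202302) (Net.cons (nat_lit 1) (nat_lit 0x1505455040050411145401405) Net.nil)))))))))))))

theorem g1_ok : Net.ok 100 g1 = true := by decide +kernel

noncomputable def g2 : Net := (Net.cons (nat_lit 1) (nat_lit 0x1500500404045141404015454) (Net.cons (nat_lit 2) (nat_lit 0x2230310102332321020210) (Net.cons (nat_lit 4) (nat_lit 0xb0600000f0e00010c0d020e) (Net.cons (nat_lit 8) (nat_lit 0x20009009a003400550000) (Net.cons (nat_lit 16) (nat_lit 0x3b800000d08000000004) (Net.cons (nat_lit 32) (nat_lit 0x100000000baa50360) (Net.cons (nat_lit 64) (nat_lit 0xfbee5fb7a) (Net.cons (nat_lit 32) (nat_lit 0x3000000003736497c) (Net.cons (nat_lit 16) (nat_lit 0x66bc000058f300009be4) (Net.cons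 (nat_lit 8) (nat_lit 0x5c006a001800f50013002d) (Net.cons (nat_lit 4) (nat_lit 0x9070d030306040b060a0606) (Net.cons (nat_lit 2) (nat_lit 0x2233122000103003310220303) (Net.cons (nat_lit 1) (nat_lit 0x4400050555104444510550150) Net.nil)))))))))))))

theorem g2_ok : Net.ok 100 g2 = true := by decide +kernel

noncomputable def E : List Net := [g1, g2]

theorem E_ok : okE 100 E = true := (okE_cons.2 ⟨g1_ok, (okE_cons.2 ⟨g2_ok, (okE_nil 100)⟩)⟩)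

noncomputable def g3 : Net := (Net.cons (nat_lit 1) (nat_lit 0x1051044000445515501144410) (Net.cons (nat_lit 2) (nat_lit 0x2022223011120213022330020) (Net.cons (nat_lit 4) (nat_lit 0x4000800040b0b05060d000c) (Net.cons (nat_lit 8) (nat_lit 0xcd008500e40045002b0001) (Net.cons (nat_lit 16) (nat_lit 0x270b00000a2c00000002) (Net.cons (nat_lit 32) (nat_lit 0x200000000c8123310) (Net.cons (nat_lit 64) (nat_lit 0x5ddf23f97) (Net.cons (nat_lit 32) (nat_lit 0xa00000000aa72a78e) (Net.cons (nat_lit 16) (nat_lit 0xa4d00000483d00006c45) (Net.cons (nat_lit 8) (nat_lit 0x4b008300e800f0000c0021) (Net.cons (nat_lit 4) (nat_lit 0x1060b000d0b0a010d000c0a) (Net.cons (nat_lit 2) (nat_lit 0x2300321232313031220033210) (Net.cons (nat_lit 1) (nat_lit 0x1104410405055515544401114) Net.nil)))))))))))))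

theorem g3_ok : Net.ok 100 g3 = true := by decide +kernel

noncomputable def g4 : Net := (Net.cons (nat_lit 1) (nat_lit 0x1044441115111141541001554) (Net.cons (nat_lit 2) (nat_lit 0x2201122130113313023021200) (Net.cons (nat_lit 4) (nat_lit 0x604020c02050a0d040e0909) (Net.cons (nat_lit 8) (nat_lit 0x9300000032003800680001) (Net.cons (nat_lit 16) (nat_lit 0x91650000d6050000000a) (Net.cons (nat_lit 32) (nat_lit 0xc0000000024259300) (Net.cons (nat_lit 64) (nat_lit 0x1aef5d3ee) (Net.cons (nat_lit 32) (nat_lit 0x200000000af976c67) (Net.cons (nat_lit 16) (nat_lit 0x5b2e0000bdbc000058a6) (Net.cons (nat_lit 8) (nat_lit 0x85002800a0005a007f0065) (Net.cons (nat_lit 4) (nat_lit 0x90c0807020a0f0703090c03) (Net.cons (nat_lit 2) (nat_lit 0x3122133033311132033222202) (Net.cons (nat_lit 1) (nat_lit 0x4444045505551015504110554) Net.nil)))))))))))))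

theorem g4_ok : Net.ok 100 g4 = true := by decide +kernel

noncomputable def V5 : List Net := [g3, g4]

theorem V5_ok : okE 100 V5 = true := (okE_cons.2 ⟨g3_ok, (okE_cons.2 ⟨g4_ok, (okE_nil 100)⟩)⟩)

noncomputable def g7 : Net := (Net.cons (nat_lit 1) (nat_lit 0x4544540410415404451440440) (Net.cons (nat_lit 2) (nat_lit 0x2111202111323010112031000) (Net.cons (nat_lit 4) (nat_lit 0xf050b0805040a09020a0c02) (Net.cons (nat_lit 8) (nat_lit 0xa300c10003000c001d0008) (Net.cons (nat_lit 16) (nat_lit 0x3e6000078da00000000) (Net.cons (nat_lit 32) (nat_lit 0x400000000e7e81900) (Net.cons (nat_lit 64) (nat_lit 0xf7ec9d5c) (Net.cons (nat_lit 32) (nat_lit 0xf000000001b2f8c58) (Net.cons (nat_lit 16) (nat_lit 0x5ca2000035790000e040) (Net.cons (nat_lit 8) (nat_lit 0xa800da00300033002d00ce) (Net.cons (nat_lit 4) (nat_lit 0xd0800060a01010b06050906)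 (Net.cons (nat_lit 2) (nat_lit 0x3111230122102213202333200) (Net.cons (nat_lit 1) (nat_lit 0x4150414111501054454405510) Net.nil)))))))))))))

theorem g7_ok : Net.ok 100 g7 = true := by decide +kernel

noncomputable def g8 : Net := (Net.cons (nat_lit 1) (nat_lit 0x441144101154550005554404) (Net.cons (nat_lit 2) (nat_lit 0x3012303000122330112003220) (Net.cons (nat_lit 4) (nat_lit 0xd080104030d060e080d0900) (Net.cons (nat_lit 8) (nat_lit 0x890063004a007300430004) (Net.cons (nat_lit 16) (nat_lit 0xad870000a34000000008) (Net.cons (nat_lit 32) (nat_lit 0x800000000821d0500) (Net.cons (nat_lit 64) (nat_lit 0x3ffbf5d9e) (Net.cons (nat_lit 32) (nat_lit 0xf00000000f398ce7e) (Net.cons (nat_lit 16) (nat_lit 0x1194000080e30000a13a) (Net.cons (nat_lit 8) (nat_lit 0x1500ea00c8005d001100c6) (Net.cons (nat_lit 4) (nat_lit 0x401090e070e020e0c0900)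 (Net.cons (nat_lit 2) (nat_lit 0x111321012132312223101122) (Net.cons (nat_lit 1) (nat_lit 0x5141015004041454404051104) Net.nil)))))))))))))

theorem g8_ok : Net.ok 100 g8 = true := by decide +kernel

noncomputable def V9 : List Net := [g7, g8]

theorem V9_ok : okE 100 V9 = true := (okE_cons.2 ⟨g7_ok, (okE_cons.2 ⟨g8_ok, (okE_nil 100)⟩)⟩)

noncomputable def g11 : Net := (Net.cons (nat_lit 1) (nat_lit 0x5515414550011114041054504) (Net.cons (nat_lit 2) (nat_lit 0x2302102312300311002330200) (Net.cons (nat_lit 4) (nat_lit 0xb0908020309080c0a000400) (Net.cons (nat_lit 8) (nat_lit 0x1800e1009900da0010000c) (Net.cons (nat_lit 16) (nat_lit 0x40710000042500000000) (Net.cons (nat_lit 32) (nat_lit 0xaa5936e0) (Net.cons (nat_lit 64) (nat_lit 0xeff5937ea) (Net.cons (nat_lit 32) (nat_lit 0xd0000000095ed2e2e) (Net.cons (nat_lit 16) (nat_lit 0x202b0000faf400006120)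 (Net.cons (nat_lit 8) (nat_lit 0x6f00fa005d0061009e0026) (Net.cons (nat_lit 4) (nat_lit 0x40404030804010f0d030302) (Net.cons (nat_lit 2) (nat_lit 0x3101201312001301212311200) (Net.cons (nat_lit 1) (nat_lit 0x4411414514005111500404404) Net.nil)))))))))))))

theorem g11_ok : Net.ok 100 g11 = true := by decide +kernel

noncomputable def g12 : Net := (Net.cons (nat_lit 1) (nat_lit 0x5155500541444154141110050) (Net.cons (nat_lit 2) (nat_lit 0x3211122021221222101101100) (Net.cons (nat_lit 4) (nat_lit 0xc0b05050b000b060d0b0001) (Net.cons (nat_lit 8) (nat_lit 0x7c001800b400e700430002) (Net.cons (nat_lit 16) (nat_lit 0xc1450000895f00000005) (Net.cons (nat_lit 32) (nat_lit 0x200000000785c8100) (Net.cons (nat_lit 64) (nat_lit 0xe7edfe7c0) (Net.cons (nat_lit 32) (nat_lit 0x100000000590e1dc5) (Net.cons (nat_lit 16) (nat_lit 0x225d0000f41e00007e05)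 (Net.cons (nat_lit 8) (nat_lit 0x24004e00d1002e00740003) (Net.cons (nat_lit 4) (nat_lit 0x4030d0005000b0408070701) (Net.cons (nat_lit 2) (nat_lit 0x3212202033131202021300100) (Net.cons (nat_lit 1) (nat_lit 0x1111450141405015505004550) Net.nil)))))))))))))

theorem g12_ok : Net.ok 100 g12 = true := by decide +kernel

noncomputable def g13 : Net := (Net.cons (nat_lit 1) (nat_lit 0x1014450100141501510110400) (Net.cons (nat_lit 2) (nat_lit 0x1213132221120132301102020) (Net.cons (nat_lit 4) (nat_lit 0xe050a0506010805080d0008) (Net.cons (nat_lit 8) (nat_lit 0xa20005002600400051000c) (Net.cons (nat_lit 16) (nat_lit 0x2a220000641300000006) (Net.cons (nat_lit 32) (nat_lit 0x20000000094040310) (Net.cons (nat_lit 64) (nat_lit 0xd947fbf32) (Net.cons (nat_lit 32) (nat_lit 0xb00000000163df55e) (Net.cons (nat_lit 16) (nat_lit 0x98b400007e3700009048)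 (Net.cons (nat_lit 8) (nat_lit 0xc2001600dd004f007c0006) (Net.cons (nat_lit 4) (nat_lit 0x80e0b000a0904070b05090a) (Net.cons (nat_lit 2) (nat_lit 0x2012123333003013110112120) (Net.cons (nat_lit 1) (nat_lit 0x1111415510414505114145100) Net.nil)))))))))))))

theorem g13_ok : Net.ok 100 g13 = true := by decide +kernel

noncomputable def V14 : List Net := [g11, g12, g13]

theorem V14_ok : okE 100 V14 = true := (okE_cons.2 ⟨g11_ok, (okE_cons.2 ⟨g12_ok, (okE_cons.2 ⟨g13_ok, (okE_nil 100)⟩)⟩)⟩)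

noncomputable def g16 : Net := (Net.cons (nat_lit 1) (nat_lit 0x4454104511551504041010410) (Net.cons (nat_lit 2) (nat_lit 0x1320112031133133302111100) (Net.cons (nat_lit 4) (nat_lit 0x20109030e0b03050b0d0300) (Net.cons (nat_lit 8) (nat_lit 0x400b300a300cc00630003) (Net.cons (nat_lit 16) (nat_lit 0xc9c80000130900000000) (Net.cons (nat_lit 32) (nat_lit 0x6000000000e93b050) (Net.cons (nat_lit 64) (nat_lit 0x55fbff453) (Net.cons (nat_lit 32) (nat_lit 0xe00000000058fe4d5) (Net.cons (nat_lit 16) (nat_lit 0x3f9500002b0500007c13) (Net.cons (nat_lit 8) (nat_lit 0x100ca00eb00a7000d0093) (Net.cons (nat_lit 4) (nat_lit 0xe0d0f0e030505060f0100) (Net.cons (nat_lit 2) (nat_lit 0x1232310103122100221100000) (Net.cons (nat_lit 1) (nat_lit 0x415054110551410445410410) Net.nil)))))))))))))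

theorem g16_ok : Net.ok 100 g16 = true := by decide +kernel

noncomputable def V17 : List Net := [g16, g16]

theorem V17_ok : okE 100 V17 = true := (okE_cons.2 ⟨g16_ok, (okE_cons.2 ⟨g16_ok, (okE_nil 100)⟩)⟩)

noncomputable def lb_E : List Net := [g1, g2, g3, g4, g7, g8, g11, g12, g13, g16, g16]

theorem lb_E_ok : okE 100 lb_E = true := (okE_cons.2 ⟨g1_ok, (okE_cons.2 ⟨g2_ok, (okE_cons.2 ⟨g3_ok, (okE_cons.2 ⟨g4_ok, (okE_cons.2 ⟨g7_ok, (okE_cons.2 ⟨g8_ok, (okE_cons.2 ⟨g11_ok, (okE_cons.2 ⟨g12_ok, (okE_cons.2 ⟨g13_ok, (okE_cons.2 ⟨g16_ok, (okE_cons.2 ⟨g16_ok, (okE_nil 100)⟩)⟩)⟩)⟩)⟩)⟩)⟩)⟩)⟩)⟩)⟩)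

theorem le6 : grp 100 V5 ≤ grp 100 E :=
  grp_le_of_memB hn hk E_ok V5_ok (ws := [nat_lit 0x302020301030204, nat_lit 0x3010404010402020302040202]) (by decide +kernel)

theorem le10 : grp 100 V9 ≤ grp 100 V5 :=
  grp_le_of_memB hn hk V5_ok V9_ok (ws := [nat_lit 0x104020402030103030301, nat_lit 0x1040404040103020301]) (by decide +kernel)

theorem le15 : grp 100 V14 ≤ grp 100 V9 :=
  grp_le_of_memB hn hk V9_ok V14_ok (ws := [nat_lit 0x30202040202, nat_lit 0x30302040103010303, nat_lit 0x203020404]) (by decide +kernel)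

theorem le18 : grp 100 V17 ≤ grp 100 V14 :=
  grp_le_of_memB hn hk V14_ok V17_ok (ws := [nat_lit 0x40105050105, nat_lit 0x3060401040404060603]) (by decide +kernel)

theorem lb_le : grp 100 lb_E ≤ grp 100 E :=
  (grp_cons_le ((le_refl (grp 100 E)) (toPerm_mem_grp (E := E) (by simp [E]))) (grp_cons_le ((le_refl (grp 100 E)) (toPerm_mem_grp (E := E) (by simp [E]))) (grp_cons_le ((le6.trans (le_refl (grp 100 E))) (toPerm_mem_grp (E := V5) (by simp [V5]))) (grp_cons_le ((le6.trans (le_refl (grp 100 E))) (toPerm_mem_grp (E := V5) (by simp [V5]))) (grp_cons_le ((le10.trans (le6.trans (le_refl (grp 100 E)))) (toPerm_mem_grp (E := V9) (by simp [V9]))) (grp_cons_le ((le10.trans (le6.trans (le_refl (grp 100 E)))) (toPerm_mem_grp (E := V9) (by simp [V9]))) (grp_cons_le ((le15.trans (le10.trans (le6.trans (le_refl (grp 100 E))))) (toPerm_mem_grp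 (E := V14) (by simp [V14]))) (grp_cons_le ((le15.trans (le10.trans (le6.trans (le_refl (grp 100 E))))) (toPerm_mem_grp (E := V14) (by simp [V14]))) (grp_cons_le ((le15.trans (le10.trans (le6.trans (le_refl (grp 100 E))))) (toPerm_mem_grp (E := V14) (by simp [V14]))) (grp_cons_le ((le18.trans (le15.trans (le10.trans (le6.trans (le_refl (grp 100 E)))))) (toPerm_mem_grp (E := V17) (by simp [V17]))) (grp_cons_le ((le18.trans (le15.trans (le10.trans (le6.trans (le_refl (grp 100 E)))))) (toPerm_mem_grp (E := V17) (by simp [V17]))) (grp_nil_le _))))))))))))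

noncomputable def lb_ch : Ch := (Ch.cons (nat_lit 0) [nat_lit 1, nat_lit 3] (Ch.cons (nat_lit 3) [nat_lit 5, nat_lit 7] (Ch.cons (nat_lit 4) [nat_lit 9, nat_lit 11] (Ch.cons (nat_lit 6) [nat_lit 13, nat_lit 15, nat_lit 17] (Ch.cons (nat_lit 2) [nat_lit 19, nat_lit 21] Ch.nil)))))

theorem lb_chk : Ch.chk 100 7 (lab 100 7) lb_E lb_ch 44352000 = true :=
  by decide +kernel

theorem lb_ge : 44352000 ≤ Nat.card (grp 100 E) :=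
  (Ch.le_card_grp hn lb_E_ok lb_chk).trans (Subgroup.card_le_of_le lb_le)

noncomputable def W : List (List ℤ) := [[0, 0, 0, 0, 0, 0, 0, 0, 0, 0, 0, 4, 0, 0, 0, 0, 0, 0, 0, 0, 0, -4, 0, 0],
   [0, 0, 0, 0, 0, 0, 0, -4, 0, 4, 0, 0, 0, 0, 0, 0, 0, 0, 0, 0, 0, 0, 0, 0],
   [0, 0, 0, 0, 0, 0, 0, 4, 0, 0, 0, 4, 0, 0, 0, 0, 0, 0, 0, 0, 0, 0, 0, 0],
   [0, 0, 0, 0, 0, 0, 0, 0, 0, 0, 0, 0, 0, 0, -4, 0, 0, 0, 0, -4, 0, 0, 0, 0],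
   [0, -4, 0, 0, 0, 0, 0, 0, 0, 0, 0, 0, 0, 0, 0, 0, 0, 0, 0, 0, 0, 4, 0, 0],
   [-4, 0, 0, 0, 0, 0, 0, 0, -4, 0, 0, 0, 0, 0, 0, 0, 0, 0, 0, 0, 0, 0, 0, 0],
   [0, -4, 0, -4, 0, 0, 0, 0, 0, 0, 0, 0, 0, 0, 0, 0, 0, 0, 0, 0, 0, 0, 0, 0],
   [-4, 0, 0, 0, 0, 0, 0, 0, 0, 0, 0, 0, 0, 0, 0, -4, 0, 0, 0, 0, 0, 0, 0, 0],
   [0, 0, 0, 0, 0, 4, 0, 0, 0, 0, 0, 0, 4, 0, 0, 0, 0, 0, 0, 0, 0, 0, 0, 0],
   [0, 0, 0, 0, 0, 0, 0, 0, 0, 0, 0, 0, -4, 0, -4, 0, 0, 0, 0, 0, 0, 0, 0, 0],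
   [0, 0, 0, -4, 0, 0, 0, 0, 0, 0, 0, 0, 0, 0, 0, 0, 0, 0, 4, 0, 0, 0, 0, 0],
   [0, 0, 0, 0, 0, 0, 0, 0, 0, 0, 0, 0, 0, 0, 0, 0, 0, 0, 0, 0, 4, 0, 4, 0],
   [0, 0, -2, 0, 2, 0, 0, 0, 0, 0, 0, 2, 0, -2, 0, 0, 0, 0, 2, 2, 0, -2, 0, -2],
   [0, 0, 2, -2, 0, -2, 0, 0, 2, 0, 0, 0, 0, 0, 2, 0, -2, 0, 0, 0, 2, -2, 0, 0],
   [0, 0, 0, 0, 0, 2, 2, 0, 0, 2, 2, 0, -2, -2, 0, 0, 0, 0, 0, 0, -2, 0, 0, -2],
   [0, -2, 0, 0, -2, -2, 0, 0, 2, 0, 0, 0, 0, 0, 0, 0, 2, 0, 0, -2, -2, 0, -2, 0],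
   [2, -2, 0, 0, 0, 2, -2, 0, -2, 0, 0, -2, 0, 0, 0, 0, 0, -2, 0, -2, 0, 0, 0, 0],
   [-2, 0, 2, 0, 0, 0, 2, 0, 2, 0, 0, -2, 0, 2, 0, 0, -2, 0, 0, 0, 0, -2, 0, 0],
   [0, 0, 2, 2, 2, 0, 0, 0, 2, 0, 0, 0, -2, 0, 0, 0, 0, 0, 2, -2, 2, 0, 0, 0],
   [0, 0, 0, 0, 0, -2, 0, 0, 0, 0, 2, -2, 2, 0, 0, 0, 0, 0, 2, 0, 0, -2, 2, -2],
   [0, 0, 2, 0, 0, -2, 0, -2, -2, 0, 0, -2, 0, 0, 0, 0, 0, -2, 0, 0, 0, 2, 0, -2],
   [0, 0, 0, -2, 0, 0, 0, 2, 0, 0, 2, -2, 2, 0, 0, 2, 0, -2, 0, 0, 0, -2, 0, 0],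
   [0, 0, 0, 2, 2, 0, 0, 0, 0, 0, -2, 0, -2, 0, -2, 2, 0, 0, 2, 0, 0, 0, -2, 0],
   [1, 1, -3, -1, 1, 1, 1, -1, -1, -1, 1, 1, 1, 1, 1, 1, 1, -1, -1, 1, -1, -1, 1, 1]]

noncomputable def C : List (List ℤ) := [[1, 1, -1, -1, 7, -1, 3, -7, -1, 5, 3, -1, -7, -3, -5, 3, 1, -3, 11, 1, 3, -3, 5, -7],
   [-7, 1, 1, -5, 1, -1, 3, 3, -5, 1, 5, 5, -3, -1, -1, -1, -1, -5, -1, 1, -1, -7, 1, -3],
   [-4, -4, -2, -4, 4, 6, 2, -2, -4, 6, 2, 0, 2, -4, -2, 4, 0, -2, 4, 2, -2, -4, -2, -4],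
   [1, -3, -1, -13, 3, -1, 1, -1, -1, -1, 5, -3, 5, -1, -1, 3, -1, -5, 7, 3, 5, -7, 7, -5],
   [-7, -1, 3, -7, 1, -5, 1, -1, -1, -1, 3, -3, -3, 1, -1, -1, 1, -5, 5, -3, 1, -3, -1, -1],
   [0, -10, 2, -10, 4, 4, 2, 2, 2, 6, 4, -2, 0, -2, -4, 4, -4, -4, 10, 0, 0, -6, 0, -6],
   [-8, -2, 0, 0, 0, 0, 2, 2, -4, 2, 4, 2, 4, -4, -4, -4, 2, -2, 4, -4, 0, -2, 4, -8],
   [-1, -9, 3, -7, 5, -3, 5, -7, 5, 5, 1, -1, -9, -1, -3, 3, -1, -3, 9, -1, -1, -1, -3, -5],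
   [-4, -8, 6, -4, 4, -6, 0, 4, 0, 0, 2, -4, 0, 0, -4, 4, -2, -6, 8, -8, 2, -8, -2, -6],
   [-5, -7, -1, -1, 1, -3, -1, -5, -7, 3, 3, -3, 3, 1, -5, 1, 3, -7, 3, -7, 1, -3, 3, -3],
   [-8, -6, 0, 2, 4, -2, 2, 2, 0, 2, 4, 2, -2, -4, -6, 0, 2, -2, 8, -6, 2, -6, 2, -6],
   [2, -8, 2, -8, 0, -4, -2, 0, 2, 0, 0, 0, -4, 0, -8, 2, 0, -2, 8, -8, 0, -8, -2, -2],
   [-8, -4, 0, -8, 0, 4, 0, 4, -4, 0, 0, 8, 4, 0, -4, -4, 0, 0, 4, -4, 0, -4, 0, 0],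
   [-8, -4, 0, 0, 0, 4, 0, -4, -4, 4, 0, 0, 4, 0, -4, -4, 0, 0, 0, -4, 4, 4, 4, 0],
   [-8, -4, 0, -8, 0, 0, 0, 0, -4, 4, 0, 8, 0, 0, 0, -4, 0, 0, 4, 0, 0, -4, 0, 0],
   [-4, -8, 0, -8, 0, 4, 0, 0, 0, 0, 0, 0, 0, 0, -4, -4, 0, 0, 4, 0, 4, 4, 4, 0],
   [-4, 0, 0, 0, 0, 4, 0, 0, -4, 0, 0, 0, 0, 0, -4, 0, 0, 0, 0, 0, 4, 0, 4, 0],
   [-8, 0, 0, 0, 0, 4, 0, 0, -4, 0, 0, 0, 4, 0, 0, -4, 0, 0, 0, 0, 0, 0, 0, 0],
   [-4, -4, 0, -4, 0, 4, 0, 0, 0, 0, 0, 4, 4, 0, 0, -4, 0, 0, 4, 0, 0, 0, 0, 0],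
   [-4, -4, 0, -8, 0, 4, 0, 0, -4, 0, 0, 4, 0, 0, -8, 0, 0, 0, 4, -4, 4, -4, 4, 0],
   [-4, -8, 0, -4, 0, 4, 0, -4, 0, 4, 0, 4, 0, 0, -8, -4, 0, 0, 0, -4, 0, 0, 0, 0],
   [-4, -4, 0, -4, 0, 4, 0, 0, -4, 4, 0, 4, 0, 0, -8, 0, 0, 0, 4, -4, 0, 4, 0, 0],
   [-8, 0, 0, -4, 0, 4, 0, 4, -4, 0, 0, 8, 0, 0, -4, -4, 0, 0, 4, 0, 4, -4, 4, 0],
   [-4, -4, 0, 0, 0, 0, 0, -4, 0, 4, 0, 4, -4, 0, -8, -4, 0, 0, 0, -4, 0, 0, 0, 0]]

noncomputable def T : ℕ := (nat_lit 0x8440100a515822010c080240613aee81000a1c5d6610678ad19e47d08af3d8bab58e3b0bc5e9659b94f557b36f75d7e5acee3b27c8e48a815d1e4034718012a04885408a49120c1530d239f7c1ba5a535ef73bbebe86f46418068710e8285c6803428350e47f112ff9fa3bdfcc4dfb417593cebf482a39d3e637558bf9ce51dacbd9de63c7af1b6bf3e420348740085842a40b5dd300964ea315d91833cf04380fe6b9b9d4e546ffc3b1f2c9a2ab5fee89602a031023f8503ee4734604857d183179c0c9a214bb64775386a672fdddf2ef307089fa8a380958ec627e8c4027b8c72cdde7590318c113083c033e430e1fb9e0c1f39ec0fc07c307c0fe03e00fe03e0ff000803f8ff0003fff0003ff00000ffc00fffffc0000003fffffff00000ffffffffffffc000000000000)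

theorem W_mem : H48.lall H48.memL W = true :=
  by decide +kernel

theorem pts_inj : Function.Injective (lpts 100 24 T W) :=
  lpts_injective (by decide) (C := C) (by decide +kernel)

noncomputable def R0 : List (List ℤ) := [[5, 1, 1, 1, 1, 1, 1, 1, 1, -3, 1, 1, 1, 1, 1, 1, 1, 1, 1, 1, 1, 1, 1, -3],
   [1, 1, 1, -3, 1, -3, -3, 1, 1, 1, 1, 1, 1, 1, 1, -3, 1, 1, 1, -3, 1, 1, 1, 1],
   [1, 1, 1, 1, -3, 1, 1, 1, 1, 1, 1, -3, 1, 1, 1, -3, 1, 1, -3, 1, 1, 1, -3, 1],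
   [1, -3, 1, 1, 1, 1, 1, 1, -3, 1, 1, 1, 1, 1, -3, 1, 1, 1, 1, -3, 1, 1, -3, 1],
   [1, 1, -3, 1, 1, 1, -3, 1, 1, 1, 1, 1, 1, -3, -3, 1, 1, 1, -3, 1, 1, 1, 1, 1],
   [1, -3, 1, -3, 1, 1, 1, -3, 1, 1, 1, 1, 1, 1, 1, 1, -3, 1, -3, 1, 1, 1, 1, 1],
   [1, 1, 1, 1, 1, 1, 1, 1, 1, 1, 1, 1, -3, 1, 1, 1, 1, 1, -3, -3, -3, -3, 1, 1],
   [1, -3, 1, 1, 1, -3, 1, 1, 1, 1, 1, -3, 1, -3, 1, 1, 1, 1, 1, 1, 1, -3, 1, 1],
   [1, 1, -3, 1, 1, 1, 1, 1, 1, 1, 1, -3, 1, 1, 1, 1, -3, -3, 1, -3, 1, 1, 1, 1],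
   [1, 1, 1, 1, 1, 1, 1, 1, -3, 1, 1, 1, -3, -3, 1, -3, -3, 1, 1, 1, 1, 1, 1, 1],
   [-3, 1, 1, 1, 1, 1, 1, 1, 1, 5, 1, 1, 1, 1, 1, 1, 1, 1, 1, 1, 1, 1, 1, -3],
   [1, 1, 1, 1, 1, -3, 1, 1, -3, 1, -3, 1, 1, 1, 1, 1, 1, -3, -3, 1, 1, 1, 1, 1],
   [1, 1, -3, -3, -3, 1, 1, 1, -3, 1, 1, 1, 1, 1, 1, 1, 1, 1, 1, 1, 1, -3, 1, 1],
   [1, 1, 1, 1, -3, 1, 1, -3, 1, 1, -3, 1, 1, -3, 1, 1, 1, 1, 1, -3, 1, 1, 1, 1],
   [1, 1, 1, 1, 1, 1, -3, -3, -3, 1, 1, -3, 1, 1, 1, 1, 1, 1, 1, 1, -3, 1, 1, 1],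
   [1, 1, 1, 1, 1, 1, 1, -3, 1, 1, 1, 1, 1, 1, -3, -3, 1, -3, 1, 1, 1, -3, 1, 1],
   [1, 1, 1, -3, 1, 1, 1, 1, 1, 1, -3, -3, -3, 1, -3, 1, 1, 1, 1, 1, 1, 1, 1, 1],
   [1, 1, 1, 1, -3, -3, 1, 1, 1, 1, 1, 1, 1, 1, -3, 1, -3, 1, 1, 1, -3, 1, 1, 1],
   [1, 1, 1, 1, 1, 1, -3, 1, 1, 1, -3, 1, 1, 1, 1, 1, -3, 1, 1, 1, 1, -3, -3, 1],
   [1, 1, 1, -3, 1, 1, 1, 1, 1, 1, 1, 1, 1, -3, 1, 1, 1, -3, 1, 1, -3, 1, -3, 1],
   [1, -3, -3, 1, 1, 1, 1, 1, 1, 1, -3, 1, 1, 1, 1, -3, 1, 1, 1, 1, -3, 1, 1, 1],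
   [1, -3, 1, 1, -3, 1, -3, 1, 1, 1, 1, 1, -3, 1, 1, 1, 1, -3, 1, 1, 1, 1, 1, 1],
   [1, 1, -3, 1, 1, -3, 1, -3, 1, 1, 1, 1, -3, 1, 1, 1, 1, 1, 1, 1, 1, 1, -3, 1],
   [-3, 1, 1, 1, 1, 1, 1, 1, 1, -3, 1, 1, 1, 1, 1, 1, 1, 1, 1, 1, 1, 1, 1, 5]]

theorem R0_ok : H48.matB R0 = true :=
  by decide +kernel

theorem R0_acts : Acts (lpts 100 24 T W) (H48.colEl R0 R0_ok) (Net.toPerm 100 g1) :=
  acts_lpts (by decide) W_mem R0_ok g1_ok (M := [nat_lit 0x525c9e, nat_lit 0x3c8d8c, nat_lit 0xcd89e4, nat_lit 0x88408b, nat_lit 0x4f3901, nat_lit 0xbb7038, nat_lit 0xa0f587, nat_lit 0x90c327, nat_lit 0xa1b11d, nat_lit 0x8bc055, nat_lit 0x567fc2, nat_lit 0xe192bd, nat_lit 0x97f83a, nat_lit 0x3ca032, nat_lit 0x5a81d0, nat_lit 0xc37613, nat_lit 0x420a08, nat_lit 0xb1c0fa, nat_lit 0xdcd9c7, nat_lit 0x51972b, nat_lit 0x66da61, nat_lit 0xc1e326, nat_lit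 0x8df127, nat_lit 0x2b1218]) (by decide +kernel)

theorem R0_mem : H48.colEl R0 R0_ok ∈ H48.St H48.vV ⊓ H48.St H48.vU' :=
  ⟨colEl_fix R0_ok H48.vV (l := [-1, -1, -1, -1, -1, -1, -1, -1, -1, -1, -1, -1, -1, -1, -1, -1, -1, -1, -1, -1, -1, -1, -1, -5]) rfl (by decide +kernel) (by decide +kernel), colEl_fix R0_ok H48.vU' (l := [-4, 0, 0, 0, 0, 0, 0, 0, 0, 0, 0, 0, 0, 0, 0, 0, 0, 0, 0, 0, 0, 0, 0, 4]) rfl (by decide +kernel) (by decide +kernel)⟩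

noncomputable def R1 : List (List ℤ) := [[6, 2, 0, 0, 2, 0, 2, 0, 0, 2, 0, 0, 2, 0, 0, 0, 0, 2, 0, 0, 0, 0, 0, -2],
   [0, 0, 2, 2, 0, 2, 0, 2, -2, 0, -2, -2, 0, 2, 2, -2, 2, 0, 2, -2, 2, -2, 2, 0],
   [0, 0, 2, -2, 0, 2, 0, 2, -2, 0, 2, 2, 0, 2, -2, -2, 2, 0, -2, 2, -2, 2, 2, 0],
   [0, 0, 2, 2, 0, 2, 0, -2, -2, 0, 2, 2, 0, -2, 2, 2, 2, 0, -2, 2, 2, -2, -2, 0],
   [2, 6, 0, 0, -2, 0, -2, 0, 0, -2, 0, 0, -2, 0, 0, 0, 0, -2, 0, 0, 0, 0, 0, 2],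
   [0, 0, -2, 2, 0, 2, 0, -2, -2, 0, -2, 2, 0, 2, -2, 2, -2, 0, 2, 2, 2, 2, 2, 0],
   [2, -2, 0, 0, -2, 0, -2, 0, 0, 6, 0, 0, -2, 0, 0, 0, 0, -2, 0, 0, 0, 0, 0, 2],
   [0, 0, 2, -2, 0, 2, 0, 2, 2, 0, 2, 2, 0, -2, -2, 2, -2, 0, 2, -2, 2, -2, 2, 0],
   [0, 0, -2, -2, 0, 2, 0, -2, 2, 0, 2, -2, 0, -2, 2, -2, 2, 0, 2, 2, 2, 2, 2, 0],
   [0, 0, -2, 2, 0, 2, 0, 2, 2, 0, 2, -2, 0, 2, -2, 2, 2, 0, 2, 2, -2, -2, -2, 0],
   [0, 0, -2, -2, 0, 2, 0, 2, 2, 0, -2, 2, 0, 2, 2, 2, 2, 0, -2, -2, 2, 2, -2, 0],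
   [0, 0, 2, 2, 0, 2, 0, -2, 2, 0, 2, 2, 0, 2, 2, -2, -2, 0, 2, -2, -2, 2, -2, 0],
   [0, 0, 2, 2, 0, -2, 0, 2, 2, 0, -2, 2, 0, -2, -2, -2, 2, 0, 2, 2, 2, 2, -2, 0],
   [2, -2, 0, 0, 6, 0, -2, 0, 0, -2, 0, 0, -2, 0, 0, 0, 0, -2, 0, 0, 0, 0, 0, 2],
   [0, 0, 2, -2, 0, -2, 0, 2, -2, 0, 2, -2, 0, 2, 2, 2, -2, 0, 2, 2, 2, 2, -2, 0],
   [2, -2, 0, 0, -2, 0, 6, 0, 0, -2, 0, 0, -2, 0, 0, 0, 0, -2, 0, 0, 0, 0, 0, 2],
   [0, 0, 2, -2, 0, -2, 0, -2, 2, 0, -2, 2, 0, 2, 2, 2, 2, 0, 2, 2, -2, -2, 2, 0],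
   [0, 0, -2, 2, 0, -2, 0, 2, -2, 0, 2, 2, 0, -2, 2, 2, 2, 0, 2, -2, -2, 2, 2, 0],
   [0, 0, -2, 2, 0, -2, 0, 2, 2, 0, 2, 2, 0, 2, 2, -2, -2, 0, -2, 2, 2, -2, 2, 0],
   [0, 0, 2, 2, 0, 2, 0, 2, 2, 0, -2, -2, 0, -2, 2, 2, -2, 0, -2, 2, -2, 2, 2, 0],
   [2, -2, 0, 0, -2, 0, -2, 0, 0, -2, 0, 0, -2, 0, 0, 0, 0, 6, 0, 0, 0, 0, 0, 2],
   [2, -2, 0, 0, -2, 0, -2, 0, 0, -2, 0, 0, 6, 0, 0, 0, 0, -2, 0, 0, 0, 0, 0, 2],
   [0, 0, 2, 2, 0, -2, 0, -2, 2, 0, 2, -2, 0, 2, -2, 2, 2, 0, -2, -2, 2, 2, 2, 0],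
   [-2, 2, 0, 0, 2, 0, 2, 0, 0, 2, 0, 0, 2, 0, 0, 0, 0, 2, 0, 0, 0, 0, 0, 6]]

theorem R1_ok : H48.matB R1 = true :=
  by decide +kernel

theorem R1_acts : Acts (lpts 100 24 T W) (H48.colEl R1 R1_ok) (Net.toPerm 100 g2) :=
  acts_lpts (by decide) W_mem R1_ok g2_ok (M := [nat_lit 0xb1db12, nat_lit 0x70364a, nat_lit 0x7c221e, nat_lit 0x2bbeb5, nat_lit 0xde6001, nat_lit 0xc1efdd, nat_lit 11870, nat_lit 1660, nat_lit 0x7c051f, nat_lit 0x139362, nat_lit 0x5ba02c, nat_lit 0xae5aa0, nat_lit 0x74818a, nat_lit 0x2007a1, nat_lit 0x1922d2, nat_lit 0xb2d212, nat_lit 0xffb45e, nat_lit 0xfbb14b, nat_lit 0x996991, nat_lit 0x67b89a, nat_lit 0x8dcb43, nat_lit 0x416bc6, nat_lit 0xcc3960, nat_lit 0xd68506]) (by decide +kernel)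

theorem R1_mem : H48.colEl R1 R1_ok ∈ H48.St H48.vV ⊓ H48.St H48.vU' :=
  ⟨colEl_fix R1_ok H48.vV (l := [-1, -1, -1, -1, -1, -1, -1, -1, -1, -1, -1, -1, -1, -1, -1, -1, -1, -1, -1, -1, -1, -1, -1, -5]) rfl (by decide +kernel) (by decide +kernel), colEl_fix R1_ok H48.vU' (l := [-4, 0, 0, 0, 0, 0, 0, 0, 0, 0, 0, 0, 0, 0, 0, 0, 0, 0, 0, 0, 0, 0, 0, 4]) rfl (by decide +kernel) (by decide +kernel)⟩

theorem eq_lb : grp 100 E = grp 100 lb_E :=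
  le_antisymm (grp_mono (List.subset_append_left E [g3, g4, g7, g8, g11, g12, g13, g16, g16])) lb_le

theorem exists_equiv : ∃ e : ↥(H48.St H48.vV ⊓ H48.St H48.vU') ≃* grp 100 E, ∀ g : ↥(H48.St H48.vV ⊓ H48.St H48.vU'), Acts (lpts 100 24 T W) (g : Co0) (e g) :=
  exists_equiv_of_card_le pts_inj (List.forall_mem_cons.2 ⟨⟨_, R0_mem, R0_acts⟩, (List.forall_mem_cons.2 ⟨⟨_, R1_mem, R1_acts⟩, (fun _ h => nomatch h)⟩)⟩) (H48.card_HS'.le.trans lb_ge)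

noncomputable def equiv : Spor.HS ≃* grp 100 E := H48.equivHS.symm.trans exists_equiv.choose

theorem card_grp : Nat.card (grp 100 E) = 44352000 :=
  (Nat.card_congr equiv.toEquiv).symm.trans H48.card_HS

theorem exact : Ch.Exact 100 lb_E lb_ch (grp 100 lb_E) :=
  Ch.exact hn lb_E_ok lb_chk (wgrp_le_grp _ _ _) (eq_lb ▸ card_grp).le

end Cfsg.Agent.H43.HSM
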