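import Cfsg.Agent.H43.TwE6a
import Cfsg.Agent.S1070

/-! The family interface for `²E₆` in characteristic two. -/

set_option autoImplicit false
set_option maxRecDepth 100000

namespace Cfsg.Agent.H43.TW

open Cfsg Cfsg.Lie Cfsg.Agent.H63 Cfsg.Agent.H63.SL Cfsg.Agent.H34 Cfsg.Agent.H40 Cfsg.Agent.H37
  Cfsg.Agent.H34.TW Cfsg.Agent.H35.NF Equiv Subgroup Cert

universe v

variable {K : Type v} [Field K] (φ : K →+* K) (h2 : ∀ t, φ (φ t) = t)

/-- the field automorphism -/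
def σ : K ≃+* K := RingEquiv.ofRingHom φ φ (RingHom.ext h2) (RingHom.ext h2)

theorem map_xg (two : (2 : K) = 0) (r : Fin chevE6.nroots) (t : K) :
    (sE6 φ).σ (cE6.xg K r t) = cE6.xg K (γ r) (φ t) := by
  have : CharP K 2 := CharTwo.of_one_ne_zero_of_two_eq_zero one_ne_zero two
  rw [(sE6 φ).map r r.2, γv]
  congr 1
  change ((etaT grTE6 r : ℤ) : K) * φ t = φ t
  rcases etaT_sgn grTE6 r with e | e <;> simp [e, CharTwo.neg_eq]

theorem tg_eq (two : (2 : K) = 0) {q : ℕ} (hφ : ∀ t, φ t = t ^ q) :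
    TG γ (φ.eqLocusField (RingHom.id K)).subtype (σ φ h2) (fun r a => cE6.xg K r a) =
      (tE6 φ h2).G1 := by
  have hp := pin_chev cE6 (H80.SL.symm tl.lace) K two
  have key : ∀ (r : Fin chevE6.nroots) (u : chevE6.group K), (sE6 φ).σ u = u →
      (∀ A : Set (Fin chevE6.nroots), r ∈ A → γ r ∈ A → u ∈ (cE6.split K).U A) → u ∈ (tE6 φ h2).G1 :=
    fun r u h1 h3 => by
      by_cases h : cE6.R.Pos r
      · exact (tE6 φ h2).Up_le_G1 ⟨h3 _ h ((diag_pos tl.diag r).2 h), h1⟩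
      · exact (tE6 φ h2).Vn_le_G1 ⟨h3 {r | ¬ cE6.S.pos r} h (mt (diag_pos tl.diag r).1 h), h1⟩
  refine le_antisymm ((closure_le _).2 ?_) ?_
  · rintro _ (⟨r, hr, a, rfl⟩ | ⟨r, hr, a, rfl⟩)
    · exact key r _ (by rw [map_xg φ two, hr]; exact congrArg _ a.2) fun A h _ => xg_mem_U r.2 h _
    · refine key r _ ?_ fun A h h' => mul_mem (xg_mem_U r.2 h _) (xg_mem_U (γ r).2 h' _)
      rw [map_mul, map_xg φ two, map_xg φ two, tl.sq]
      exact (congrArg (fun t => _ * cE6.xg K r t) (h2 a)).trans (hp.com r _ (tl.orth r hr).ge _ _).eq.symm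
  refine (twE6 φ h2 hφ).eq.ge.trans (gen_le (C := cE6) fun w hw => ?_)
  have k1 : ∀ r, r < chevE6.nroots ∧ g r = r → ∀ t, φ t = t → cE6.wg K [(r, t)] ∈
      TG γ (φ.eqLocusField (RingHom.id K)).subtype (σ φ h2) (fun r a => cE6.xg K r a) :=
    fun r hr t ht => subset_closure (Or.inl ⟨⟨r, hr.1⟩, γf.2 hr.2, ⟨t, ht⟩, by simp⟩)
  have k2 : ∀ r s, r < chevE6.nroots ∧ g r = s ∧ s ≠ r → ∀ t, cE6.wg K [(r, t), (s, φ t)] ∈
      TG γ (φ.eqLocusField (RingHom.id K)).subtype (σ φ h2) (fun r a => cE6.xg K r a) :=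
    fun r s hr t => subset_closure (Or.inr ⟨⟨r, hr.1⟩, ne_iff.2 (hr.2.1 ▸ hr.2.2), t, by
      simp [γv, hr.2.1, σ]⟩)
  rcases (mem_e6Words φ hφ).1 hw with ⟨r, hr, t, ht, rfl | rfl⟩ | ⟨p, hp, t, rfl | rfl⟩
  · exact k1 _ (by clear hw; revert r; decide +kernel) t ht
  · exact k1 _ (by clear hw; revert r; decide +kernel) t ht
  · exact k2 _ _ (by clear hw; revert p; decide +kernel) t
  · exact k2 _ _ (by clear hw; revert p; decide +kernel) t

theorem famE6 : FamE6Stmt.{v} := by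
  refine ⟨γ, tl, noA1, opp, fun K _ _ n hn hK => ?_⟩
  have hq : IsPrimePow (2 ^ n) := Nat.prime_two.isPrimePow.pow (by omega)
  obtain ⟨φ, hφ, h2, -⟩ := exists_frob2 hq hK
  have two : (2 : K) = 0 := by
    have := FiniteField.cast_card_eq_zero K
    rw [hK, ← pow_mul] at this
    exact pow_eq_zero_iff (by omega) |>.1 (by exact_mod_cast this : (2 : K) ^ (n * 2) = 0)
  have : CharP K 2 := CharTwo.of_one_ne_zero_of_two_eq_zero one_ne_zero two
  have hF : Nat.card (φ.eqLocusField (RingHom.id K)) = 2 ^ n := by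
    rw [← card_fixed (Nat.one_le_two_pow) hK]
    exact Nat.card_congr (Equiv.subtypeEquivRight fun t => by rw [← hφ]; rfl)
  have he := tg_eq φ h2 two hφ
  let X := twE6 φ h2 hφ
  let e := (MulEquiv.subgroupCongr (he.trans X.j_range.symm)).trans (MonoidHom.ofInjective X.j_inj).symm
  obtain ⟨s1, s2⟩ := S1070.result hq hK
  refine ⟨φ.eqLocusField (RingHom.id K), inferInstance, _, σ φ h2, ⟨two, h2, fun a =>
    ⟨fun h => ⟨⟨a, h⟩, rfl⟩, fun ⟨b, h⟩ => h ▸ b.2⟩, ?_, by rw [hF, Nat.card_eq_fintype_card, hK]⟩, hF,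
    ⟨e⟩, ?_, ?_⟩
  · obtain ⟨a, ha⟩ : ∃ a, φ a ≠ a := by
      by_contra H
      push Not at H
      replace hF := (Nat.card_congr (Equiv.subtypeUnivEquiv H)).symm.trans hF
      rw [Nat.card_eq_fintype_card, hK] at hF
      have := hq.two_le
      nlinarith
    have h0 : a + φ a ≠ 0 := fun h => ha (CharTwo.add_eq_zero.1 h).symm
    refine ⟨a / (a + φ a), ?_⟩
    change φ _ = _
    rw [map_div₀, map_add, h2, add_comm (φ a), div_add_one h0, ← add_assoc, CharTwo.add_self_eq_zero,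
      zero_add]
  · have := e.isSimpleGroup
    refine (this.eq_bot_or_eq_top_of_normal _ inferInstance).resolve_right fun h => s2 ⟨⟨fun a b => ?_⟩⟩
    obtain ⟨a, rfl⟩ := e.surjective a
    obtain ⟨b, rfl⟩ := e.surjective b
    rw [← map_mul, ← map_mul, mem_center_iff.1 (h ▸ mem_top b) a]
  · rintro rfl h hh h' hh' c c' h1
    have hp := pin_chev cE6 (H80.SL.symm tl.lace) K two
    have k : ∀ h : chevE6.group K, (∀ (r : Fin chevE6.nroots) a, h * cE6.xg K r a * h⁻¹ ∈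
        XR (fun (r : Fin chevE6.nroots) a => cE6.xg K r a) r) → h ∈ (cE6.split K).H := fun h c =>
      LF.mem_H_of_norm _ fun r y hy => by
        obtain ⟨a, rfl⟩ := mem_X.1 hy
        obtain ⟨b, e⟩ := (LF.mem_XR hp).1 (c r a)
        exact mem_X.2 ⟨b, e.symm⟩
    have hc := E6_card_H φ h2 hφ (by norm_num) hK
    rw [X.card_inf _ fun _ => mem_H (C := cE6)] at hc
    have h3 : Nat.card ↥((cE6.split K).H ⊓ X.τ.G1) = 3 := 
      Nat.eq_of_mul_eq_mul_left (by norm_num : 0 < 3) hc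
    have : Fact (Nat.Prime 3) := ⟨Nat.prime_three⟩
    rw [he] at hh hh'
    obtain ⟨m, hm⟩ := mem_zpowers_of_prime_card h3 (g := ⟨h, k h c, hh⟩) (g' := ⟨h', k h' c', hh'⟩)
      fun r => h1 (congrArg Subtype.val r)
    exact ⟨m, congrArg Subtype.val hm⟩

end Cfsg.Agent.H43.TW
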