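import Cfsg.Agent.H17.KnDef2

/-!
# Automorphisms of the Sylow 2-subgroup of the symmetric group of degree 16
-/

set_option autoImplicit false
set_option maxRecDepth 100000
set_option synthInstance.maxSize 2000

namespace Cfsg.Agent.H43.KnAu2

open Equiv Subgroup Cfsg.Agent.H11.A16 Cfsg.Agent.H17.Kn

universe u

theorem sx {y : N2} (h : y ∈ S2) (p : P) : y.σ (x 1 p) = x 1 (y.σ p) := h.1 p

theorem sq_σ {y : N2} (h : y * y = 1) (p : P) : y.σ (y.σ p) = p :=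
  congrArg (fun u : N2 => u.σ p) h

theorem sq_f {y : N2} (h : y * y = 1) (p : P) : y.f (y.σ p) = y.f p := by
  have : y.f p + y.f (y.σ p) = 0 := congrArg (fun u : N2 => u.f p) h
  revert this
  generalize y.f p = a
  generalize y.f (y.σ p) = b
  revert a b
  decide

theorem tp_mem : ∀ p, tp p (x 1 p) ∈ S2 ∧ tp p (x 1 p) ∈ FF ∧ dl p ∈ S2 ∧ dl p ∈ PP ∧
    sec2 (x p) ∈ S2 := by decide +kernel

/-- A normal subgroup of exponent two of `S2` lies in `PP` or in `FF`. -/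
theorem le_or {X : Set N2} (hS : ∀ u ∈ X, u ∈ S2) (hm : ∀ u ∈ X, ∀ v ∈ X, u * v ∈ X)
    (h2 : ∀ u ∈ X, u * u = 1) (hn : ∀ m ∈ S2, ∀ u ∈ X, m * u * m⁻¹ ∈ X) :
    (∀ u ∈ X, u ∈ PP) ∨ ∀ u ∈ X, u ∈ FF := by
  have clash : ∀ u ∈ X, ∀ v ∈ X, ∀ p, u.σ p = x 1 p → v.σ p = p → v.f (x 1 p) = v.f p :=
    fun u hu v hv p e1 e2 => by
      have k1 := sq_f (h2 u hu) p
      have k2 := sq_f (h2 _ (hm u hu v hv)) p
      simp only [N2.mul_σ, N2.mul_f, Perm.mul_apply, e1, e2, sx (hS v hv)] at k1 k2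
      rw [k1] at k2
      exact add_right_cancel k2
  have hJ : ∀ u ∈ X, u ∈ JJ := fun u hu => mem_JJ.2 fun p => by
    by_contra k
    obtain ⟨k1, k2⟩ := not_or.1 k
    have k3 : x 1 (u.σ p) ≠ p := fun e => k2 (by rw [← xx (u.σ p), e])
    have := clash _ (hm _ (hn _ (tp_mem p).1 u hu) u hu) _ (hm _ (hn _ (tp_mem p).2.2.1 u hu) u hu)
      p (by
        simp only [N2.mul_σ, N2.inv_σ, Perm.mul_apply, tp, sec2, MonoidHom.mk'_apply, swap_inv,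
          swap_apply_of_ne_of_ne k1 k2, sq_σ (h2 u hu), swap_apply_left])
      (by simp [dl, sq_σ (h2 u hu)])
    simp [dl, sq_σ (h2 u hu), sq_f (h2 u hu), sx (hS u hu), k1, k3, x_ne] at this
    rw [← sx (hS u hu), sq_f (h2 u hu), z2add, ← add_assoc, z2add] at this
    exact absurd this (by decide)
  refine or_iff_not_imp_left.2 fun k v hv => ⟨hJ v hv, sx (hS v hv), fun q => ?_⟩
  obtain ⟨u, hu, p, e⟩ : ∃ u ∈ X, ∃ p, u.σ p ≠ p := by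
    by_contra k'
    push Not at k'
    exact k fun u hu => Equiv.ext (k' u hu)
  rcases mem_JJ.1 (hJ v hv) q with e2 | e2
  · have a1 : ∀ p q : P, (x (p ^^^ q))⁻¹ p = q ∧ x (p ^^^ q) q = p ∧
        (x (p ^^^ q))⁻¹ (x 1 p) = x 1 q := by decide +kernel
    have := clash u hu _ (hn _ (tp_mem (p ^^^ q)).2.2.2.2 v hv) p
      ((mem_JJ.1 (hJ u hu) p).resolve_left e) (by
        simp only [N2.mul_σ, N2.inv_σ, Perm.mul_apply, sec2, MonoidHom.mk'_apply, a1, e2])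
    simpa only [N2.mul_f, N2.inv_f, N2.inv_σ, sec2, MonoidHom.mk'_apply, a1, add_zero,
      zero_add] using this
  · rw [← e2, sq_f (h2 v hv)]

/-- `t` acts freely on `Y`. -/
def Fr (t : N2) (Y : Subgroup N2) : Prop :=
  ∀ e ∈ Y, Commute t e → ∃ d ∈ Y, e = d * (t * d * t⁻¹)

theorem fr_PP {m : P} (hm : m ≠ 0) : Fr (sec2 (x m)) PP := fun e he hc => by
  have h1 : e.σ = 1 := he
  have h2 : ∀ p, e.f (x m p) = e.f p := fun p => by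
    have := congrArg (fun u : N2 => u.f p) hc.eq
    simpa [sec2] using this.symm
  have h3 : ∀ m p : P, m ≠ 0 → (x m)⁻¹ p = x m p ∧ (x m p < x m (x m p) ↔ ¬ p < x m p) := by
    decide +kernel
  refine ⟨⟨1, fun p => if p < x m p then e.f p else 0⟩, rfl, N2.ext (by simp [h1, sec2])
    (funext fun p => ?_)⟩
  simp only [N2.mul_f, N2.mul_σ, N2.inv_f, N2.inv_σ, sec2, MonoidHom.mk'_apply, mul_one,
    mul_inv_cancel, Perm.one_apply, h3 m p hm, h2, add_zero, zero_add]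
  split_ifs <;> simp_all

theorem fr_FF (h1 : Mod1) {v : N2} (hv : v = xe 2 4 ∨ v = xe 3 4 ∨ v = xe 2 4 * xe 3 4) :
    Fr v FF := fun e he hc => by
  obtain ⟨a, b, c, d, rfl⟩ := h1.nfF e he
  have k : ∀ i k, wb i k ∈ FF := by decide +kernel
  rcases hv with rfl | rfl | rfl
  · exact ⟨_, mul_mem (k 0 a) (k 2 c), by revert a b c d; decide +kernel⟩
  · exact ⟨_, mul_mem (k 0 a) (k 1 b), by revert a b c d; decide +kernel⟩
  · exact ⟨_, mul_mem (k 0 a) (k 1 b), by revert a b c d; decide +kernel⟩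

theorem fpf {y : N2} (h : Fr y PP) (p : P) : y.σ p ≠ p := fun e => by
  have e' : y.σ⁻¹ p = p := Perm.inv_eq_iff_eq.2 e.symm
  obtain ⟨d, hd, k⟩ := h _ (tp_mem p).2.2.2.1 (N2.ext (by simp [dl]) (funext fun r => by
    have : y.σ r = p ↔ r = p := ⟨fun a => y.σ.injective (a.trans e.symm), fun a => a ▸ e⟩
    simp [dl, this, add_comm]))
  have h1 : d.σ = 1 := hd
  have := congrArg (fun u : N2 => u.f p) k
  simp only [N2.mul_f, N2.mul_σ, N2.inv_f, N2.inv_σ, dl, if_true, h1, mul_one, mul_inv_cancel,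
    Perm.one_apply, e'] at this
  revert this
  generalize y.f p = a
  generalize d.f p = b
  revert a b
  decide

theorem mv {y : N2} (hy : y ∈ S2) (h2 : y * y = 1) (h : Fr y PP) (h' : Fr y FF) (p : P) :
    (y.σ p).1 / 2 ≠ p.1 / 2 := fun e => by
  have a1 : ∀ p q : P, q ≠ p → q.1 / 2 = p.1 / 2 → q = x 1 p := by decide +kernel
  have e1 := a1 _ _ (fpf h p) e
  have e2 : y.σ (x 1 p) = p := by rw [sx hy, e1, xx]
  have e3 : y.σ⁻¹ p = x 1 p := Perm.inv_eq_iff_eq.2 e2.symm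
  obtain ⟨d, hd, k⟩ := h' _ (tp_mem p).2.1 (N2.ext (by
    have := swap_apply_apply y.σ p (x 1 p)
    rw [e1, e2, swap_comm] at this
    exact mul_inv_eq_iff_eq_mul.1 this.symm) (funext fun r => by
      have := sq_f h2 p
      simp only [N2.mul_f, tp, sec2, MonoidHom.mk'_apply, zero_add, add_zero, swap_apply_def]
      split_ifs with a b
      · rw [a, ← e1, this]
      · rw [b, ← e1, this]
      · rfl))
  have := congrArg (fun u : N2 => u.σ p) k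
  simp only [N2.mul_σ, N2.inv_σ, Perm.mul_apply, tp, sec2, MonoidHom.mk'_apply, swap_apply_left,
    e3, JJ_x hd.1] at this
  rcases mem_JJ.1 hd.1 p with a | a
  · rw [a, e2, a] at this; exact x_ne p this
  · rw [a, xx, e1, JJ_x hd.1, a, xx] at this; exact x_ne p this

theorem mem_TV {y : N2} (hy : y ∈ S2) (h2 : y * y = 1) (h : ∀ p, (y.σ p).1 / 2 ≠ p.1 / 2) :
    y.σ ∈ TV := by
  have key : ∀ a b c d : P, ∀ g : P → P, g = ![a, x 1 a, b, x 1 b, c, x 1 c, d, x 1 d] →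
      (∀ p, g (g p) = p) → (∀ p, (g p).1 / 2 ≠ p.1 / 2) →
      ∀ p, (g p).1 / 2 = (p.1 / 2) ^^^ ((g 0).1 / 2) := by
    rintro a b c d _ rfl
    revert a b c d
    decide +kernel
  refine key (y.σ 0) (y.σ 2) (y.σ 4) (y.σ 6) _ (funext fun p => ?_) (sq_σ h2) h
  simp only [← sx hy]
  fin_cases p <;> rfl

theorem sec_FF {y : N2} (hy : y ∈ S2) (h : y.σ ∈ TV) {m : P} (e : (y.σ 0).1 / 2 = m.1 / 2) :
    (sec2 (x m))⁻¹ * sec2 y.σ ∈ FF := by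
  have a1 : ∀ m p q : P, q.1 / 2 = (p.1 / 2) ^^^ (m.1 / 2) →
      (x m)⁻¹ q = p ∨ (x m)⁻¹ q = x 1 p := by decide +kernel
  have a2 : ∀ m p : P, (x m)⁻¹ (x 1 p) = x 1 ((x m)⁻¹ p) := by decide +kernel
  exact ⟨mem_JJ.2 fun p => a1 m p _ (e ▸ h p), fun p => by
    change (x m)⁻¹ (y.σ (x 1 p)) = x 1 ((x m)⁻¹ (y.σ p))
    rw [sx hy, a2], fun _ => rfl⟩

section Au

variable {α : N2 → N2} (h : Au α S2)
include h

/-- The homomorphism. -/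
def hom : S2 →* N2 := MonoidHom.mk' (fun u => α u) fun u v => h.mul u u.2 v v.2

theorem conj {m u : N2} (hm : m ∈ S2) (hu : u ∈ S2) : α (m * u * m⁻¹) = α m * α u * (α m)⁻¹ := by
  rw [h.mul _ (mul_mem hm hu) _ (inv_mem hm), h.mul _ hm _ hu]
  exact congrArg _ (map_inv (hom h) ⟨m, hm⟩)

theorem sq1 {u : N2} (hu : u ∈ S2) (e : u * u = 1) : α u * α u = 1 := by
  rw [← h.mul _ hu _ hu, e]; exact map_one (hom h)

theorem comm {u v : N2} (hu : u ∈ S2) (hv : v ∈ S2) : Commute (α u) (α v) ↔ Commute u v := by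
  rw [commute_iff_eq, ← h.mul _ hu _ hv, ← h.mul _ hv _ hu]
  exact ⟨h.inj _ (mul_mem hu hv) _ (mul_mem hv hu), congrArg α⟩

theorem onto {Y Z : Subgroup N2} (hY : Y ≤ S2) (hc : Nat.card Z ≤ Nat.card Y)
    (hm : ∀ u ∈ Y, α u ∈ Z) : ∀ v ∈ Z, ∃ u ∈ Y, α u = v := fun v hv => by
  have : Function.Injective fun u : Y => (⟨α u, hm u u.2⟩ : Z) := fun a b e =>
    Subtype.ext (h.inj _ (hY a.2) _ (hY b.2) (congrArg Subtype.val e))
  obtain ⟨u, e⟩ := (this.bijective_of_nat_card_le hc).2 ⟨v, hv⟩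
  exact ⟨u, u.2, congrArg Subtype.val e⟩

theorem fr {Y Z : Subgroup N2} (hY : Y ≤ S2) (hc : Nat.card Z ≤ Nat.card Y)
    (hm : ∀ u ∈ Y, α u ∈ Z) {t : N2} (ht : t ∈ S2) (k : Fr t Y) : Fr (α t) Z := fun e he c => by
  obtain ⟨u, hu, rfl⟩ := onto h hY hc hm e he
  obtain ⟨d, hd, e⟩ := k u hu ((comm h ht (hY hu)).1 c)
  refine ⟨α d, hm d hd, ?_⟩
  rw [← conj h ht (hY hd), ← h.mul _ (hY hd) _ (mul_mem (mul_mem ht (hY hd)) (inv_mem ht)), ← e]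

theorem img {Y : Subgroup N2} (hY : Y ≤ S2) (h2 : ∀ u ∈ Y, u * u = 1)
    (hn : ∀ m ∈ S2, ∀ u ∈ Y, m * u * m⁻¹ ∈ Y) :
    (∀ u ∈ Y, α u ∈ PP) ∨ ∀ u ∈ Y, α u ∈ FF := by
  refine (le_or (X := α '' Y) ?_ ?_ ?_ ?_).imp (fun k u hu => k _ ⟨u, hu, rfl⟩)
    fun k u hu => k _ ⟨u, hu, rfl⟩
  · rintro _ ⟨u, hu, rfl⟩; exact h.mem u (hY hu)
  · rintro _ ⟨u, hu, rfl⟩ _ ⟨v, hv, rfl⟩
    exact ⟨u * v, mul_mem hu hv, h.mul _ (hY hu) _ (hY hv)⟩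
  · rintro _ ⟨u, hu, rfl⟩; exact sq1 h (hY hu) (h2 u hu)
  · rintro m hm _ ⟨u, hu, rfl⟩
    obtain ⟨n, hn', rfl⟩ := onto h le_rfl le_rfl h.mem m hm
    exact ⟨_, hn n hn' u hu, conj h hn' (hY hu)⟩

/-- The elements whose twisted image lies in `Y`. -/
def pre (c : N2) (Y : Subgroup N2) : Subgroup N2 :=
  (Y.comap ((MulAut.conj c).toMonoidHom.comp (hom h))).map S2.subtype

theorem mem_pre {c u : N2} {Y : Subgroup N2} (hu : u ∈ S2) :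
    u ∈ pre h c Y ↔ c * α u * c⁻¹ ∈ Y :=
  mem_map_iff_mem (x := (⟨u, hu⟩ : S2)) S2.subtype_injective

/-- The images of the translations of the blocks. -/
theorem reg (h2 : Mod2) (h3 : Mod3) (hS : VV ≤ S2)
    (hf : ∀ v ∈ VV, v ≠ 1 → Fr (α v) PP ∧ Fr (α v) FF) :
    ∃ s ∈ VV, ∃ s' ∈ VV, (∀ K : Subgroup N2, s ∈ K → s' ∈ K → VV ≤ K) ∧ ∃ e ∈ FF,
      (e⁻¹ * α s * e).σ = x 2 ∧ (e⁻¹ * α s' * e).σ = x 4 := by
  have hA : VV ≤ AA := h2.le.2.2.2.2.2.2.2.2.2.2.2.2.2.2.2.2.1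
  have q : ∀ v ∈ VV, α v * α v = 1 := fun v hv => sq1 h (hS hv) (h2.ab.2.2.2.2.2.1 v (hA hv))
  have m : ∀ v ∈ VV, v ≠ 1 → ∀ p, ((α v).σ p).1 / 2 ≠ p.1 / 2 := fun v hv v1 =>
    mv (h.mem v (hS hv)) (q v hv) (hf v hv v1).1 (hf v hv v1).2
  have t : ∀ v ∈ VV, v ≠ 1 → (α v).σ ∈ TV := fun v hv v1 =>
    mem_TV (h.mem v (hS hv)) (q v hv) (m v hv v1)
  obtain ⟨s, hs, s', hs', s1, s1', g, e1, e2⟩ : ∃ s ∈ VV, ∃ s' ∈ VV, s ≠ 1 ∧ s' ≠ 1 ∧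
      (∀ K : Subgroup N2, s ∈ K → s' ∈ K → xe 2 4 ∈ K ∧ xe 3 4 ∈ K) ∧
      ((α s).σ 0).1 / 2 = (2 : P).1 / 2 ∧ ((α s').σ 0).1 / 2 = (4 : P).1 / 2 := by
    obtain ⟨va, vb, vc, na, nb, nc⟩ : xe 2 4 ∈ VV ∧ xe 3 4 ∈ VV ∧ xe 2 4 * xe 3 4 ∈ VV ∧
      xe 2 4 ≠ 1 ∧ xe 3 4 ≠ 1 ∧ xe 2 4 * xe 3 4 ≠ 1 := by decide +kernel
    have k1 := m _ va na 0
    have k2 := m _ vb nb 0
    have k3 := m _ vc nc 0
    have k4 := t _ va na ((α (xe 3 4)).σ 0)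
    rw [← Perm.mul_apply, ← N2.mul_σ, ← h.mul _ (hS va) _ (hS vb)] at k4
    have a1 : ∀ a b c : P, a.1 / 2 ≠ (0 : P).1 / 2 → b.1 / 2 ≠ (0 : P).1 / 2 →
        c.1 / 2 ≠ (0 : P).1 / 2 → c.1 / 2 = (b.1 / 2) ^^^ (a.1 / 2) →
        (a.1 / 2 = (2 : P).1 / 2 ∧ b.1 / 2 = (4 : P).1 / 2 ∨
          b.1 / 2 = (2 : P).1 / 2 ∧ a.1 / 2 = (4 : P).1 / 2) ∨
        (a.1 / 2 = (2 : P).1 / 2 ∧ c.1 / 2 = (4 : P).1 / 2 ∨
          c.1 / 2 = (2 : P).1 / 2 ∧ a.1 / 2 = (4 : P).1 / 2) ∨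
        b.1 / 2 = (2 : P).1 / 2 ∧ c.1 / 2 = (4 : P).1 / 2 ∨
          c.1 / 2 = (2 : P).1 / 2 ∧ b.1 / 2 = (4 : P).1 / 2 := by decide +kernel
    rcases a1 _ _ _ k1 k2 k3 k4 with (k | k) | (k | k) | k | k
    · exact ⟨_, va, _, vb, na, nb, fun K a b => ⟨a, b⟩, k⟩
    · exact ⟨_, vb, _, va, nb, na, fun K a b => ⟨b, a⟩, k⟩
    · exact ⟨_, va, _, vc, na, nc, fun K a b => ⟨a, (K.mul_mem_cancel_left a).1 b⟩, k⟩
    · exact ⟨_, vc, _, va, nc, na, fun K b a => ⟨a, (K.mul_mem_cancel_left a).1 b⟩, k⟩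
    · exact ⟨_, vb, _, vc, nb, nc, fun K a b => ⟨(K.mul_mem_cancel_right a).1 b, a⟩, k⟩
    · exact ⟨_, vc, _, vb, nc, nb, fun K b a => ⟨(K.mul_mem_cancel_right a).1 b, a⟩, k⟩
  have r2 : xe 2 4 = sec2 (x 2) := by decide +kernel
  have r3 : xe 3 4 = sec2 (x 4) := by decide +kernel
  have q2 : ∀ v ∈ VV, sec2 (α v).σ ^ 2 = 1 := fun v hv => by
    rw [sq, ← map_mul, ← N2.mul_σ, q v hv, N2.one_σ, map_one]
  have := h3.cplF _ (sec_FF (h.mem s (hS hs)) (t s hs s1) e1) _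
    (sec_FF (h.mem s' (hS hs')) (t s' hs' s1') e2)
  rw [r2, r3, mul_inv_cancel_left, mul_inv_cancel_left] at this
  obtain ⟨e, he, k1, k2⟩ := this (q2 s hs) (q2 s' hs')
    ((((comm h (hS hs) (hS hs')).2 (h2.ab.2.2.1 s (hA hs) s' (hA hs'))).map π2).map sec2)
  refine ⟨s, hs, s', hs', fun K a b v hv => ?_, e, he, ?_, ?_⟩
  · obtain ⟨a, b⟩ := g K a b
    rcases h2.lVV v hv with k | k | k | k <;> rw [k]
    exacts [one_mem _, a, b, mul_mem a b]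
  · have : e.σ * x 2 * e.σ⁻¹ = (α s).σ := congrArg N2.σ k1
    rw [N2.mul_σ, N2.mul_σ, ← this, N2.inv_σ]; group
  · have : e.σ * x 4 * e.σ⁻¹ = (α s').σ := congrArg N2.σ k2
    rw [N2.mul_σ, N2.mul_σ, ← this, N2.inv_σ]; group

end Au

theorem au2 (hB : Base.{u}) : Au2Stmt := by
  intro α h
  obtain ⟨-, h1, h2, h3, -, -⟩ := hB
  obtain ⟨-, l1, -, l2, -, -, -, -, -, -, l3, l4, l5, -, -, -, l6, -⟩ := id h2.le
  have sP : PP ≤ S2 := l3.trans l4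
  have sF : FF ≤ S2 := l5.trans inf_le_left
  have sQ : QQ ≤ S2 := l1.trans inf_le_right
  have sA : AA ≤ S2 := l2.trans sQ
  have sV : VV ≤ S2 := l6.trans sA
  have nP : ∀ m ∈ S2, ∀ u ∈ PP, m * u * m⁻¹ ∈ PP := fun m _ => (h2.nrm m).1
  have nF : ∀ m ∈ S2, ∀ u ∈ FF, m * u * m⁻¹ ∈ FF := fun m hm => ((h2.nrm m).2.2.1 hm).1
  have c1 : Nat.card PP ≤ Nat.card FF := by rw [h1.cPP, h1.cFF]
  have c2 : Nat.card FF ≤ Nat.card PP := by rw [h1.cPP, h1.cFF]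
  have fV : ∀ v ∈ VV, v ≠ 1 → Fr v PP ∧ Fr v FF := fun v hv v1 => by
    have k := (h2.lVV v hv).resolve_left v1
    refine ⟨?_, fr_FF h1 k⟩
    rcases k with k | k | k <;> rw [k]
    · exact (by decide +kernel : sec2 (x 2) = xe 2 4) ▸ fr_PP (by decide)
    · exact (by decide +kernel : sec2 (x 4) = xe 3 4) ▸ fr_PP (by decide)
    · exact (by decide +kernel : sec2 (x 6) = xe 2 4 * xe 3 4) ▸ fr_PP (by decide)
  have nc : ¬ Commute (α (dl 0)) (α (tp 0 (x 1 0))) := fun k =>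
    absurd ((comm h (tp_mem 0).2.2.1 (tp_mem 0).1).1 k) (by decide +kernel)
  rcases img h sP h2.ab.2.2.2.1 nP with p | p <;> rcases img h sF h2.ab.2.2.2.2.1 nF with f | f
  · exact absurd (h2.ab.1 _ (p _ (tp_mem 0).2.2.2.1) _ (f _ (tp_mem 0).2.1)) nc
  · obtain ⟨s, hs, s', hs', g, e, he, e2, e3⟩ := reg h h2 h3 sV fun v hv v1 =>
      ⟨fr h sP le_rfl p (sV hv) (fV v hv v1).1, fr h sF le_rfl f (sV hv) (fV v hv v1).2⟩
    obtain ⟨r1, r2, r3, m1, m2, m3⟩ : xe 1 4 = sec2 (x 1) ∧ xe 2 4 = sec2 (x 2) ∧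
      xe 3 4 = sec2 (x 4) ∧ xe 1 4 ∈ FF ∧ xe 1 4 ∈ AA ∧ ∀ i, xe i 4 ∈ AA := by decide +kernel
    have e1 : (e⁻¹ * α (xe 1 4) * e).σ = x 1 := by
      have k : (α (xe 1 4)).σ = x 1 := Equiv.ext fun q => (mem_JJ.1 (f _ m1).1 q).resolve_left
        (fpf (fr h sP le_rfl p (sA m2) (r1 ▸ fr_PP (by decide))) q)
      ext q
      simp only [N2.mul_σ, N2.inv_σ, Perm.mul_apply, k, ← JJ_x he.1, inv_app]
    have iP : ∀ {y : N2} {m : P}, y.σ = x m → (sec2 (x m))⁻¹ * y ∈ PP := fun {y m} k => by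
      change (x m)⁻¹ * y.σ = 1
      rw [k, inv_mul_cancel]
    have cj : ∀ a ∈ AA, ∀ b ∈ AA, Commute (e⁻¹ * α a * e) (e⁻¹ * α b * e) := fun a ha b hb => by
      simpa using ((comm h (sA ha) (sA hb)).2 (h2.ab.2.2.1 a ha b hb)).map (MulAut.conj e⁻¹)
    have q : ∀ a ∈ AA, (e⁻¹ * α a * e) ^ 2 = 1 := fun a ha => by
      rw [sq, show e⁻¹ * α a * e * (e⁻¹ * α a * e) = e⁻¹ * (α a * α a) * e by group,
        sq1 h (sA ha) (h2.ab.2.2.2.2.2.1 a ha)]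
      group
    have := h3.cpl _ (iP e1) _ (iP e2) _ (iP e3)
    rw [← r1, ← r2, ← r3, mul_inv_cancel_left, mul_inv_cancel_left, mul_inv_cancel_left] at this
    obtain ⟨d, hd, k1, k2, k3⟩ := this (q _ m2) (q _ (l6 hs)) (q _ (l6 hs')) (cj _ m2 _ (l6 hs))
      (cj _ m2 _ (l6 hs')) (cj _ (l6 hs) _ (l6 hs'))
    have iK : ∀ {a : N2} {i}, a ∈ AA → d * xe i 4 * d⁻¹ = e⁻¹ * α a * e →
        a ∈ pre h (e * d)⁻¹ AA := fun {a i} ha k => by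
      rw [mem_pre h (sA ha), show (e * d)⁻¹ * α a * (e * d)⁻¹⁻¹ = d⁻¹ * (e⁻¹ * α a * e) * d by
        group, ← k, show d⁻¹ * (d * xe i 4 * d⁻¹) * d = xe i 4 by group]
      exact m3 i
    have hV := g _ (iK (l6 hs) k2) (iK (l6 hs') k3)
    refine Or.inl ⟨(e * d)⁻¹, inv_mem (mul_mem (sF he) (sP hd)), fun a ha =>
      (mem_pre h (sA ha)).1 (h2.gAA _ (fun i => ?_) ha)⟩
    fin_cases i
    · have z : xe 0 4 = H17.Kn.z2 := by decide +kernel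
      change xe 0 4 ∈ _
      rw [mem_pre h (sA (m3 0))]
      rcases h3.cQQ (α (xe 0 4)) fun a ha => by
        obtain ⟨b, hb, rfl⟩ := onto h le_rfl le_rfl h.mem a (sQ ha)
        exact (comm h (sA (m3 0)) hb).2 (z ▸ (h2.ab.2.2.2.2.2.2 b).symm) with k | k <;> rw [k]
      · simp
      · rw [(h2.ab.2.2.2.2.2.2 _).eq, mul_inv_cancel_right, ← z]; exact m3 0
    · exact iK m2 k1
    · exact hV (by decide +kernel : xe 2 4 ∈ VV)
    · exact hV (by decide +kernel : xe 3 4 ∈ VV)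
    · exact (by decide +kernel : 1 = xe 4 4) ▸ one_mem _
  · obtain ⟨s, hs, s', hs', g, e, he, e2, e3⟩ := reg h h2 h3 sV fun v hv v1 =>
      ⟨fr h sF c1 f (sV hv) (fV v hv v1).2, fr h sP c2 p (sV hv) (fV v hv v1).1⟩
    have hV := g (pre h e⁻¹ ((TR ⊓ EO).comap π2))
      ((mem_pre h (sV hs)).2 (by
        rw [inv_inv, mem_comap, show π2 (e⁻¹ * α s * e) = x 2 from e2, mem_inf]; decide +kernel))
      ((mem_pre h (sV hs')).2 (by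
        rw [inv_inv, mem_comap, show π2 (e⁻¹ * α s' * e) = x 4 from e3, mem_inf]; decide +kernel))
    refine Or.inr ⟨e⁻¹, inv_mem (sF he), fun u hu => nP _ (inv_mem (sF he)) _ (f u hu),
      fun u hu => nF _ (inv_mem (sF he)) _ (p u hu), fun v hv => ?_⟩
    have k := (mem_pre h (sV hv)).1 (hV hv)
    exact ⟨sec2 (e⁻¹ * α v * e⁻¹⁻¹).σ, ⟨k, fun _ => rfl⟩, _, inv_mul_cancel _,
      (mul_inv_cancel_left _ _).symm⟩
  · exact absurd (h2.ab.2.1 _ (p _ (tp_mem 0).2.2.2.1) _ (f _ (tp_mem 0).2.1)) nc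

end Cfsg.Agent.H43.KnAu2
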