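import Cfsg.Agent.H43.L3M1
import Cfsg.Agent.H27.EndKit
import Cfsg.Agent.H35.PinRec

/-! The model of a covering group of `L₃(q)`, `q` even. -/

set_option autoImplicit false
set_option linter.unusedSectionVars false

namespace Cfsg.Agent.H43.L3

open Cfsg Cfsg.Agent.H35.L3 Cfsg.Agent.H73 Cfsg.Agent.H63 Cfsg.Agent.H63.SL Subgroup
open Matrix (GeneralLinearGroup)
open Matrix.SpecialLinearGroup (toGL)
open Cfsg.Agent.H27.End (mem_N_of_conj conj_mem)
open scoped commutatorElement MatrixGroups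

universe u v

variable {F : Type v} [Field F] [Finite F] {Γ : Type u} [Group Γ] [Finite Γ]

/-- A covering group with lifts of the transvections. -/
structure Lf (f : Γ →* P3 F) (y : Fin 3 → Fin 3 → F → Γ) : Prop where
  two : (2 : F) = 0
  cov : PCover 2 f
  elt : ∀ i j, i ≠ j → ∀ a, IsPElt 2 (y i j a)
  map : ∀ i j a, f (y i j a) = pr F (T i j a)

theorem cov_pr (two : (2 : F) = 0) : PCover 2 (pr F) :=
  haveI := CharTwo.of_one_ne_zero_of_two_eq_zero (one_ne_zero' F) two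
  pcover_sl

theorem exists_lf (two : (2 : F) = 0) {f : Γ →* P3 F} (h : PCover 2 f) : ∃ y, Lf f y := by
  have k : ∀ i j (a : F), ∃ g, IsPElt 2 g ∧ pr F (T i j a) = f g := fun i j a =>
    (cov_pr two).exists_isPElt_lift h (by
      by_cases e : i ≠ j
      · exact pelt_of_sq (T_sq two e a)
      · rw [T, dif_neg e]
        exact IsPElt.one)
  choose y h1 h2 using k
  exact ⟨y, two, h, fun i j _ => h1 i j, fun i j a => (h2 i j a).symm⟩

/-- `α` acts on the root elements as `m` after the graph-field automorphism `(ε, φ)`. -/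
def Ac (f : Γ →* P3 F) (y : Fin 3 → Fin 3 → F → Γ) (α : MulAut Γ) (m : GL (Fin 3) F) (ε : Bool)
    (φ : F ≃+* F) : Prop :=
  ∀ i j, i ≠ j → ∀ a, ∃ s, f (α (y i j a)) = pr F s ∧ Cj m (fl T ε i j (φ a)) s

variable {f : Γ →* P3 F} {y : Fin 3 → Fin 3 → F → Γ} (h : Lf f y)
include h

namespace Lf

theorem com {i j k l : Fin 3} (e : i ≠ j) {a b : F} (c : Commute (T i j a) (T k l b)) :
    Commute (y i j a) (y k l b) :=
  h.cov.commute_of_isPElt (h.elt i j e a) (by rw [h.map, h.map]; exact c.map _)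

theorem st : St3 y := by
  have s := st_T h.two
  refine ⟨h.two, fun i j e a b => h.cov.eq_of_isPElt (h.elt i j e _) ((h.elt i j e a).mul_of_commute
    (h.elt i j e b) (h.com e (s.row i j j e e a b))) (by rw [map_mul, h.map, h.map, h.map, s.add i j e,
      map_mul]), fun i j k e1 e2 e3 a b => ?_, fun i j k e1 e2 a b => h.com e1 (s.row i j k e1 e2 a b),
    fun i j k e1 e2 a b => h.com e1 (s.col i j k e1 e2 a b), fun i j e a e' => s.inj i j e a
      ((cov_pr h.two).coprime _ (by rw [← h.map, e', map_one]) (pelt_of_sq (T_sq h.two e a)))⟩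
  have e4 : f ⁅y i j a, y j k b⁆ = f (y i k (a * b)) := by
    rw [map_commutatorElement, h.map, h.map, h.map, ← map_commutatorElement, s.rel i j k e1 e2 e3]
  have c : Commute (y i j a) ⁅y i j a, y j k b⁆ := h.cov.commute_of_isPElt (h.elt i j e1 a) (by
    rw [e4, h.map, h.map]; exact (s.row i j k e1 e3 _ _).map _)
  refine h.cov.eq_of_isPElt ?_ (h.elt i k e3 _) e4
  have := (h.elt i j e1 a).mul_of_commute ((h.elt i j e1 a).inv.conj (y j k b)) (by
    simpa [commutatorElement_def, mul_assoc] using (Commute.refl _).inv_right.mul_right c)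
  rwa [← mul_assoc, ← mul_assoc] at this

theorem map_uu (a b c : F) : f (uu y a b c) = pr F (uu T a b c) := by
  simp only [uu, map_mul, h.map]

theorem center_le : center Γ ≤ f.ker := fun z hz => by
  obtain ⟨s, hs⟩ := (cov_pr h.two).surj (f z)
  rw [MonoidHom.mem_ker, ← hs]
  refine (QuotientGroup.eq_one_iff s).2 (mem_center_iff.2 fun g => mem_centralizer_singleton_iff.1
    ((H26.sl_eq_top_of_transvection_mem C1[s] fun i j e c => ?_).ge (mem_top g)))
  rw [← T_eq e]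
  refine mem_centralizer_singleton_iff.2 ((cov_pr h.two).commute_of_isPElt
    (pelt_of_sq (T_sq h.two e c)) ?_)
  rw [hs, ← h.map]
  exact Commute.map (mem_center_iff.1 hz _) f

theorem ker_le : f.ker ≤ center Γ := fun z hz =>
  mem_center_iff.2 fun g => (h.cov.central z hz g).eq.symm

theorem eq_top [Group.IsPerfect Γ] {K : Subgroup Γ} (hK : ∀ i j, i ≠ j → ∀ a, y i j a ∈ K) :
    K = ⊤ := by
  have h1 : K ⊔ center Γ = ⊤ := by
    refine eq_top_iff.2 (le_trans (fun g _ => ?_) (sup_le_sup_left h.ker_le _))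
    obtain ⟨s, hs⟩ := (cov_pr h.two).surj (f g)
    rw [← comap_map_eq, mem_comap, ← hs]
    exact (H26.sl_eq_top_of_transvection_mem ((K.map f).comap (pr F)) fun i j e c =>
      ⟨_, hK i j e c, by rw [h.map, T_eq e]⟩).ge (mem_top s)
  refine eq_top_iff.2 ((Group.IsPerfect.commutator_eq_top (G := Γ)).ge.trans ?_)
  rw [H52.commutator_eq_of_sup_center_eq_top h1]
  exact commutator_le.2 fun a ha b hb => mul_mem (mul_mem (mul_mem ha hb) (inv_mem ha)) (inv_mem hb)

theorem exists_ac (α : MulAut Γ) : ∃ m ε φ, Ac f y α m ε φ := by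
  let e : Γ ⧸ center Γ ≃* P3 F := (QuotientGroup.quotientMulEquivOfEq
    (le_antisymm h.center_le h.ker_le)).trans (QuotientGroup.quotientKerEquivOfSurjective f h.cov.surj)
  have he : ∀ g : Γ, e g = f g := fun _ => rfl
  clear_value e
  obtain ⟨m, ε, φ, k⟩ := aut_T h.two ((e.symm.trans (projAut α)).trans e)
  refine ⟨m, ε, φ, fun i j n a => (k i j n a).imp fun s hs => ⟨?_, hs.2⟩⟩
  rw [← hs.1, ← h.map, ← he (y i j a), MulEquiv.trans_apply, MulEquiv.trans_apply,
    e.symm_apply_apply, projAut_mk, he]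

theorem ac_inner {g : Γ} {s : S3 F} (e : f g = pr F s) :
    Ac f y (MulAut.conj g) (toGL s) false 1 := fun i j _ a =>
  ⟨_, by simp only [MulAut.conj_apply, map_mul, map_inv, e, h.map]; rfl, cj_inner s _⟩

variable {α : MulAut Γ} {m : GL (Fin 3) F} {ε : Bool} {φ : F ≃+* F}

theorem ac_mul (A : Ac f y α m ε φ) {g : Γ} {s : S3 F} (e : f g = pr F s) :
    Ac f y (MulAut.conj g * α) (toGL s * m) ε φ := fun i j n a =>
  let ⟨_, h1, h2⟩ := A i j n a
  ⟨_, by simp only [MulAut.mul_apply, MulAut.conj_apply, map_mul, map_inv, e, h1], h2.mul s⟩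

theorem fl_sq {i j : Fin 3} (n : i ≠ j) (a : F) : fl T ε i j a * fl T ε i j a = 1 := by
  cases ε
  exacts [T_sq h.two n a, T_sq h.two (Fin.rev_injective.ne n.symm) a]

theorem frame (A : Ac f y α m ε φ) {d : Fin 3 → Fˣ}
    (e : (m : Matrix (Fin 3) (Fin 3) F) = Matrix.diagonal fun i => (d i : F)) :
    ∃ d : Fin 3 → Fˣ, ∀ i j, i ≠ j → ∀ a, α (y i j a) = fl y ε i j (d i * ↑(d j)⁻¹ * φ a) := by
  cases ε
  · refine ⟨d, fun i j n a => ?_⟩
    obtain ⟨s, h1, h2⟩ := A i j n a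
    exact h.cov.eq_of_isPElt ((h.elt i j n a).map α.toMonoidHom) (h.elt i j n _)
      (by rw [h1, h2.uniq (cj_diag e n _)]; exact (h.map _ _ _).symm)
  · refine ⟨fun i => (d i.rev)⁻¹, fun i j n a => ?_⟩
    obtain ⟨s, h1, h2⟩ := A i j n a
    have n' := Fin.rev_injective.ne n.symm
    exact h.cov.eq_of_isPElt ((h.elt i j n a).map α.toMonoidHom) (h.elt _ _ n' _)
      (by rw [h1, h2.uniq (cj_diag e n' _), inv_inv, mul_comm (d _ : F)]; exact (h.map _ _ _).symm)

theorem cj_of (A : Ac f y α m ε φ) {i j : Fin 3} (n : i ≠ j) {a : F} {s : S3 F} (hs : IsPElt 2 s)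
    (e : f (α (y i j a)) = pr F s) : Cj m (fl T ε i j (φ a)) s := by
  obtain ⟨s', h1, h2⟩ := A i j n a
  rwa [(cov_pr h.two).eq_of_isPElt hs (pelt_of_sq (h2.sq (h.fl_sq n _))) (e.symm.trans h1)]

theorem upper (A : Ac f y α m ε φ) (h1 : ∃ a b c, α (y 0 1 1) = uu y a b c)
    (h2 : ∃ a b c, α (y 1 2 1) = uu y a b c) : Upper m := by
  obtain ⟨a, b, c, h1⟩ := h1
  obtain ⟨a', b', c', h2⟩ := h2
  have k1 := h.cj_of A (i := 0) (j := 1) (by decide) (pelt_uu h.two a b c) (by rw [h1, h.map_uu])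
  have k2 := h.cj_of A (i := 1) (j := 2) (by decide) (pelt_uu h.two a' b' c') (by rw [h2, h.map_uu])
  rw [map_one] at k1 k2
  cases ε
  exacts [up_of_norm k1 k2, up_of_norm k2 k1]

theorem frame_up (A : Ac f y α m ε φ) (u : Upper m) : ∃ a b c, ∃ d : Fin 3 → Fˣ, ∀ i j, i ≠ j → ∀ s,
    uu y a b c * α (y i j s) * (uu y a b c)⁻¹ = fl y ε i j (d i * ↑(d j)⁻¹ * φ s) := by
  obtain ⟨a, b, c, d, e⟩ := up_dec u
  exact ⟨a, b, c, h.frame (h.ac_mul A (h.map_uu a b c)) e⟩

/-- A `2`-element acting as an upper triangular matrix. -/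
theorem eq_one {g : Γ} {s : S3 F} (e : f g = pr F s) (u : Upper (toGL s)) :
    ∃ a b c, IsPElt 2 (uu y a b c * g) → uu y a b c * g = 1 := by
  obtain ⟨a, b, c, d, e'⟩ := up_dec u
  refine ⟨a, b, c, fun h2 => H27.End.eq_one_of_is2 h2 ?_⟩
  have h3 : (uu T a b c * s) ^ Nat.card Fˣ = 1 := Subtype.ext (by
    rw [← map_mul, Matrix.SpecialLinearGroup.coe_GL_coe_matrix] at e'
    rw [Matrix.SpecialLinearGroup.coe_pow, e',
      Matrix.diagonal_pow, Matrix.SpecialLinearGroup.coe_one, ← Matrix.diagonal_one]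
    congr 1
    ext i
    rw [Pi.pow_apply, ← Units.val_pow_eq_pow_val, pow_card_eq_one', Units.val_one])
  obtain ⟨k, hk⟩ := h2
  refine Odd.of_dvd_nat ?_ (orderOf_dvd_of_pow_eq_one (h.cov.coprime (_ ^ Nat.card Fˣ) ?_
    ⟨k, by rw [← pow_mul, mul_comm, pow_mul, hk, one_pow]⟩))
  · have := Fintype.ofFinite F
    have := CharTwo.of_one_ne_zero_of_two_eq_zero (one_ne_zero' F) h.two
    obtain ⟨n, -, hn⟩ := FiniteField.card F 2
    rw [Nat.card_units, Nat.card_eq_fintype_card, hn]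
    exact Nat.Even.sub_odd Nat.one_le_two_pow (Even.pow_of_ne_zero even_two n.2.ne') odd_one
  · rw [map_pow, map_mul, h.map_uu, e, ← map_mul, ← map_pow, h3, map_one]

end Lf

omit h in
theorem fr_N {G : Type u} [Group G] [Finite G] {x : Fin 3 → Fin 3 → F → G} {g : G}
    (e : Fr3 x g false 1) : g ∈ N[U3 x] := by
  obtain ⟨d, e⟩ := e
  refine mem_N_of_conj fun u hu => (sup_le ((closure_le _).2 ?_) ((closure_le _).2 ?_) :
    U3 x ≤ (U3 x).comap (MulAut.conj g).toMonoidHom) hu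
  · rintro _ ⟨j, n, a, rfl⟩
    exact mem_sup_left (subset_closure ⟨j, n, _, e _ _ n a⟩)
  · rintro _ ⟨j, n, a, rfl⟩
    exact mem_sup_right (subset_closure ⟨j, n, _, e _ _ n a⟩)

omit h in
theorem model (hp : PinStmt3.{u, v}) : ModelStmt.{u, v} := by
  rintro F _ _ G _ _ L two four hq ⟨e⟩
  have := hq.1
  let f : L →* P3 F := e.toMonoidHom.comp (QuotientGroup.mk' _)
  have hf : Function.Surjective f := e.surjective.comp (QuotientGroup.mk'_surjective _)
  have ho : ∀ z ∈ f.ker, Odd (orderOf z) := fun z hz =>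
    Nat.coprime_two_right.1 ((H3.pPrimeCore_coprime 2 L).coprime_dvd_left (orderOf_dvd_natCard _
      ((QuotientGroup.eq_one_iff z).1 ((map_eq_one_iff e e.injective).1 hz))))
  have hk : f.ker ≤ center L := (H52.IsQuasisimple.normal_eq_top_or_le_center hq _).resolve_left
    fun e' => by
      obtain ⟨g, hg⟩ := hf (pr F (T 0 1 1))
      exact one_ne_zero ((st_T two).inj 0 1 (by decide) 1 ((cov_pr two).coprime _
        (hg.symm.trans (e'.ge (mem_top g))) (pelt_of_sq (T_sq two (by decide) 1))))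
  obtain ⟨y, h⟩ := exists_lf two (f := f) ⟨hf, fun z hz g => (mem_center_iff.1 (hk hz) g).symm,
    fun z hz h2 => H27.End.eq_one_of_is2 h2 (ho z hz)⟩
  have s := h.st
  have s' : St3 fun i j a => (y i j a : G) := ⟨two, fun i j n a b => by rw [s.add i j n]; rfl,
    fun i j k a b c d e => congrArg Subtype.val (s.rel i j k a b c d e),
    fun i j k a b c d => congrArg Subtype.val (s.row i j k a b c d),
    fun i j k a b c d => congrArg Subtype.val (s.col i j k a b c d),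
    fun i j n a e => s.inj i j n a (Subtype.ext e)⟩
  have p := hp _ s'
  have mU : ∀ g, g ∈ U3 (fun i j a => (y i j a : G)) ↔ ∃ a b c, g = (uu y a b c : L) :=
    p.memY 0 1 2 (by decide) (by decide) (by decide)
  have UL : U3 (fun i j a => (y i j a : G)) ≤ L := fun g hg => by
    obtain ⟨a, b, c, rfl⟩ := (mU g).1 hg
    exact (uu y a b c).2
  have up : ∀ g (hg : g ∈ N[L]), g ∈ N[U3 fun i j a => (y i j a : G)] → ∀ {m ε φ},
      Ac f y (L.normalizerMonoidHom ⟨g, hg⟩) m ε φ → Upper m := fun g hg hU m ε φ A => h.upper A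
    (((mU _).1 (conj_mem hU (mem_sup_left (subset_closure ⟨1, by decide, 1, rfl⟩)))).imp fun _ =>
      Exists.imp fun _ => Exists.imp fun _ => Subtype.ext)
    (((mU _).1 (conj_mem hU (mem_sup_right (subset_closure ⟨1, by decide, 1, rfl⟩)))).imp fun _ =>
      Exists.imp fun _ => Exists.imp fun _ => Subtype.ext)
  have fr : ∀ g (hg : g ∈ N[L]) {m ε φ}, Ac f y (L.normalizerMonoidHom ⟨g, hg⟩) m ε φ → Upper m →
      ∃ u ∈ U3 fun i j a => (y i j a : G), Fr3 (fun i j a => (y i j a : G)) (u * g) ε φ :=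
    fun g hg m ε φ A u => by
      obtain ⟨a, b, c, d, k⟩ := h.frame_up A u
      refine ⟨_, (mU _).2 ⟨a, b, c, rfl⟩, d, fun i j n s => ?_⟩
      have := congrArg Subtype.val (k i j n s)
      refine Eq.trans ?_ (this.trans (by cases ε <;> rfl))
      change _ = _ * (g * _ * g⁻¹) * _⁻¹
      group
  have inn : ∀ l (hl : l ∈ L), ∃ s, f ⟨l, hl⟩ = pr F s ∧
      Ac f y (L.normalizerMonoidHom ⟨l, le_normalizer hl⟩) (toGL s) false 1 := fun l hl => by
    obtain ⟨s, hs⟩ := (cov_pr two).surj (f ⟨l, hl⟩)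
    exact ⟨s, hs.symm, h.ac_inner hs.symm⟩
  refine ⟨_, s', four, le_antisymm ((closure_le _).2 ?_) ?_, hq, fun z hz => ?_, ?_,
    fun l hl c c' hc e => ?_, fun l hl hU => ?_, fun g hg hU => ?_⟩
  · rintro _ ⟨i, j, -, a, rfl⟩
    exact (y i j a).2
  · exact subgroupOf_eq_top.1 (h.eq_top fun i j n a => subset_closure ⟨i, j, n, a, rfl⟩)
  · exact orderOf_mk z hz.1 ▸ ho ⟨z, hz.1⟩ (h.center_le (mem_center_iff.2 fun g =>
      Subtype.ext (hz.2 g g.2)))
  · obtain ⟨S, hS, le⟩ := H8.exists_isSylowIn_ge (p.two 0 2 (by decide)) UL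
    refine cast (congrArg (H8.IsSylowIn 2 · L) (le.eq_or_lt.resolve_right fun lt => ?_).symm) hS
    obtain ⟨g, hg, n⟩ := SetLike.exists_of_lt (H8.lt_inf_normalizer_of_lt hS.isPGroup lt)
    obtain ⟨s, hs, A⟩ := inn g (hS.le hg.1)
    obtain ⟨a, b, c, k⟩ := h.eq_one hs (up g _ hg.2 A)
    have m := (mU _).2 ⟨a, b, c, rfl⟩
    obtain ⟨r, hr⟩ := H27.End.is2_of_mem hS.isPGroup (mul_mem (le m) hg.1)
    have := congrArg Subtype.val (k ⟨r, Subtype.ext hr⟩)
    exact n ((eq_inv_of_mul_eq_one_right this : g = _) ▸ inv_mem m)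
  · obtain ⟨s, -, A⟩ := inn l hl
    obtain ⟨u, hu, k⟩ := fr l _ A (up_of_ti hc (h.cj_of A (i := 0) (j := 2) (a := c) (by decide)
      (pelt_of_sq (T_sq two (by decide) c')) ((congrArg f (Subtype.ext e)).trans (h.map 0 2 c'))))
    simpa using mul_mem (inv_mem (le_normalizer hu)) (fr_N k)
  · obtain ⟨s, -, A⟩ := inn l hl
    exact fr l _ A (up l _ hU A)
  · obtain ⟨m, ε, φ, A⟩ := h.exists_ac (L.normalizerMonoidHom ⟨g, hg⟩)
    obtain ⟨u, hu, k⟩ := fr g hg A (up g hg hU A)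
    exact ⟨u, hu, ε, φ, k⟩

end Cfsg.Agent.H43.L3
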