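import Cfsg.Agent.H37.FkKit
import Cfsg.Agent.H83.Syl
import Cfsg.Agent.H52.FStar
import Cfsg.Agent.H3.Fitting

/-!
# The Sylow 2-subgroup of the generalized Fitting subgroup
-/

set_option autoImplicit false

namespace Cfsg.Agent.H43.FkRed2

open Cfsg Subgroup
open H83 (IsSylowIn)

universe u

section
variable {G : Type*} [Group G] [Finite G] {p : ℕ} [Fact p.Prime]

theorem sylow_inf_sup {T X A B : Subgroup G} (hT : IsSylowIn p T X)
    (hB : B ≤ X) (hA' : X ≤ normalizer (A : Set G)) (hB' : X ≤ normalizer (B : Set G)) :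
    T ⊓ (A ⊔ B) ≤ (T ⊓ A) ⊔ (T ⊓ B) := by
  have hTB := hT.inf_normal hB hB'
  have hm : H83.PMod p (T ⊔ A) A := (H83.PMod.of_isPGroup hT.isPGroup A).sup_self (hT.le.trans hA')
  have h1 : B ⊓ (T ⊔ A) ≤ A ⊓ B ⊔ T ⊓ B := by
    refine hTB.le_sup_of_pMod' (H83.le_norm_inf (hB.trans hA') le_normalizer) inf_le_left ?_ ?_
    · exact (hm.mono inf_le_right le_rfl).inf (H83.PMod.of_le inf_le_left)
    · exact H83.le_norm_of_le
        ((le_inf inf_le_right (inf_le_left.trans le_sup_left)).trans le_sup_left)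
  have h2 : T ⊓ (A ⊔ B) ≤ T ⊓ B ⊔ A := by
    rintro x ⟨hx, hx'⟩
    obtain ⟨a, ha, b, hb, rfl⟩ := (H83.mem_sup_left_norm (hB.trans hA')).1 hx'
    have : b ∈ B ⊓ (T ⊔ A) := ⟨hb, by
      have := (T ⊔ A).mul_mem ((T ⊔ A).inv_mem (mem_sup_right ha)) (mem_sup_left hx)
      rwa [inv_mul_cancel_left] at this⟩
    have h4 : A ⊓ B ⊔ T ⊓ B ≤ T ⊓ B ⊔ A := sup_le (inf_le_left.trans le_sup_right) le_sup_left
    exact (T ⊓ B ⊔ A).mul_mem (mem_sup_right ha) (h4 (h1 this))
  have h3 := H83.dedekind (A := T ⊓ B) (N := A) (K := T) ((inf_le_left.trans hT.le).trans hA')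
    inf_le_left
  refine (le_inf h2 inf_le_left).trans ?_
  rw [h3, sup_comm, inf_comm A T]

theorem sylow_inf_sSup {T X N : Subgroup G} (hT : IsSylowIn p T X) (𝓐 : Set (Subgroup G))
    (h : ∀ A ∈ 𝓐, A ≤ X ∧ X ≤ normalizer (A : Set G) ∧ T ⊓ A ≤ N) : T ⊓ sSup 𝓐 ≤ N := by
  suffices h' : sSup 𝓐 ≤ X ∧ X ≤ normalizer ((sSup 𝓐 : Subgroup G) : Set G) ∧ T ⊓ sSup 𝓐 ≤ N from
    h'.2.2
  induction 𝓐, Set.toFinite 𝓐 using Set.Finite.induction_on with
  | empty => rw [sSup_empty]; exact ⟨bot_le, le_normalizer_of_normal, inf_le_right.trans bot_le⟩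
  | @insert A s _ _ ih =>
    obtain ⟨h1, h2, h3⟩ := ih fun B hB => h B (Set.mem_insert_of_mem _ hB)
    obtain ⟨h4, h5, h6⟩ := h A (Set.mem_insert _ _)
    rw [sSup_insert]
    exact ⟨sup_le h4 h1, H83.le_norm_sup h5 h2,
      (sylow_inf_sup hT h1 h5 h2).trans (sup_le h6 h3)⟩

end

theorem red2 : H37.FK.Red2Stmt.{u} := by
  intro G _ _ hO S
  have hF : fittingSubgroup G = pCore 2 G := H3.fitting_eq_pCore hO
  have hn : (generalizedFittingSubgroup G).Normal := by
    have := H52.layer_normal (G := G)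
    have : (fittingSubgroup G).Normal := by rw [hF]; infer_instance
    unfold generalizedFittingSubgroup
    infer_instance
  have hT := (H83.isSylowIn_top S).inf_normal (N := generalizedFittingSubgroup G) le_top
    le_normalizer_of_normal
  have e : generalizedFittingSubgroup G = sSup (insert (pCore 2 G) {K | IsComponent K}) := by
    rw [sSup_insert, generalizedFittingSubgroup, hF, sup_comm, layer]
  refine (le_inf le_rfl (inf_le_right.trans e.le)).trans (sylow_inf_sSup hT _ ?_)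
  rintro A (rfl | hA)
  · exact ⟨e ▸ le_sSup (Set.mem_insert _ _), le_normalizer_of_normal,
      inf_le_right.trans le_sup_left⟩
  · refine ⟨e ▸ le_sSup (Set.mem_insert_of_mem _ hA), H52.IsComponent.fstar_le_normalizer hA,
      le_sup_of_le_right (le_iSup₂_of_le A hA (inf_le_inf_right _ inf_le_left))⟩

end Cfsg.Agent.H43.FkRed2
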