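import Cfsg.Agent.H63.A8Defs
import Cfsg.Agent.H87.Transfer

/-!
# A standard subgroup of type `A₈`: the transfer step
-/

set_option autoImplicit false

namespace Cfsg.Agent.H43.A8Tr1

open Cfsg Cfsg.Agent.H63 Cfsg.Agent.H63.SL Cfsg.Agent.H63.A8 Subgroup
open Cfsg.Agent.H8 (IsSylowIn)
open Equiv (swap)
open Equiv.Perm (sign)
open scoped Pointwise

universe u

theorem vv_sq : ∀ k, (vv k).1 * (vv k).1 = 1 := by decide +kernel

/-- a Sylow subgroup of `S₈` whose central elements are conjugate to `z` -/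
theorem exists_sylow (f : F8) : ∃ P : Sylow 2 S8, ∀ p : S8, (∀ q ∈ (P : Subgroup S8), Commute p q) →
    p = 1 ∨ ∃ a : Alt, a.1 * p * a.1⁻¹ = z.1 := by
  let E : Subgroup S8 := centralizer {w.1, v.1, w2.1, c.1}
  have hE : ∀ p, p ∈ E ↔ Commute p w.1 ∧ Commute p v.1 ∧ Commute p w2.1 ∧ Commute p c.1 := by
    intro p
    simp only [E, mem_centralizer_iff, Set.mem_insert_iff, Set.mem_singleton_iff, forall_eq_or_imp,
      forall_eq]
    exact ⟨fun h => ⟨h.1.symm, h.2.1.symm, h.2.2.1.symm, h.2.2.2.symm⟩,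
      fun h => ⟨h.1.symm, h.2.1.symm, h.2.2.1.symm, h.2.2.2.symm⟩⟩
  have h2 : IsPGroup 2 E := fun p => ⟨1, Subtype.ext (by
    obtain ⟨h1, h2, h3, h4⟩ := (hE _).1 p.2
    obtain ⟨k, hk⟩ := f.cVV _ h1 h2 h3 h4
    change p.1 ^ 2 ^ 1 = 1
    rw [pow_one, sq, hk, vv_sq])⟩
  obtain ⟨P, hP⟩ := h2.exists_le_sylow
  refine ⟨P, fun p hp => ?_⟩
  have m1 : w.1 ∈ E := (hE _).2 (by unfold Commute SemiconjBy; decide +kernel)
  have m2 : v.1 ∈ E := (hE _).2 (by unfold Commute SemiconjBy; decide +kernel)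
  have m3 : w2.1 ∈ E := (hE _).2 (by unfold Commute SemiconjBy; decide +kernel)
  have m4 : c.1 ∈ E := (hE _).2 (by unfold Commute SemiconjBy; decide +kernel)
  obtain ⟨k, hk⟩ := f.cVV p (hp _ (hP m1)) (hp _ (hP m2)) (hp _ (hP m3)) (hp _ (hP m4))
  have hs : ∀ a : Alt, sign (a.1 * p * a.1⁻¹) = 1 := fun a =>
    Equiv.Perm.mem_alternatingGroup.1 (hk ▸ (cA a.1 (vv k)).2)
  obtain ⟨a, h | h | h | h | h⟩ := f.inv p (hk ▸ vv_sq k)
  · exact Or.inl h
  · have := hs a
    rw [h] at this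
    exact absurd this (by decide)
  · exfalso
    have h1 : ((a.1 • P : Sylow 2 S8) : Subgroup S8) ≤ C1[w.1] := by
      intro q hq
      rw [Sylow.coe_subgroup_smul, H8.mem_conj_smul] at hq
      rw [mem_centralizer_singleton_iff, ← h]
      have := (hp _ hq).eq
      calc q * (a.1 * p * a.1⁻¹) = a.1 * (a.1⁻¹ * q * a.1 * p) * a.1⁻¹ := by group
        _ = a.1 * (p * (a.1⁻¹ * q * a.1)) * a.1⁻¹ := by rw [this]
        _ = a.1 * p * a.1⁻¹ * q := by group
    exact (a.1 • P).not_dvd_index (f.cls.2.2.two_dvd.trans (index_dvd_of_le h1))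
  · have := hs a
    rw [h] at this
    exact absurd this (by decide)
  · exact Or.inr ⟨a, h⟩

theorem tr1 : Tr1Stmt.{u} := by
  intro f G _ _ ι π t h k X R hz j hj hD
  obtain ⟨P, hP⟩ := exists_sylow f
  have tt : ∀ g, t * (t * g) = g := fun g => by rw [← mul_assoc, h.t2, one_mul]
  have ti : t⁻¹ = t := inv_eq_of_mul_eq_one_right h.t2
  have jt : ∀ p, j p * t = t * j p := fun p => (hj.com p).eq
  let T0 : Subgroup G :=
    { carrier := {g | ∃ p ∈ (P : Subgroup S8), g = j p ∨ g = t * j p}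
      one_mem' := ⟨1, one_mem _, Or.inl (map_one j).symm⟩
      mul_mem' := by
        rintro _ _ ⟨p, hp, rfl | rfl⟩ ⟨q, hq, rfl | rfl⟩ <;> refine ⟨p * q, mul_mem hp hq, ?_⟩
        · exact Or.inl (map_mul j p q).symm
        · exact Or.inr (by rw [map_mul, ← mul_assoc, jt, mul_assoc])
        · exact Or.inr (by rw [map_mul, mul_assoc])
        · exact Or.inl (by rw [map_mul, mul_assoc, ← mul_assoc (j p), jt, mul_assoc, tt])
      inv_mem' := by
        rintro _ ⟨p, hp, rfl | rfl⟩ <;> refine ⟨p⁻¹, inv_mem hp, ?_⟩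
        · exact Or.inl (map_inv j p).symm
        · exact Or.inr (by rw [mul_inv_rev, ti, ← map_inv, jt]) }
  have mT : ∀ g, g ∈ T0 ↔ ∃ p ∈ (P : Subgroup S8), g = j p ∨ g = t * j p := fun _ => Iff.rfl
  have jT : ∀ p ∈ (P : Subgroup S8), j p ∈ T0 := fun p hp => ⟨p, hp, Or.inl rfl⟩
  have tT : t ∈ T0 := ⟨1, one_mem _, Or.inr (by rw [map_one, mul_one])⟩
  have cT : ∀ g ∈ T0, Commute g t := by
    rintro _ ⟨p, -, rfl | rfl⟩
    · exact hj.com p
    · exact (Commute.refl t).mul_left (hj.com p)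
  have πt : ∀ p, π (t * j p) = p := fun p => by
    rw [h.mul _ _ (Commute.refl t) (hj.com p), k.pt, hj.sec, one_mul]
  have pT : IsPGroup 2 T0 := by
    rintro ⟨g, p, hp, hg⟩
    obtain ⟨n, hn⟩ := P.isPGroup' ⟨p, hp⟩
    have h1 : p ^ 2 ^ n = 1 := congrArg Subtype.val hn
    have h2 : g ^ 2 = j p ^ 2 := by
      rcases hg with rfl | rfl
      · rfl
      · rw [(hj.com p).symm.mul_pow, sq t, h.t2, one_mul]
    refine ⟨n + 1, Subtype.ext ?_⟩
    change g ^ 2 ^ (n + 1) = 1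
    rw [pow_succ', pow_mul, h2, ← pow_mul, mul_comm, pow_mul, ← map_pow, h1, map_one, one_pow]
  obtain ⟨F, hF⟩ := k.hom
  have hS : IsSylowIn 2 T0 ⊤ := by
    refine H8.isSylowIn_of_maximal le_top pT fun Q hQ _ hle => ?_
    by_contra hne
    have h1 := H8.lt_inf_normalizer_of_lt hQ (lt_of_le_of_ne hle fun e => hne e.ge)
    have h2 : ∀ x ∈ Q ⊓ normalizer (T0 : Set G), Commute x t := by
      intro x hx
      have h3 : IsConj t (x * t * x⁻¹) := isConj_iff.2 ⟨x, rfl⟩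
      obtain ⟨p, hp, e | e⟩ := (mem_normalizer_iff.1 hx.2 t).1 tT
      · exact absurd (e ▸ h3) (hD p)
      have h4 : ∀ q ∈ (P : Subgroup S8), Commute p q := fun q hq => by
        have h5 := (cT _ ((mem_normalizer_iff''.1 hx.2 _).1 (jT q hq))).eq
        have h6 : x * t * x⁻¹ * j q = j q * (x * t * x⁻¹) := by
          calc x * t * x⁻¹ * j q = x * (t * (x⁻¹ * j q * x)) * x⁻¹ := by group
            _ = x * (x⁻¹ * j q * x * t) * x⁻¹ := by rw [h5]
            _ = j q * (x * t * x⁻¹) := by group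
        rw [e, mul_assoc, ← mul_assoc (j q), jt, mul_assoc, ← map_mul, ← map_mul] at h6
        have := congrArg π h6
        rwa [πt, πt] at this
      rcases hP p h4 with rfl | ⟨a, ha⟩
      · rw [map_one, mul_one] at e
        exact mul_inv_eq_iff_eq_mul.1 e
      · refine absurd (h3.trans (isConj_iff.2 ⟨j a.1, ?_⟩)) hz
        rw [e, ← hj.ext z, ← ha, map_mul, map_mul, map_inv, ← mul_assoc, jt]
        group
    let Q1 : Subgroup C1[t] := (Q ⊓ normalizer (T0 : Set G)).subgroupOf _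
    have h3 : IsPGroup 2 (Q1.map F) := (hQ.to_inf_left.comap_subtype).map F
    have h4 : Q1.map F = P := P.is_maximal' h3 fun p hp =>
      ⟨⟨j p, mem_centralizer_singleton_iff.2 (hj.com p).eq⟩, h1.le (jT p hp), by rw [hF, hj.sec]⟩
    refine h1.not_ge fun x hx => ?_
    have h5 : π x ∈ (P : Subgroup S8) :=
      h4.le ⟨⟨x, mem_centralizer_singleton_iff.2 (h2 x hx).eq⟩, hx, hF _⟩
    have h6 : x * (j (π x))⁻¹ ∈ Q ⊓ normalizer (T0 : Set G) :=
      mul_mem hx (inv_mem (h1.le (jT _ h5)))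
    obtain ⟨n, hn⟩ := hQ ⟨_, h6.1⟩
    have h7 : π (x * (j (π x))⁻¹) = 1 := by
      rw [h.mul _ _ (h2 x hx) (hj.com _).inv_left, k.inv _ (hj.com _), hj.sec, mul_inv_cancel]
    rcases h.r2 _ (h2 _ h6) h7 ⟨n, congrArg Subtype.val hn⟩ with e | e
    · exact ⟨_, h5, Or.inl (mul_inv_eq_one.1 e)⟩
    · exact ⟨_, h5, Or.inr (mul_inv_eq_iff_eq_mul.1 e)⟩
  have hN := R.nrm
  have htX : t ∉ X := by
    intro ht
    have hX : X = ⊤ := by
      rw [← R.gen, left_eq_sup, zpowers_le]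
      exact ht
    have hJ : ∀ p, t * j p ∉ (P : Subgroup S8).map j := by
      rintro p ⟨q, -, e⟩
      refine hD (q * p⁻¹) ?_
      rw [map_mul, map_inv, e, mul_inv_cancel_right]
    obtain ⟨K, hK, h1, h2⟩ := H87.thompson_transfer_involution (H := T0)
      (M := (P : Subgroup S8).map j) (x := t)
      (Nat.not_even_iff_odd.1 fun e => hS.toSylowTop.not_dvd_index e.two_dvd)
      (relIndex_eq_two_iff.2 ⟨t, tT, by
        rintro _ ⟨p, hp, rfl | rfl⟩
        · exact Or.inr ⟨⟨p, hp, rfl⟩, by rw [jt]; exact hJ p⟩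
        · exact Or.inl ⟨⟨p, hp, by rw [mul_assoc, jt, tt]⟩, hJ p⟩⟩)
      (by rw [sq, h.t2]) (by
        rintro g ⟨p, -, e⟩
        exact hD p (isConj_iff.2 ⟨g, e.symm⟩))
    have := R.simple
    rcases (inferInstance : (K.subgroupOf X).Normal).eq_bot_or_eq_top with e | e
    · have hb : ∀ g ∈ K, g = 1 := fun g hg => congrArg Subtype.val
        (mem_bot.1 (e.le (show (⟨g, hX ▸ mem_top g⟩ : X) ∈ K.subgroupOf X from hg)))
      have h3 : ι z ∉ K := fun e' => absurd (h.inj ((hb _ e').trans (map_one ι).symm))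
        (by decide +kernel)
      have h4 := hb _ ((mul_mem_iff_of_index_two h1).2 (iff_of_false h2 h3))
      exact k.tn z (by rw [← tt (ι z), h4, mul_one])
    · exact h2 (e.ge (mem_top (⟨t, ht⟩ : X)))
  have hX2 : ∀ g, g ∈ X ∨ t * g ∈ X := fun g => by
    have hg : g ∈ zpowers t ⊔ X := by rw [sup_comm, R.gen]; exact mem_top g
    obtain ⟨_, ⟨n, rfl⟩, x, hx, rfl⟩ := mem_sup_of_normal_right.1 hg
    have h2 : t ^ (2 : ℤ) = 1 := by rw [zpow_two, h.t2]
    rcases Int.even_or_odd' n with ⟨m, rfl | rfl⟩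
    · left
      simpa [zpow_mul, h2] using hx
    · right
      simpa [zpow_add, zpow_mul, h2, tt] using hx
  have hT := H8.isSylowIn_inf_normal hS.toSylowTop X
  refine ⟨htX, hT.toSylow, fun P' => ?_⟩
  let φ : (hT.toSylow : Subgroup X) →* S8 := F.comp
    ((X.subtype.comp (hT.toSylow : Subgroup X).subtype).codRestrict _ fun g =>
      mem_centralizer_singleton_iff.2 (cT _ g.2.1).eq)
  have hφ : ∀ g, φ g = π g.1.1 := fun g => hF _
  have h1 : Function.Injective φ := by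
    rw [injective_iff_map_eq_one]
    intro g hg
    rw [hφ] at hg
    obtain ⟨p, -, e | e⟩ := (mT _).1 g.2.1
    · have e' : g.1.1 = j p := e
      rw [e', hj.sec] at hg
      exact Subtype.ext (Subtype.ext (by rw [e', hg, map_one]; rfl))
    · have e' : g.1.1 = t * j p := e
      rw [e', πt] at hg
      rw [hg, map_one, mul_one] at e'
      exact absurd (e' ▸ g.1.2) htX
  have h2 : φ.range = P := by
    refine le_antisymm ?_ fun p hp => ?_
    · rintro _ ⟨g, rfl⟩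
      rw [hφ]
      obtain ⟨p, hp, e | e⟩ := (mT _).1 g.2.1
      · have e' : g.1.1 = j p := e
        rwa [e', hj.sec]
      · have e' : g.1.1 = t * j p := e
        rwa [e', πt]
    · rcases hX2 (j p) with e | e
      · exact ⟨⟨⟨_, e⟩, jT p hp, e⟩, (hφ _).trans (hj.sec p)⟩
      · exact ⟨⟨⟨_, e⟩, mul_mem tT (jT p hp), e⟩, (hφ _).trans (πt p)⟩
  exact ⟨((MonoidHom.ofInjective h1).trans (MulEquiv.subgroupCongr h2)).trans (P.equiv P')⟩

end Cfsg.Agent.H43.A8Tr1
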