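import Cfsg.Agent.H42.HtDefs
import Cfsg.Agent.H3.Cores

/-!
# The quotient of `N = Mr w r` by `⟨w, r⟩` times the odd core
-/

set_option autoImplicit false

namespace Cfsg.Agent.H43.HtQuo

open Cfsg Cfsg.Agent.H63 Cfsg.Agent.H63.SL Cfsg.Agent.H42.HT Subgroup

universe u

variable {G : Type u} [Group G]

/-- The subgroup `⟨w, r⟩`. -/
theorem exists_R {w r : G} (w2 : w * w = 1) (rw' : Commute r w) (r2 : r * r = 1 ∨ r * r = w)
    (hn : ∀ n : G, Commute n w ∧ (n * r * n⁻¹ = r ∨ n * r * n⁻¹ = r * w)) :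
    ∃ R : Subgroup G, R.Normal ∧ (∀ x, x ∈ R ↔ Rr w r x) ∧ ∀ x ∈ R, x ^ 4 = 1 := by
  have e1 : w * r = r * w := rw'.eq.symm
  have e2 : w * (r * w) = r := by rw [← mul_assoc, e1, mul_assoc, w2, mul_one]
  have e3 : r * w * w = r := by rw [mul_assoc, w2, mul_one]
  have e4 : r * (r * w) = r * r * w := (mul_assoc _ _ _).symm
  have e5 : r * w * r = r * r * w := by rw [mul_assoc, e1, e4]
  have e6 : r * w * (r * w) = r * r := by rw [mul_assoc, e2]
  have hm : ∀ {a b}, Rr w r a → Rr w r b → Rr w r (a * b) := by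
    rintro a b (rfl | h | h | h) hb
    · rwa [one_mul]
    all_goals
      rw [h]
      rcases hb with k | k | k | k <;> rw [k] <;> rcases r2 with r2 | r2 <;>
        simp only [Rr, mul_one, one_mul, w2, e1, e2, e3, e4, e5, e6, r2, true_or, or_true]
  have h4 : ∀ x, Rr w r x → x ^ 4 = 1 := fun x hx => by
    rw [show x ^ 4 = x * x * (x * x) by simp only [pow_succ, pow_zero, one_mul, mul_assoc]]
    rcases hx with k | k | k | k <;> rw [k] <;> rcases r2 with r2 | r2 <;>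
      simp only [mul_one, w2, e6, r2]
  refine ⟨⟨⟨⟨{x | Rr w r x}, hm⟩, Or.inl rfl⟩, fun {x} hx => ?_⟩, ⟨fun x hx g => ?_⟩,
    fun _ => Iff.rfl, h4⟩
  · have : x⁻¹ = x * x * x := inv_eq_of_mul_eq_one_right (by
      rw [← h4 x hx]; simp only [pow_succ, pow_zero, one_mul, mul_assoc])
    exact this ▸ hm (hm hx hx) hx
  · have a1 : Rr w r (g * w * g⁻¹) := by
      rw [(hn g).1.eq, mul_inv_cancel_right]; exact Or.inr (Or.inl rfl)
    have a2 : Rr w r (g * r * g⁻¹) := Or.inr (Or.inr (hn g).2)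
    rcases hx with k | k | k | k <;> rw [k]
    · exact Or.inl (by group)
    · exact a1
    · exact a2
    · rw [show g * (r * w) * g⁻¹ = g * r * g⁻¹ * (g * w * g⁻¹) by group]
      exact hm a2 a1

theorem eq_one_of {x : G} {m k : ℕ} (hm : Odd m) (h1 : x ^ m = 1) (h2 : x ^ 2 ^ k = 1) : x = 1 :=
  orderOf_eq_one_iff.1 (Nat.eq_one_of_dvd_coprimes
    (Nat.Coprime.pow_right k (Nat.coprime_two_right.2 hm)) (orderOf_dvd_of_pow_eq_one h1)
    (orderOf_dvd_of_pow_eq_one h2))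

/-- A normal subgroup which is a central extension of exponent four by a group of odd order. -/
theorem exists_Y [Finite G] {R O : Subgroup G} [O.Normal] (h4 : ∀ x ∈ R, x ^ 4 = 1)
    (hc : ∀ x ∈ R, ∀ n ∈ O, Commute x n) (hi : Odd (R.relIndex O)) :
    ∃ Y : Subgroup G, Y.Normal ∧ Odd (Nat.card Y) ∧ Y ≤ O ∧
      ∀ n ∈ O, ∃ x ∈ R, ∃ y ∈ Y, n = x * y := by
  have : (R.subgroupOf O).Normal := ⟨fun x hx g => by
    have : g * x * g⁻¹ = x := mul_inv_eq_iff_eq_mul.2 (Subtype.ext (hc x hx g g.2).symm.eq)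
    rwa [this]⟩
  have hp : IsPGroup 2 (R.subgroupOf O) := fun x =>
    ⟨2, Subtype.ext (Subtype.ext (h4 _ x.2))⟩
  obtain ⟨k, hk⟩ := IsPGroup.iff_card.1 hp
  obtain ⟨K, hK⟩ := exists_right_complement'_of_coprime (N := R.subgroupOf O) (by
    rw [hk]; exact Nat.Coprime.pow_left k (Nat.coprime_two_left.2 hi))
  have hY : Odd (Nat.card (K.map O.subtype)) := by
    rw [card_map_of_injective O.subtype_injective, ← hK.symm.index_eq_card]; exact hi
  have dec : ∀ n ∈ O, ∃ x ∈ R, ∃ y ∈ K.map O.subtype, n = x * y := fun n hn => by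
    obtain ⟨⟨x, y⟩, e, -⟩ := hK.existsUnique ⟨n, hn⟩
    exact ⟨x.1, x.2, y.1, ⟨y.1, y.2, rfl⟩, (congrArg Subtype.val e).symm⟩
  have pw : ∀ y ∈ K.map O.subtype, y ^ Nat.card (K.map O.subtype) = 1 := fun y hy =>
    congrArg Subtype.val (pow_card_eq_one' (x := (⟨y, hy⟩ : K.map O.subtype)))
  refine ⟨_, ⟨fun y hy g => ?_⟩, hY, map_subtype_le _, dec⟩
  obtain ⟨x, hx, y', hy', e⟩ := dec _ (‹O.Normal›.conj_mem y (map_subtype_le _ hy) g)
  have e1 := congrArg (· ^ Nat.card (K.map O.subtype)) e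
  simp only [conj_pow, pw y hy, (hc x hx y' (map_subtype_le _ hy')).mul_pow, pw y' hy', mul_one,
    mul_inv_cancel] at e1
  rwa [e, eq_one_of (k := 2) hY e1.symm (h4 x hx), one_mul]

theorem quo : QuoStmt.{u} := by
  intro _ G _ _ β τ w r h hn oz
  obtain ⟨R, hR, mR, h4⟩ := exists_R h.w2 h.rw h.r2 hn
  let f := (QuotientGroup.mk' (oddCore (G ⧸ R))).comp (QuotientGroup.mk' R)
  have hk : f.ker = (oddCore (G ⧸ R)).comap (QuotientGroup.mk' R) := by
    rw [← MonoidHom.comap_ker, QuotientGroup.ker_mk']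
  have ho : Odd (Nat.card (oddCore (G ⧸ R))) :=
    Nat.coprime_two_right.1 (H3.pPrimeCore_coprime 2 _)
  have le : R ≤ f.ker := fun x hx => by
    rw [hk, mem_comap, QuotientGroup.mk'_apply, (QuotientGroup.eq_one_iff x).2 hx]
    exact one_mem _
  have cR : ∀ {n : G}, Commute n r → ∀ x ∈ R, Commute x n := fun {n} k x hx => by
    rcases (mR x).1 hx with e | e | e | e <;> rw [e]
    exacts [Commute.one_left _, (hn n).1.symm, k.symm, k.symm.mul_left (hn n).1.symm]
  have cr : ∀ n, f n = 1 → Commute n r := fun n k => by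
    have k1 : (n : G ⧸ R) ∈ oddCore (G ⧸ R) := mem_comap.1 (hk.le k)
    have k2 : n ^ Nat.card (oddCore (G ⧸ R)) ∈ R := (QuotientGroup.eq_one_iff _).1
      (congrArg Subtype.val (pow_card_eq_one' (x := (⟨_, k1⟩ : oddCore (G ⧸ R)))))
    have k3 : Commute (n ^ 2) r := by
      refine mul_inv_eq_iff_eq_mul.1 ?_
      rw [show n ^ 2 * r * (n ^ 2)⁻¹ = n * (n * r * n⁻¹) * n⁻¹ by rw [sq]; group]
      rcases (hn n).2 with e | e <;> rw [e]
      · exact e
      · rw [show n * (r * w) * n⁻¹ = n * r * n⁻¹ * (n * w * n⁻¹) by group, e, (hn n).1.eq,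
          mul_inv_cancel_right, mul_assoc, h.w2, mul_one]
    obtain ⟨j, hj⟩ := ho
    have k4 := cR (Commute.refl r) _ k2
    rw [hj, pow_succ, pow_mul] at k4
    simpa using (k3.pow_left j).inv_left.mul_left k4
  have hi : Odd (R.relIndex f.ker) := by
    have := relIndex_comap ⊥ (QuotientGroup.mk' R) f.ker
    rw [MonoidHom.comap_bot, QuotientGroup.ker_mk', hk,
      map_comap_eq_self_of_surjective (QuotientGroup.mk'_surjective R), relIndex_bot_left] at this
    rwa [hk, this]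
  obtain ⟨Y, hY, oY, lY, dec⟩ := exists_Y h4 (fun x hx n k => cR (cr n k) x hx) hi
  have pw : ∀ y ∈ Y, y ^ Nat.card Y = 1 := fun y hy =>
    congrArg Subtype.val (pow_card_eq_one' (x := (⟨y, hy⟩ : Y)))
  have cY := oz Y oY (fun y _ => mem_centralizer_singleton_iff.2 (hn y).1)
    (by rw [normalizer_eq_top]; exact le_top)
  refine ⟨_, inferInstance, f, (QuotientGroup.mk'_surjective _).comp
    (QuotientGroup.mk'_surjective _), H3.pPrimeCore_quotient_pPrimeCore 2 _,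
    le ((mR w).2 (Or.inr (Or.inl rfl))), le ((mR r).2 (Or.inr (Or.inr (Or.inl rfl)))), cr,
    fun n k σ => ?_, fun n k ⟨j, hj⟩ => ?_, fun a b ha hb e => ?_⟩
  · obtain ⟨x, hx, y, hy, rfl⟩ := dec n k
    exact (cR (h.cr σ).symm x hx).mul_left (mem_centralizer_iff.1 (cY σ) y hy)
  · obtain ⟨x, hx, y, hy, rfl⟩ := dec n k
    have e1 : (x * y) ^ (2 ^ j * 4) = 1 := by rw [pow_mul, hj, one_pow]
    rw [(cR (cr y (lY hy)) x hx).mul_pow, mul_comm (2 ^ j), pow_mul x, h4 x hx, one_pow, one_mul,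
      show 4 * 2 ^ j = 2 ^ (j + 2) by ring] at e1
    rw [eq_one_of oY (pw y hy) e1, mul_one]
    exact (mR x).1 hx
  · obtain ⟨x, hx, y, hy, e1⟩ := dec (a⁻¹ * b) (by
      rw [MonoidHom.mem_ker, map_mul, map_inv, e, inv_mul_cancel])
    have e2 : b = a * x * y := by rw [mul_assoc, ← e1, mul_inv_cancel_left]
    have m1 : a * x * (a * x) ∈ R := by
      rw [show a * x * (a * x) = a * x * a⁻¹ * (a * a) * x by group, ha, mul_one]
      exact R.mul_mem (hR.conj_mem x hx a) hx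
    obtain ⟨j, hj⟩ := id oY
    refine ⟨y ^ (j + 1), lY (Y.pow_mem hy _), x, (mR x).1 hx, ?_⟩
    generalize a * x = c at e2 m1 ⊢
    have m2 : c * c ∈ Y := by
      rw [show c * c = c * y * (c * y) * (y⁻¹ * (c⁻¹ * y⁻¹ * c⁻¹⁻¹)) by group, ← e2, hb, one_mul]
      exact Y.mul_mem (Y.inv_mem hy) (hY.conj_mem _ (Y.inv_mem hy) _)
    have e3 : c * c = 1 := eq_one_of (k := 2) oY (pw _ m2) (h4 _ m1)
    have e4 : SemiconjBy c y⁻¹ y := by
      change c * y⁻¹ = y * c
      calc c * y⁻¹ = (c * c) * c⁻¹ * (c * y * (c * y))⁻¹ * (c * y * c) := by group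
        _ = y * c := by rw [e3, show c * y * (c * y) = 1 by rw [← e2, hb]]; group
    have e5 := pw y hy
    rw [hj] at e5
    rw [e2, ← mul_assoc, ← (e4.pow_right (j + 1)).eq]
    calc _ = c * (y ^ (2 * j + 1))⁻¹ := by group
      _ = c := by rw [e5, inv_one, mul_one]

end Cfsg.Agent.H43.HtQuo
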