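import Mathlib
import Cfsg.Agent.H74.CksDefs

/-!
# Minimal uncovered sets of nodes
-/

set_option autoImplicit false

namespace Cfsg.Agent.H43.CksM

open Cfsg.Agent.H35 Cfsg.Agent.Lead.T3 Cfsg.Agent.H74.Cks

section general

variable {G : Type} [Group G]

theorem conj_mem {T K : Subgroup G} (h : T ≤ Subgroup.normalizer (K : Set G)) {t x : G}
    (ht : t ∈ T) (hx : x ∈ K) : t * x * t⁻¹ ∈ K :=
  (Subgroup.mem_normalizer_iff.1 (h ht) x).1 hx

theorem le_norm {T K : Subgroup G} (h : ∀ t ∈ T, ∀ x ∈ K, t * x * t⁻¹ ∈ K) :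
    T ≤ Subgroup.normalizer (K : Set G) := by
  intro t ht
  rw [Subgroup.mem_normalizer_iff]
  intro x
  refine ⟨h t ht x, fun hx => ?_⟩
  have := h t⁻¹ (inv_mem ht) _ hx
  simpa [mul_assoc] using this

theorem norm_sup {T K L : Subgroup G} (hK : T ≤ Subgroup.normalizer (K : Set G))
    (hL : T ≤ Subgroup.normalizer (L : Set G)) :
    T ≤ Subgroup.normalizer ((K ⊔ L : Subgroup G) : Set G) := by
  refine le_norm fun t ht x hx => ?_
  have : K ⊔ L ≤ (K ⊔ L).comap (MulAut.conj t).toMonoidHom := by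
    refine sup_le (fun y hy => ?_) (fun y hy => ?_)
    · exact Subgroup.mem_sup_left (conj_mem hK ht hy)
    · exact Subgroup.mem_sup_right (conj_mem hL ht hy)
  exact this hx

theorem norm_inf {T K L : Subgroup G} (hK : T ≤ Subgroup.normalizer (K : Set G))
    (hL : T ≤ Subgroup.normalizer (L : Set G)) :
    T ≤ Subgroup.normalizer ((K ⊓ L : Subgroup G) : Set G) :=
  le_norm fun _ ht _ hx => ⟨conj_mem hK ht hx.1, conj_mem hL ht hx.2⟩

/-- Elements of `X ⊔ M` when `X` normalises `M`. -/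
theorem mem_sup_of_norm {X M : Subgroup G} (h : X ≤ Subgroup.normalizer (M : Set G)) {u : G}
    (hu : u ∈ X ⊔ M) : ∃ x ∈ X, ∃ m ∈ M, u = x * m := by
  let S : Subgroup G :=
    { carrier := {u | ∃ x ∈ X, ∃ m ∈ M, u = x * m}
      one_mem' := ⟨1, one_mem _, 1, one_mem _, by simp⟩
      mul_mem' := by
        rintro _ _ ⟨x, hx, m, hm, rfl⟩ ⟨y, hy, n, hn, rfl⟩
        refine ⟨x * y, mul_mem hx hy, (y⁻¹ * m * y⁻¹⁻¹) * n,
          mul_mem (conj_mem h (inv_mem hy) hm) hn, by group⟩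
      inv_mem' := by
        rintro _ ⟨x, hx, m, hm, rfl⟩
        exact ⟨x⁻¹, inv_mem hx, x * m⁻¹ * x⁻¹, conj_mem h hx (inv_mem hm), by group⟩ }
  have : X ⊔ M ≤ S := sup_le (fun x hx => ⟨x, hx, 1, one_mem _, by simp⟩)
    (fun m hm => ⟨1, one_mem _, m, hm, by simp⟩)
  exact this hu

/-- Normalisers grow in a finite `p`-group. -/
theorem exists_norm [Finite G] {p : ℕ} [Fact p.Prime] {U M : Subgroup G} (hU : IsPGroup p U)
    (h : M < U) : ∃ x ∈ U, x ∉ M ∧ x ∈ Subgroup.normalizer (M : Set G) := by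
  have : Group.IsNilpotent U := hU.isNilpotent
  have hnc : NormalizerCondition U := Group.normalizerCondition_of_isNilpotent
  have hlt : M.subgroupOf U < ⊤ := by
    rw [lt_top_iff_ne_top, Ne, Subgroup.subgroupOf_eq_top]
    exact not_le_of_gt h
  obtain ⟨x, hx, hxM⟩ := SetLike.exists_of_lt (hnc _ hlt)
  refine ⟨x, x.2, hxM, ?_⟩
  rw [Subgroup.mem_normalizer_iff]
  intro y
  rw [Subgroup.mem_normalizer_iff] at hx
  constructor
  · intro hy
    exact (hx ⟨y, h.le hy⟩).1 hy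
  · intro hy
    have hyU : y ∈ U := by
      have := U.mul_mem (U.mul_mem (U.inv_mem x.2) (h.le hy)) x.2
      simpa [mul_assoc] using this
    exact (hx ⟨y, hyU⟩).2 hy

/-- An element that centralises a supplement of `M` and acts without fixed points on another
subgroup forces the latter into `M`. -/
theorem le_of_fpf [Finite G] {U M X Y : Subgroup G} {t : G}
    (hM : U ≤ Subgroup.normalizer (M : Set G)) (htM : t ∈ Subgroup.normalizer (M : Set G))
    (hY : Y ⊔ M = U) (hc : ∀ y ∈ Y, t * y = y * t) (hX : X ≤ U)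
    (htX : t ∈ Subgroup.normalizer (X : Set G)) (hf : ∀ x ∈ X, t * x = x * t → x = 1) :
    X ≤ M := by
  have hYU : Y ≤ U := hY ▸ le_sup_left
  have key : ∀ u ∈ U, u⁻¹ * (t * u * t⁻¹) ∈ M := by
    intro u hu
    rw [← hY] at hu
    obtain ⟨y, hy, m, hm, rfl⟩ := mem_sup_of_norm (hYU.trans hM) hu
    have h1 : (y * m)⁻¹ * (t * (y * m) * t⁻¹) = m⁻¹ * (t * m * t⁻¹) := by
      have := hc y hy
      calc (y * m)⁻¹ * (t * (y * m) * t⁻¹) = m⁻¹ * (y⁻¹ * (t * y) * m * t⁻¹) := by group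
        _ = m⁻¹ * (y⁻¹ * (y * t) * m * t⁻¹) := by rw [this]
        _ = m⁻¹ * (t * m * t⁻¹) := by group
    rw [h1]
    exact mul_mem (inv_mem hm) ((Subgroup.mem_normalizer_iff.1 htM m).1 hm)
  let f : X → X := fun x => ⟨(x : G)⁻¹ * (t * x * t⁻¹),
    mul_mem (inv_mem x.2) ((Subgroup.mem_normalizer_iff.1 htX x).1 x.2)⟩
  have hinj : Function.Injective f := by
    intro a b hab
    have h1 : (a : G)⁻¹ * (t * a * t⁻¹) = (b : G)⁻¹ * (t * b * t⁻¹) := congrArg Subtype.val hab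
    have h2 : t * ((a : G) * (b : G)⁻¹) = ((a : G) * (b : G)⁻¹) * t := by
      calc t * ((a : G) * (b : G)⁻¹)
          = a * ((a : G)⁻¹ * (t * a * t⁻¹)) * t * (b : G)⁻¹ := by group
        _ = a * ((b : G)⁻¹ * (t * b * t⁻¹)) * t * (b : G)⁻¹ := by rw [h1]
        _ = ((a : G) * (b : G)⁻¹) * t := by group
    have h3 := hf _ (mul_mem a.2 (inv_mem b.2)) h2
    exact Subtype.ext (mul_inv_eq_one.1 h3)
  have hsurj := Finite.surjective_of_injective hinj
  intro x hx
  obtain ⟨a, ha⟩ := hsurj ⟨x, hx⟩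
  have : x = (a : G)⁻¹ * (t * a * t⁻¹) := (congrArg Subtype.val ha).symm
  rw [this]
  exact key _ (hX a.2)

/-- The order of a semidirect product. -/
theorem card_eq_mul [Finite G] {U M X : Subgroup G} (hM : U ≤ Subgroup.normalizer (M : Set G))
    (hs : X ⊔ M = U) (hi : X ⊓ M = ⊥) : Nat.card U = Nat.card X * Nat.card M := by
  have hXU : X ≤ U := hs ▸ le_sup_left
  have hMU : M ≤ U := hs ▸ le_sup_right
  rw [← Nat.card_prod]
  symm
  refine Nat.card_eq_of_bijective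
    (fun z : X × M => (⟨z.1 * z.2, mul_mem (hXU z.1.2) (hMU z.2.2)⟩ : U)) ⟨?_, ?_⟩
  · rintro ⟨a, m⟩ ⟨b, n⟩ h
    have h1 : (a : G) * m = b * n := congrArg Subtype.val h
    have h2 : (b : G)⁻¹ * a = n * (m : G)⁻¹ := by
      calc (b : G)⁻¹ * a = (b : G)⁻¹ * (a * m) * (m : G)⁻¹ := by group
        _ = n * (m : G)⁻¹ := by rw [h1]; group
    have h3 : (b : G)⁻¹ * a ∈ X ⊓ M :=
      ⟨X.mul_mem (X.inv_mem b.2) a.2, h2 ▸ M.mul_mem n.2 (M.inv_mem m.2)⟩
    rw [hi, Subgroup.mem_bot] at h3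
    have h4 : a = b := Subtype.ext (inv_mul_eq_one.1 h3).symm
    subst h4
    have h5 : m = n := Subtype.ext (mul_left_cancel h1)
    rw [h5]
  · rintro ⟨u, hu⟩
    have hu' := hu
    rw [← hs] at hu'
    obtain ⟨x, hx, m, hm, rfl⟩ := mem_sup_of_norm (hXU.trans hM) hu'
    exact ⟨(⟨x, hx⟩, ⟨m, hm⟩), rfl⟩

end general

section sys

variable {G : Type} [Group G] {p n : ℕ} (S : Sys G p n)

theorem B_norm_Q (J : Finset (Fin n)) : S.B ≤ Subgroup.normalizer (S.Q J : Set G) :=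
  (BN.B_le_PJ _).trans (S.sp.U_normal _)

theorem B_norm_U : S.B ≤ Subgroup.normalizer (S.U : Set G) :=
  (BN.B_le_PJ _).trans (S.sp.U_normal _)

theorem U_le_B : S.U ≤ S.B := S.sp.U_le _

theorem X_le_U (i : Fin n) : S.X i ≤ S.U := by
  exact le_sup_left.trans (S.X_sup i).le

theorem Q_le_U (J : Finset (Fin n)) : S.Q J ≤ S.U := S.anti _ _ (Finset.empty_subset _)

end sys

/-- **MINJ** -/
theorem minj (bas : Bas1Stmt) : MinjStmt := by
  intro G _ _ _ p n _ S hgen H hTH J hnf hmn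
  obtain ⟨-, -, -, -, -, hB, -, -, hQ, -, -, hXQ, -⟩ := bas S
  have hTB : S.T ≤ S.B := inf_le_left
  let A : Set (Subgroup G) := {M | (H ⊓ S.U) ⊔ S.Q J ≤ M ∧ M < S.U ∧
    S.T ≤ Subgroup.normalizer (M : Set G)}
  have h0 : (H ⊓ S.U) ⊔ S.Q J ∈ A := by
    refine ⟨le_rfl, lt_of_le_of_ne (sup_le inf_le_right (Q_le_U S J)) hnf, ?_⟩
    refine norm_sup (norm_inf (hTH.trans Subgroup.le_normalizer) (hTB.trans (B_norm_U S)))
      (hTB.trans (B_norm_Q S J))
  obtain ⟨M, hM, hmax⟩ := (Set.toFinite A).exists_maximal ⟨_, h0⟩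
  obtain ⟨hle, hlt, hT⟩ := hM
  have hbig : ∀ K : Subgroup G, M ≤ K → K ≤ S.U → S.T ≤ Subgroup.normalizer (K : Set G) →
      ¬ K ≤ M → K = S.U := by
    intro K h1 h2 h3 h4
    by_contra hne
    exact h4 (hmax ⟨hle.trans h1, lt_of_le_of_ne h2 hne, h3⟩ h1)
  have hU : S.U ≤ Subgroup.normalizer (M : Set G) := by
    obtain ⟨x, hxU, hxM, hxN⟩ := exists_norm (S.sp.U_pgroup ∅) hlt
    have := hbig (S.U ⊓ Subgroup.normalizer (M : Set G)) (le_inf hlt.le Subgroup.le_normalizer)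
      inf_le_left (norm_inf (hTB.trans (B_norm_U S)) (hT.trans Subgroup.le_normalizer))
      (fun h => hxM (h ⟨hxU, hxN⟩))
    exact this ▸ inf_le_right
  refine ⟨M, hnf, hmn, hle, hlt, ?_, ?_⟩
  · intro b hb
    obtain ⟨u, hu, t, ht, rfl⟩ := hB b hb
    exact mul_mem (hU hu) (hT ht)
  · intro i hi
    refine hbig _ le_sup_right (sup_le (X_le_U S i) hlt.le) (norm_sup (S.X_T i) hT) fun h => ?_
    have hXM : S.X i ≤ M := le_sup_left.trans h
    have hK : J.erase i ⊂ J := Finset.erase_ssubset hi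
    have hfull : (H ⊓ S.U) ⊔ S.Q (J.erase i) = S.U := hmn _ hK
    have hQM : S.Q (J.erase i) ≤ M := by
      intro x hx
      let N : Subgroup G := M ⊓ S.Q (J.erase i)
      let L : Subgroup G := ⨆ l ∈ J.erase i, S.X l
      have hUN : S.U ≤ Subgroup.normalizer (N : Set G) :=
        norm_inf hU ((U_le_B S).trans (B_norm_Q S _))
      have hLU : L ≤ S.U := iSup₂_le fun l _ => X_le_U S l
      have hsup : S.U ≤ L ⊔ N := by
        rw [← hgen]
        refine iSup_le fun l => ?_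
        by_cases hl : l ∈ J.erase i
        · exact le_sup_of_le_left (le_iSup₂_of_le l hl le_rfl)
        · refine le_sup_of_le_right (le_inf ?_ (hXQ _ l hl))
          by_cases hli : l = i
          · exact hli ▸ hXM
          · have hlJ : l ∉ J := fun h => hl (Finset.mem_erase.2 ⟨hli, h⟩)
            exact (hXQ J l hlJ).trans (le_sup_right.trans hle)
      obtain ⟨l, hl, m, hm, rfl⟩ := mem_sup_of_norm (hLU.trans hUN) (hsup (Q_le_U S _ hx))
      have hl1 : l ∈ S.Q (J.erase i) := by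
        have := mul_mem hx (inv_mem hm.2)
        simpa using this
      have hl2 : l ∈ (S.bn.B ⊓ S.bn.N) ⊔ ⨆ a ∈ J.erase i, (S.X a ⊔ cn (S.e a) (S.X a)) := by
        refine Subgroup.mem_sup_right ?_
        have : L ≤ ⨆ a ∈ J.erase i, (S.X a ⊔ cn (S.e a) (S.X a)) :=
          iSup₂_le fun a ha => le_iSup₂_of_le a ha le_sup_left
        exact this hl
      have hl3 : l ∈ (⊥ : Subgroup G) := by
        rw [← S.levi (J.erase i)]
        exact ⟨hl2, hl1⟩
      rw [Subgroup.mem_bot] at hl3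
      rw [hl3, one_mul]
      exact hm.1
    have : S.U ≤ M := by
      rw [← hfull]
      exact sup_le (le_sup_left.trans hle) hQM
    exact not_le_of_gt hlt this

section tf

variable {G : Type} [Group G] [Finite G] {p n : ℕ} {S : Sys G p n} {H M : Subgroup G}
  {J : Finset (Fin n)}

/-- A torus element cannot centralise `X j` and be fixed point free on `X i`. -/
theorem no_fpf (h : S.MinJ H J M) {i j : Fin n} (hi : i ∈ J) (hj : j ∈ J) {t : G} (ht : t ∈ S.T)
    (hc : ∀ y ∈ S.X j, t * y = y * t) (hf : ∀ x ∈ S.X i, t * x = x * t → x = 1) : False := by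
  have h1 : S.X i ≤ M := le_of_fpf ((U_le_B S).trans h.nB) (h.nB ht.1) (h.sup j hj) hc
    (X_le_U S i) (S.X_T i ht) hf
  have h2 := h.sup i hi
  rw [sup_eq_right.2 h1] at h2
  exact h.lt.ne h2

omit [Finite G] in
theorem cent_of_two {i j : Fin n} (hm : S.m i j = 2) {t : G} (ht : t ∈ S.L i) :
    ∀ y ∈ S.X j, t * y = y * t :=
  fun y hy => S.cm2 i j hm t ht y (Subgroup.mem_sup_left hy)

omit [Finite G] in
theorem cent_of_two' {i j : Fin n} (hm : S.m i j = 2) {t : G} (ht : t ∈ S.L j) :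
    ∀ y ∈ S.X i, t * y = y * t :=
  fun y hy => (S.cm2 i j hm y (Subgroup.mem_sup_left hy) t ht).symm

omit [Finite G] in
theorem x_zero {F : Type} [Field F] {x : Fin 3 → Fin 3 → F → G} (r : StRel x) {a b : Fin 3}
    (hab : a ≠ b) : x a b 0 = 1 := by
  have := r.add a b hab 0 0
  rw [add_zero] at this
  exact left_eq_mul.1 this

omit [Finite G] in
theorem x_fpf {F : Type} [Field F] {x : Fin 3 → Fin 3 → F → G} (r : StRel x) {a b : Fin 3}
    (hab : a ≠ b) {X : Subgroup G} (hX : ∀ g, g ∈ X ↔ ∃ t, x a b t = g) {t : G} {c : F}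
    (hc : c ≠ 1) (ht : ∀ s, t * x a b s * t⁻¹ = x a b (c * s)) :
    ∀ y ∈ X, t * y = y * t → y = 1 := by
  intro y hy hty
  obtain ⟨s, rfl⟩ := (hX y).1 hy
  have h1 : x a b (c * s) = x a b s := by
    rw [← ht s, hty]; group
  have h2 : x a b (c * s - s) = 1 := by
    have := r.add a b hab (c * s - s) s
    rw [sub_add_cancel, h1] at this
    exact right_eq_mul.1 this
  have h3 := r.inj a b hab _ h2
  have h4 : s = 0 := by
    have : (c - 1) * s = 0 := by rw [← h3]; ring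
    exact (mul_eq_zero.1 this).resolve_left (sub_ne_zero.2 hc)
  rw [h4, x_zero r hab]

theorem card_U (torq : TorqStmt) [IsSimpleGroup G] [Fact p.Prime] (hP : S.Planes)
    (h : S.MinJ H J M) {i k : Fin n} (hi : i ∈ J) (hm : S.m i k = 3) :
    Nat.card S.U = S.q i * Nat.card M := by
  obtain ⟨F, _, _, ⟨D⟩⟩ := hP i k hm
  obtain ⟨-, -, -, -, -, h2⟩ := torq S i k hm F D
  refine card_eq_mul ((U_le_B S).trans h.nB) (h.sup i hi) ?_
  rw [eq_bot_iff]
  rintro y ⟨hy, hyM⟩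
  obtain ⟨s, rfl⟩ := (D.m01 y).1 hy
  rw [Subgroup.mem_bot]
  by_cases hs : s = 0
  · rw [hs, x_zero D.rel (by decide)]
  exfalso
  have h1 : S.X i ≤ M := by
    intro z hz
    obtain ⟨u, rfl⟩ := (D.m01 z).1 hz
    by_cases hu : u = 0
    · rw [hu, x_zero D.rel (by decide)]
      exact one_mem _
    obtain ⟨t, ht, ht1, -⟩ := h2 (s / u) (div_ne_zero hs hu)
    have h3 := conj_mem h.nB ht.1.1 hyM
    rw [ht1] at h3
    have : (s / u)⁻¹ * s = u := by field_simp
    rwa [this] at h3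
  have h3 := h.sup i hi
  rw [sup_eq_right.2 h1] at h3
  exact h.lt.ne h3

end tf

theorem card_two {F : Type} [Field F] [Finite F] (h : ∀ c : F, c ≠ 0 → c = 1) :
    Nat.card F = 2 := by
  rw [Nat.card_eq_two_iff]
  refine ⟨0, 1, zero_ne_one, ?_⟩
  ext c
  simp only [Set.mem_insert_iff, Set.mem_singleton_iff, Set.mem_univ, iff_true]
  by_cases hc : c = 0
  · exact Or.inl hc
  · exact Or.inr (h c hc)

theorem card_le_three {F : Type} [Field F] [Finite F] (h : ∀ c : F, c ≠ 0 → c ^ 2 = 1) :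
    Nat.card F ≤ 3 := by
  classical
  have h1 : (Set.univ : Set F) ⊆ {0, 1, -1} := by
    intro c _
    simp only [Set.mem_insert_iff, Set.mem_singleton_iff]
    by_cases hc : c = 0
    · exact Or.inl hc
    · exact Or.inr (sq_eq_one_iff.1 (h c hc))
  rw [← Set.ncard_univ]
  refine (Set.ncard_le_ncard h1 (Set.toFinite _)).trans ?_
  refine (Set.ncard_insert_le _ _).trans ?_
  have := Set.ncard_insert_le (1 : F) {-1}
  rw [Set.ncard_singleton] at this
  omega

/-- **TF** -/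
theorem tf (torq : TorqStmt) : TfStmt := by
  intro G _ _ _ p n _ S hP H J M h i hi j hj
  refine ⟨fun k hik hkj => ?_, fun k hik hij => ?_, fun k l hik hjl => ?_, fun hij hq => ?_,
    fun hij => ?_⟩
  · obtain ⟨F, _, _, ⟨D⟩⟩ := hP i k hik
    obtain ⟨hq, -, -, -, -, h2⟩ := torq S i k hik F D
    rw [hq]
    refine card_two fun c hc => ?_
    by_contra hc1
    obtain ⟨t, ht, ht1, -⟩ := h2 c hc
    exact no_fpf h hi hj ht.1 (cent_of_two hkj ht.2)
      (x_fpf D.rel (by decide) D.m01 (fun h => hc1 (inv_eq_one.1 h)) ht1)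
  · obtain ⟨F, _, _, ⟨D⟩⟩ := hP i k hik
    obtain ⟨hq, -, -, -, h1, -⟩ := torq S i k hik F D
    rw [hq]
    refine card_le_three fun c hc => ?_
    by_contra hc1
    obtain ⟨t, ht, ht1, -⟩ := h1 c hc
    exact no_fpf h hi hj ht.1 (cent_of_two hij ht.2) (x_fpf D.rel (by decide) D.m01 hc1 ht1)
  · have h1 := card_U torq hP h hi hik
    have h2 := card_U torq hP h hj hjl
    rw [h1] at h2
    exact Nat.eq_of_mul_eq_mul_right Nat.card_pos h2
  · obtain ⟨F, _, _, ⟨D⟩⟩ := hP i j hij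
    obtain ⟨hq', -, -, -, h1, -⟩ := torq S i j hij F D
    have hF : Nat.card F = 3 := hq' ▸ hq
    have hne : (-1 : F) ≠ 1 := by
      intro h11
      have h2 : (2 : F) = 0 := by linear_combination -h11
      have := Fintype.ofFinite F
      have h3 : ((Fintype.card F : ℕ) : F) = 0 := FiniteField.cast_card_eq_zero F
      rw [← Nat.card_eq_fintype_card, hF] at h3
      have h4 : (1 : F) = 0 := by
        have h5 : (3 : F) = 0 := by exact_mod_cast h3
        linear_combination h5 - h2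
      exact one_ne_zero h4
    obtain ⟨t, ht, ht1, ht2⟩ := h1 (-1) (neg_ne_zero.2 one_ne_zero)
    refine no_fpf h hj hi ht.1 ?_
      (x_fpf D.rel (by decide) D.m12 (by rwa [inv_neg_one]) ht2)
    intro y hy
    obtain ⟨s, rfl⟩ := (D.m01 y).1 hy
    have := ht1 s
    rw [neg_one_sq, one_mul] at this
    exact mul_inv_eq_iff_eq_mul.1 this
  · rintro ⟨t, ht, hf⟩
    exact no_fpf h hj hi ht.1 (cent_of_two' hij ht.2) hf

end Cfsg.Agent.H43.CksM
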