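import Cfsg.Agent.H73.CVKit
import Cfsg.Agent.H60.C6A1
import Cfsg.Agent.H54.C6H3

/-! # Project CV: no homology in odd characteristic (pieces H3 and A1) -/

set_option autoImplicit false
set_option linter.style.haveILetI false

namespace Cfsg.Agent.H43.CvA1

open Matrix Cfsg.Geo Cfsg.Agent.H26 Polynomial
open Cfsg.Agent.H25 Cfsg.Agent.H73.CV
open Cfsg.Agent.H25.CU (qF hf subSU qF_eq hf_eq)
open Cfsg.Agent.H25.C6 hiding Fld Mod Bc Low Ar Tri StdStmt NrmStmt EsStmt GeoStmt TpStmt TvStmt OddStmt ZsStmt H3bStmt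
  H3cStmt H3dStmt H3Stmt A1Stmt K0Stmt SwStmt PrimStmt RealStmt BigStmt SmallStmt ClsStmt A2Stmt CopStmt Tv5Stmt
  LiftStmt KbStmt KoddStmt UqStmt One
open Cfsg.Agent.H54.C6H3 (isTv_emb tv_sl tv_su sM_map det_sM)
open Cfsg.Agent.H25.C6.H60A1 (hom_conj gauss)
open scoped MatrixGroups

universe u

/-- the argument over an extension containing a cube root of `l⁻¹` -/
theorem aux (hb : H3bStmt.{u}) (hc : H3cStmt.{u}) (hd : H3dStmt.{u}) {F K : Type u} [Field F]
    [Field K] [Fintype K] (f : F →+* K) {r p : ℕ} {γ l : F} (hA : Ar r p (f γ) (f l)) {c : K}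
    (c3 : c ^ 3 * f l = 1) (hn : f l = -1 → c = -1) (Γ : Subgroup (GL (Fin 3) F))
    (hΓ : ∀ i, HasMat Γ (sM r γ l i)) : ∃ g ∈ Γ, L45.IsTv g := by
  choose g hg hg' using hΓ
  have c0 : c ≠ 0 := by
    rintro rfl
    simp at c3
  let s : Fin 3 → GL (Fin 3) K := fun i =>
    GeneralLinearGroup.map f (g i) * scal (Fin 3) (Units.mk0 c c0)
  have hs : ∀ i, (s i).1 = c • sM r (f γ) (f l) i := fun i => by
    have : (GeneralLinearGroup.map f (g i)).1 = sM r (f γ) (f l) i := by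
      rw [← sM_map, ← hg']
      rfl
    simp only [s, Units.val_mul, this, coe_scal, Units.val_mk0, Matrix.mul_smul, Matrix.mul_one]
  have hT : Tri r p (f γ) (f l) c s := ⟨hA, c3, hn, hs⟩
  have hS : Subgroup.closure (Set.range s) ≤ specialLinear (Fin 3) K := by
    rw [Subgroup.closure_le]
    rintro _ ⟨i, rfl⟩
    change s i ∈ specialLinear (Fin 3) K
    rw [mem_SL_iff, hs, det_smul, det_sM, Fintype.card_fin, c3]
  have hle : Subgroup.closure (Set.range s) ≤
      Γ.map (GeneralLinearGroup.map f) ⊔ scalars (Fin 3) K := by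
    rw [Subgroup.closure_le]
    rintro _ ⟨i, rfl⟩
    exact mem_sup_scalars.2 ⟨_, ⟨g i, hg i, rfl⟩, _, rfl⟩
  obtain ⟨d1, d2, d3, d4⟩ := hd K r p _ _ c s hT
  have key : ∃ τ ∈ Subgroup.closure (Set.range s), L45.IsTv τ := by
    rcases struct3 hS d1 with ⟨D, hD, k⟩ | ⟨L, hL, k⟩ | ⟨x, y, z, h1, h2, k⟩ | k
    · exact absurd k (d2 D hD)
    · exact absurd k (d3 L hL)
    · exact absurd k (hb K r p _ _ c s hT x y z h1 h2)
    rcases k with ⟨F₁, B, k1, -, -⟩ | ⟨F₁, σ, h, B, hf, -, k1, -, -⟩ | ⟨b, -, hb', k, -⟩ |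
      ⟨P, -, hP, k1, k2, -⟩ | ⟨P, hP, k1, k2, -⟩ | ⟨P, hP, -, k1, k2, -⟩
    · obtain ⟨t, ht, ht'⟩ := tv_sl F₁
      exact ⟨_, k1 ⟨t, ht, rfl⟩, isTv_emb _ B ht'⟩
    · obtain ⟨t, ht, ht'⟩ := tv_su hf
      exact ⟨_, k1 ⟨t, ht, rfl⟩, isTv_emb _ B ht'⟩
    · exact absurd k (d4 b hb')
    · exact absurd ⟨hP, k2⟩ (hc K r p _ _ c s hT P k1).1
    · exact absurd ⟨hP, k2⟩ (hc K r p _ _ c s hT P k1).2.1
    · exact absurd ⟨hP, k2⟩ (hc K r p _ _ c s hT P k1).2.2
  obtain ⟨τ, hτ, ht⟩ := key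
  obtain ⟨_, ⟨x, hx, rfl⟩, κ, rfl⟩ := mem_sup_scalars.1 (hle hτ)
  haveI := hA.char
  obtain ⟨n, -, hq⟩ := FiniteField.card K p
  have h1 : (GeneralLinearGroup.map f x * scal (Fin 3) κ) ^ Fintype.card K = 1 := by
    obtain ⟨m, hm⟩ : p ∣ Fintype.card K := hq ▸ dvd_pow_self p n.ne_zero
    rw [hm, pow_mul, L45.IsTv.pow_char ht, one_pow]
  have h2 : κ ^ Fintype.card K = κ := Units.ext (by
    rw [Units.val_pow_eq_pow_val, FiniteField.pow_card])
  rw [mul_scal_pow, h2, ← map_pow] at h1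
  rw [eq_inv_of_mul_eq_one_right h1, ← map_inv, ← map_mul] at ht
  exact ⟨_, mul_mem hx (inv_mem (pow_mem hx _)), L45.isTv_of_map f ht⟩

/-- Piece H3. -/
theorem h3 (hb : H3bStmt.{u}) (hc : H3cStmt.{u}) (hd : H3dStmt.{u}) : H3Stmt.{u} := by
  intro F _ _ r p γ l hA Γ hΓ
  by_cases hl : l = -1
  · exact aux hb hc hd (RingHom.id F) (c := -1) hA (by simp [hl]; norm_num) (fun _ => rfl) Γ hΓ
  obtain ⟨m, hm, hlm⟩ := hA.ord
  have l0 : l ≠ 0 := by
    rintro rfl
    rw [zero_pow hm.ne_zero] at hlm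
    exact zero_ne_one hlm
  let P : F[X] := X ^ 3 - C l⁻¹
  let K := P.SplittingField
  haveI : Finite K := Module.finite_of_finite F
  letI : Fintype K := Fintype.ofFinite K
  let f : F →+* K := algebraMap F K
  have hdeg : (P.map f).degree ≠ 0 := by
    rw [degree_map, degree_X_pow_sub_C (by norm_num)]
    norm_num
  obtain ⟨c, hc3⟩ := (SplittingField.splits P).exists_eval_eq_zero hdeg
  have c3 : c ^ 3 * f l = 1 := by
    simp only [P, Polynomial.map_sub, Polynomial.map_pow, map_X, map_C, eval_sub, eval_pow, eval_X,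
      eval_C, sub_eq_zero] at hc3
    rw [hc3, ← map_mul, inv_mul_cancel₀ l0, map_one]
  have hl' : f l ≠ -1 := fun e => hl (f.injective (by rw [e, map_neg, map_one]))
  haveI := hA.char
  refine aux hb hc hd f (c := c) ⟨hA.prime, charP_of_injective_ringHom f.injective p, hA.two, hA.pr,
    ?_, fun e => hA.ne (f.injective (by rw [e, map_one])), ⟨m, hm, by rw [← map_pow, hlm, map_one]⟩,
    fun e => absurd e hl'⟩ c3 (fun e => absurd e hl') Γ hΓ
  rw [← map_mul, hA.gam, map_neg, map_natCast]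

/-- **A1** -/
theorem a1 (h3 : H3Stmt.{u}) (hx : H3xStmt.{u}) : A1Stmt.{u} := by
  intro F _ _ r n p _ ω G M p2 c hc
  by_contra c1
  obtain ⟨m, hm, k, hk⟩ := Nat.exists_prime_and_dvd (mt orderOf_eq_one_iff.1 c1)
  have o0 := orderOf_pos c
  have k0 : k ≠ 0 := by rintro rfl; omega
  have lm : ((c ^ k : Fˣ) : F) ^ m = 1 := by
    rw [← Units.val_pow_eq_pow_val, ← pow_mul, mul_comm, ← hk, pow_orderOf_eq_one, Units.val_one]
  have l1 : ((c ^ k : Fˣ) : F) ≠ 1 := fun e => pow_ne_one_of_lt_orderOf k0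
    (by have := hm.two_le; rw [hk]; nlinarith [Nat.pos_of_ne_zero k0]) (Units.val_eq_one.1 e)
  have h0 : HasMat G (1 + (((c ^ k : Fˣ) : F) - 1) • vecMulVec (Pi.single 0 1) (Pi.single 0 1)) := by
    refine ⟨_, pow_mem hc k, ?_⟩
    rw [← map_pow]
    change diagonal _ = _
    ext i j
    by_cases hi : i = 0 <;> by_cases hj : j = 0 <;>
      simp [diagonal_apply, vecMulVec_apply, one_apply, hi, hj, eq_comm (a := (0 : ZMod r))]
  have hl : gD (Function.update 1 0 (c ^ k)) ∈ G := by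
    convert pow_mem hc k using 1
    rw [← map_pow]
    congr 1
    funext i
    by_cases hi : i = 0 <;> simp [hi]
  generalize c ^ k = l at lm l1 h0 hl
  have := M.fld.char
  have pp := M.fld.prime
  have hr : r = 7 ∨ r = 11 := M.fld.rn.imp And.left And.left
  have r0 : (r : F) ≠ 0 := M.fld.cast_ne
  have t0 : (2 : F) ≠ 0 := M.fld.two_ne p2
  have exc : (l : F) = -1 → p ≠ 7 := fun e => by
    obtain rfl : l = -1 := Units.ext e
    obtain rfl := M.fld.r11
    rintro rfl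
    obtain ⟨g, hg, tv⟩ := hx F ω G (by exact_mod_cast CharP.cast_eq_zero F 7) M.fld.ord M.toGen hl
    exact M.notv g hg tv
  have pω : IsPrimitiveRoot (ω : F) r :=
    IsPrimitiveRoot.coe_units_iff.2 (M.fld.ord ▸ IsPrimitiveRoot.orderOf ω)
  obtain ⟨g1, g2⟩ := gauss hr pω
  let ψ := AddChar.zmodChar r pω.pow_eq_one
  have hψ : ∀ b, ∑ i, ψ (i * b) = if b = 0 then (r : F) else 0 := fun b => by
    rw [AddChar.sum_mulShift b (AddChar.zmodChar_primitive_of_primitive_root r pω), ZMod.card]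
    split_ifs <;> simp
  have eW : (gW r ω).1 = of fun i j => ψ (i * j) := by
    have e : mW r ω = of fun i j => ψ (i * j) := Matrix.ext fun i j => Units.val_pow_eq_pow_val _ _
    have : IsUnit (mW r ω) := IsUnit.of_mul_eq_one (of fun i j => (r : F)⁻¹ * ψ (-(i * j))) (by
      ext i j
      have := hψ (i - j)
      simp only [e, mul_apply, of_apply, mul_left_comm _ (r : F)⁻¹, ← AddChar.map_add_eq_mul,
        ← Finset.mul_sum, one_apply]
      rw [Finset.sum_congr rfl fun x _ => congrArg ψ (show i * x + -(x * j) = x * (i - j) by ring),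
        hψ]
      simp only [sub_eq_zero]
      split_ifs <;> simp [r0])
    rw [gW, dif_pos this, IsUnit.unit_spec, e]
  have eU : (gU r ω).1 = diagonal fun i => ψ (i * i) :=
    congrArg diagonal (funext fun i => Units.val_pow_eq_pow_val _ _)
  have h1 := hom_conj (v' := fun _ => 1) (φ' := fun _ => (r : F)⁻¹) h0 M.w
    (by ext i; simp [eW]) (by
      ext j
      simp only [eW, vecMul, dotProduct, of_apply, ← Finset.mul_sum, hψ, Pi.single_apply]
      split_ifs <;> simp [r0])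
  have h2 := hom_conj (v' := fun i => ψ (i * i)) (φ' := fun i => (r : F)⁻¹ * ψ (-(i * i))) h1 M.u
    (by ext i; simp [eU, mulVec_diagonal]) (by
      ext i; simp [eU, vecMul_diagonal, mul_assoc, ← AddChar.map_add_eq_mul])
  change (∑ i, ψ (i * i)) * ∑ i, ψ (i * i) = _ at g1
  change ∑ i, ψ (-(i * i)) = -∑ i, ψ (i * i) at g2
  obtain ⟨g, hg, tv⟩ := C6.H60A1.emb (G := G) l.ne_zero (A := aM r (∑ i, ψ (i * i)))
    (v := ![Pi.single 0 1, fun _ => 1, fun i => ψ (i * i)])
    (φ := ![Pi.single 0 1, fun _ => (r : F)⁻¹, fun i => (r : F)⁻¹ * ψ (-(i * i))])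
    (by
      have e : (aM r (∑ i, ψ (i * i))).det * r = r - 3 := by
        generalize ∑ i, ψ (i * i) = γ at g1
        simp [aM, det_fin_three]
        field_simp
        linear_combination g1
      intro e0
      rw [e0, zero_mul] at e
      rcases hr with rfl | rfl
      · exact pow_ne_zero 2 t0 (by push_cast at e; linear_combination -e)
      · exact pow_ne_zero 3 t0 (by push_cast at e; linear_combination -e))
    (fun i => by fin_cases i <;> rfl)
    (fun i j => by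
      fin_cases i <;> fin_cases j <;>
        simp [aM, dotProduct, Pi.single_apply, ← Finset.mul_sum, r0, g2, mul_comm _ (r : F)⁻¹,
          mul_assoc, ← AddChar.map_add_eq_mul])
    (fun i => by fin_cases i; exacts [h0, h1, h2])
    (h3 F r p _ l ⟨pp, this, p2, M.fld.pr, g1, l1, ⟨m, hm, lm⟩, exc⟩)
  exact M.notv g hg tv

end Cfsg.Agent.H43.CvA1
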