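import Cfsg.Agent.H45.GdDefs

/-! Project CY, chapter IV: lines leaving a big maximal subspace are anisotropic. -/

set_option autoImplicit false

namespace Cfsg.Agent.H43.CyA2

open Subgroup MulAction Cfsg.Agent.H11.Cy Cfsg.Agent.H45.Iv Cfsg.Agent.H45.Gd
open scoped commutatorElement

theorem a2 : A2Stmt := by
  intro hS G _ _ Ω _ _ p A mx mk yp a1 Ψ hΨ hE y hy x hx r hr hrZ hrr
  have bs := mx.bs
  have sk := mx.sk
  have hyx : y ≠ x := fun e => hx (e ▸ hy)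
  obtain ⟨la, lb, lc, -⟩ := mx.ls y x hyx
  have hA : A y ≠ ⊥ := fun e => by
    have := bs.card y
    rw [e, card_bot] at this
    exact bs.pp.one_lt.ne this
  obtain ⟨⟨a, ha⟩, ha1⟩ := ne_bot_iff_exists_ne_one.1 hA
  replace ha1 : a ≠ 1 := fun e => ha1 (Subtype.ext e)
  obtain ⟨⟨z, hz⟩, hz1⟩ := ne_bot_iff_exists_ne_one.1 hE
  replace hz1 : z ≠ 1 := fun e => hz1 (Subtype.ext e)
  have zz : z * z = 1 := (mk.gd Ψ hΨ).2.1 z hz
  have za : Commute a z := (sk.cs Ψ z).1 hz.2 y hy a ha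
  obtain ⟨s, hs, h0⟩ := lc.surj a ha ha1 r hr
  have RF : Rl A y x ≤ Fl A y x := la.sup ▸ le_sup_left
  have aF : a ∈ Fl A y x := mem_sup_left ha
  have hc : s * a * s⁻¹ ∈ A (s • y) := bs.eqv s y a ha
  have t2 : ⁅a, s⁆ * ⁅a, s⁆ = 1 := by
    have h1 : Commute r (r⁻¹ * ⁅a, s⁆) := h0.2 r (RF hr)
    have h2 := lc.zsq _ h0
    have h3 : ⁅a, s⁆ = r * (r⁻¹ * ⁅a, s⁆) := by group
    generalize r⁻¹ * ⁅a, s⁆ = w at h1 h2 h3
    rw [h3, h1.symm.mul_mul_mul_comm, hrr, h2, one_mul]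
  have hL : s • y ∈ Ln A y x := fun b hb => by
    have h1 := bs.eqv s⁻¹ _ b hb
    rw [inv_smul_smul, inv_inv] at h1
    have h2 := mul_mem (mul_mem (RF hs) (mem_sup_left h1 : _ ∈ Fl A y x)) (inv_mem (RF hs))
    simpa [mul_assoc] using h2
  have hne : y ≠ s • y := fun e => by
    have h1 : Commute a s := (lb.stab s hs y (sk.ln y x).1 e.symm).2 a aF
    rw [h1.commutator_eq, mul_one] at h0
    exact hrZ ((inv_mem_iff).1 h0)
  have hx2 : s • y ∉ Ψ := fun h => hx (hΨ.1 y hy _ h hne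
    ((sk.sp y x hyx y (sk.ln y x).1 _ hL hne).2.2 ▸ (sk.ln y x).2))
  have hc1 : s * a * s⁻¹ ≠ 1 := fun e => ha1 (conj_eq_one_iff.1 e)
  have hτ : s * a * s⁻¹ * a⁻¹ * (s * a * s⁻¹ * a⁻¹) = 1 := by
    rw [← inv_eq_one, ← t2, commutatorElement_def]; group
  generalize s * a * s⁻¹ = c at hc hc1 hτ
  generalize s • y = x2 at hc hx2
  obtain ⟨hz2, r1, hr1, -, hk⟩ := hS G Ω p A mx mk Ψ hΨ z hz hz1 x2 hx2
  obtain ⟨la1, lb1, lc1, -⟩ := mx.ls x2 (z • x2) hz2.symm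
  have RF1 : Rl A x2 (z • x2) ≤ Fl A x2 (z • x2) := la1.sup ▸ le_sup_left
  have cF : c ∈ Fl A x2 (z • x2) := mem_sup_left hc
  have zi : z⁻¹ = z := inv_eq_of_mul_eq_one_left zz
  have hσ : c * z * c⁻¹ * z ∈ Rl A x2 (z • x2) := by
    have h1 : Commute c (r1⁻¹ * z) := hk c cF
    have h2 : c * z * c⁻¹ * z = ⁅c, r1⁆ := by
      calc c * z * c⁻¹ * z = c * r1 * ((r1⁻¹ * z) * c⁻¹) * z := by group
        _ = c * r1 * c⁻¹ * r1⁻¹ * (z * z) := by rw [← h1.inv_left.eq]; group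
        _ = _ := by rw [zz, mul_one]; rfl
    rw [h2]
    exact commutator_mem_commutator cF (RF1 hr1)
  have he := lb1.sq _ hσ
  have he1 : c * z * c⁻¹ * z * (c * z * c⁻¹ * z) ≠ 1 := fun e => a1 Ψ hΨ z hz hz1 x2 hx2 c hc hc1 (by
    rw [← inv_eq_of_mul_eq_one_left e]
    conv_lhs => rw [← zi]
    group)
  have hσ' : c * z * c⁻¹ * z = (c * a⁻¹ * z) ^ 2 := by
    have h1 : (c * a⁻¹)⁻¹ = c * a⁻¹ := inv_eq_of_mul_eq_one_left hτ
    calc c * z * c⁻¹ * z = c * (z * a⁻¹) * (c * a⁻¹)⁻¹ * z := by group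
      _ = _ := by rw [h1, ← za.inv_left.eq, sq]; group
  have ee := lc1.zsq _ he
  have ec : Commute c _ := he.2 c cF
  have e4 : c * z * c⁻¹ * z * (c * z * c⁻¹ * z) = (c * a⁻¹ * z) ^ 4 := by rw [hσ', ← pow_add]
  obtain ⟨Φ, hΦ, hLΦ⟩ := mk.two x2 (z • x2) hz2.symm
  have hx2Φ := hLΦ (sk.ln x2 (z • x2)).1
  have eE := mk.ze Φ hΦ _ hx2Φ _ (hLΦ (sk.ln x2 (z • x2)).2) hz2.symm he
  generalize c * z * c⁻¹ * z * (c * z * c⁻¹ * z) = e at he1 ee ec e4 eE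
  have ez : Commute z e := by
    have h1 : z * (c * a⁻¹ * z) * z⁻¹ = (c * a⁻¹ * z)⁻¹ := by
      rw [_root_.mul_inv_rev, inv_eq_of_mul_eq_one_left hτ, zi, mul_assoc, mul_assoc, zz, mul_one]
    have h2 : z * e * z⁻¹ = e⁻¹ := by rw [e4, ← conj_pow, h1, inv_pow]
    rw [inv_eq_of_mul_eq_one_left ee, mul_inv_eq_iff_eq_mul] at h2
    exact h2
  have eτ : Commute (c * a⁻¹ * z) e := e4 ▸ Commute.self_pow _ 4
  have ea : Commute a e := by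
    have := (ez.mul_left eτ.inv_left).mul_left ec
    rwa [show z * (c * a⁻¹ * z)⁻¹ * c = a by group] at this
  have ey : e • y = y := (bs.semi y (e • y) a ha (by
    rw [← mul_smul, ea.eq, mul_smul, bs.fix y a ha])).resolve_left ha1
  exact yp Ψ Φ hΨ hΦ (fun h => hx2 (h ▸ hx2Φ)) z hz hz1 e eE he1 ez.eq y hy
    ((mk.fx Φ hΦ e eE he1 y).1 ey)

end Cfsg.Agent.H43.CyA2
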