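import Cfsg.Agent.H78.G40B
import Cfsg.Agent.H30.OUDefs

/-! Project L40G: the unitary involutions of `L₃(9)` centralise an `L₂(7)`. -/

set_option autoImplicit false

namespace Cfsg.Agent.H43.G40Nc3a

open Matrix Cfsg.Agent.H78.G40 Cfsg.Agent.H28

theorem star_mul_θ (g : X3) : g.1ᴴ * (θ3 g).1 = 1 := by
  change (τ3 g).1ᵀ * ((τ3 g)⁻¹).1ᵀ = 1
  have k : ((τ3 g)⁻¹).1 * (τ3 g).1 = 1 := congrArg Subtype.val (inv_mul_cancel (τ3 g))
  rw [← transpose_mul, k, transpose_one]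

theorem mul_θ {g d : X3} (h : g.1 = d.1 * d.1ᴴ) : g * θ3 d = d := Subtype.ext (by
  change g.1 * (θ3 d).1 = d.1
  rw [h, Matrix.mul_assoc, star_mul_θ, Matrix.mul_one])

/-- Lang's theorem for the unitary involution -/
theorem lang {g : X3} (h : g * θ3 g = 1) : ∃ d : X3, g * θ3 d = d := by
  have h1 : g.1 * (θ3 g).1 = 1 := by
    generalize θ3 g = y at h
    exact congrArg Subtype.val h
  have h2 : g.1ᴴ = g.1 := by
    rw [← Matrix.mul_one g.1ᴴ, ← mul_eq_one_comm.1 h1, ← Matrix.mul_assoc, star_mul_θ,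
      Matrix.one_mul]
  obtain ⟨P, hP⟩ := H30.OU.exists_gram ⟨(⟨0, 1⟩ : F9), by decide⟩ h2 (by rw [g.2]; exact one_ne_zero)
  have h3 : Pᴴ.det * star Pᴴ.det = 1 := by
    rw [← det_conjTranspose Pᴴ, conjTranspose_conjTranspose, ← det_mul, hP, g.2]
  have h4 : ∀ a : F9, a ^ 3 = star a := by decide
  refine ⟨⟨Pᴴ.det • Pᴴ, by rw [det_smul, Fintype.card_fin, h4, mul_comm, h3]⟩, mul_θ ?_⟩
  simp only [conjTranspose_smul, conjTranspose_conjTranspose, Matrix.smul_mul, Matrix.mul_smul,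
    smul_smul, hP]
  rw [mul_comm, h3, one_smul]

def p0 : X3 := ⟨!![⟨2, 0⟩, 0, 0; 0, ⟨2, 0⟩, 0; 0, 0, 1], by rw [det_fin_three]; decide +kernel⟩

def q0 : X3 := ⟨!![⟨0, 1⟩, ⟨1, 1⟩, ⟨0, 1⟩; ⟨2, 1⟩, 1, ⟨0, 1⟩; ⟨2, 0⟩, ⟨0, 1⟩, ⟨2, 2⟩], by
  rw [det_fin_three]; decide +kernel⟩

theorem x : Nc3aS := by
  intro g hg
  obtain ⟨d, hd⟩ := lang hg
  have k : ∀ y : X3, (1 : X3).1 = y.1 * y.1ᴴ →
      (MulAut.conj g * θ3) (MulAut.conj d y) = MulAut.conj d y := fun y h => by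
    have e := mul_θ h
    rw [one_mul] at e
    rw [MulAut.mul_apply, MulAut.conj_apply d, map_mul θ3, map_mul θ3, map_inv, e,
      ← MulAut.conj_apply, ← MulAut.mul_apply, ← map_mul, hd, MulAut.conj_apply]
  refine .inr ⟨MulAut.conj d p0, MulAut.conj d q0, 7, .inr rfl, ?_, ?_, ?_, ?_,
    k p0 (by decide +kernel), k q0 (by decide +kernel)⟩
  · rw [Ne, EmbeddingLike.map_eq_one_iff]
    exact fun e => absurd (congrArg Subtype.val e) (by decide +kernel)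
  · rw [← map_mul, show p0 * p0 = 1 from Subtype.ext (by decide +kernel), map_one]
  · rw [← map_pow, show q0 ^ 3 = 1 from Subtype.ext (by decide +kernel), map_one]
  · rw [← map_mul, ← map_pow, show (p0 * q0) ^ 7 = 1 from Subtype.ext (by decide +kernel), map_one]

end Cfsg.Agent.H43.G40Nc3a
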