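import Cfsg.Agent.H76.HBDefs
import Cfsg.Agent.H39.SzBasic
import Cfsg.Agent.H39.SzOvoid

/-! The Suzuki groups have the structure `BS`. -/

set_option autoImplicit false
set_option linter.unusedSectionVars false

namespace Cfsg.Agent.H43.HB

open Subgroup Cfsg.Agent.H83 Cfsg.Agent.H76.HB Cfsg.Agent.H39
open scoped Cfsg.Agent.H63

universe u

theorem bs_of {G : Type u} [Group G] [Finite G] {N : Subgroup G} (T : Sylow 2 N) {w : N} {q i : ℕ}
    (simple : IsSimpleGroup N) (nonab : ¬ IsMulCommutative N) (pow : ∃ m, 2 ≤ m ∧ q = 2 ^ m)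
    (ty : i = 1 ∨ (i = 2 ∧ 8 ≤ q) ∨ i = 3) (c60 : i = 1 → q = 4 → Nat.card N = 60)
    (hw : w ∉ N[(T : Subgroup N)]) (ti : ∀ x ∈ T, w * x * w⁻¹ ∈ T → x = 1)
    (bruhat : ∀ g, g ∈ N[(T : Subgroup N)] ∨ ∃ t ∈ T, ∃ b ∈ N[(T : Subgroup N)], g = t * w * b)
    (bp : BP ⊤ (T : Subgroup N) (cj w T) q i) : BS N q i := by
  have he := N.subtype_injective
  refine BS.of_pair (w := (w : G)) simple nonab pow ty c60 (isSylowIn_map T) w.2
    (mt (map_mem_N _ he).1 hw) ?_ (fun g hg => ?_) ?_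
  · rintro _ ⟨x, hx, rfl⟩ h
    exact congrArg Subtype.val (ti x hx ((mem_map_iff_mem he).1 h))
  · exact (bruhat ⟨g, hg⟩).imp (map_mem_N _ he).2 fun ⟨t, ht, b, hb, e⟩ =>
      ⟨t, mem_map_of_mem _ ht, b, (map_mem_N _ he).2 hb, congrArg Subtype.val e⟩
  · have := bp.map _ he
    rwa [← MonoidHom.range_eq_map, range_subtype, map_map,
      show N.subtype.comp (MulAut.conj w).toMonoidHom =
        (MulAut.conj (w : G)).toMonoidHom.comp N.subtype from rfl, ← map_map] at this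

variable {G : Type*} [Group G] {F : Type*} [Field F] [SzField F] (S : Model G F)

theorem zz_U : zz S.U = S.Z := by
  rw [← S.center_U]
  ext x
  exact ⟨fun h => ⟨⟨x, h.1⟩, mem_center_iff.2 fun y => Subtype.ext (h.2 y y.2), rfl⟩,
    fun ⟨y, h, e⟩ => e ▸ ⟨y.2, fun z hz => congrArg Subtype.val (mem_center_iff.1 h ⟨z, hz⟩)⟩⟩

theorem dd_U : dd ⊤ S.U (cj S.w S.U) = S.H := by
  ext x
  rw [dd, top_inf_eq, cj_eq_smul, ← S.twist_U, S.normalizer_U, (S.twist S.w).normalizer_U, mem_inf,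
    S.mem_twist_B', S.w_smul_inf, S.mem_H_iff_fix, S.mem_B']

theorem bp_U : BP ⊤ S.U (cj S.w S.U) (Nat.card F) 2 := by
  have := SzField.finite F
  have := S.charP
  have h8 := SzField.eight_le F
  refine ⟨S.card_U, ?_, ?_, ?_, ?_, ?_, by omega, ?_, ?_, ?_, fun h => by omega⟩ <;>
    try simp only [zz_U, dd_U]
  · exact fun x hx => ⟨S.mem_Z_of_mul_self hx, S.mul_self_of_mem_Z⟩
  · exact S.card_Z
  · exact fun x => S.mul_self_mem_Z
  · exact dd_U S ▸ S.isCyclic_H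
  · intro _
    rw [S.card_H]
    omega
  · intro d hd h1 t ht e
    rw [S.eq_one_of_mem_U_of_mem_H ht (S.mem_H_of_comm hd h1 e.symm)]
    exact one_mem _
  · rintro _ ⟨b, rfl⟩ _ ⟨b', rfl⟩ h1 h2
    obtain ⟨k, hk⟩ := S.exists_unit_sq_θ (b := b) (b' := b') (fun e => h1 (by rw [e, S.u_zero]))
      fun e => h2 (by rw [e, S.u_zero])
    exact ⟨_, S.h_mem_H k, by rw [S.h_conj_u, hk, mul_zero]⟩
  · rintro - _ ⟨a, b, rfl⟩ _ ⟨c, d, rfl⟩ e
    rw [S.u_sq, S.u_sq, S.u_eq_iff] at e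
    rw [S.mul_θ_inj e.2, S.u_inv, S.u_mul, S.u_mem_Z_iff, CharTwo.add_self_eq_zero]

theorem modSz : ModSzStmt.{u} := by
  rintro G _ _ N F _ _ k hF hk ⟨e⟩
  have := szField_of_card hk hF
  let S := (lieModel hF).comap e
  have hq : Nat.card F = 2 ^ (2 * k + 1) := Nat.card_eq_fintype_card.trans hF
  refine bs_of S.sylowU (w := S.w) S.isSimpleGroup (fun h => ?_) ⟨_, by omega, rfl⟩
    (.inr (.inl ⟨rfl, hq ▸ SzField.eight_le F⟩)) nofun ?_ (fun x hx h => ?_) (fun g => ?_)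
    (hq ▸ bp_U S)
  · exact S.w_notMem_B (S.U_le_B (S.mem_U_of_comm (S.u_mem_U 0 1) S.u_zero_one_ne_one (h.1.1 _ _)))
  · rw [S.coe_sylowU, S.normalizer_U]
    exact S.w_notMem_B
  · by_contra h1
    exact S.w_notMem_B (S.mem_B_of_conj_mem_B' hx h1 (S.U_le_B h))
  · rw [S.coe_sylowU, S.normalizer_U]
    refine (S.bruhat g).imp S.mem_B.2 fun ⟨a, b, k, c, d, e⟩ => ⟨_, S.u_mem_U a b, _,
      mul_mem (S.h_mem_B k⁻¹) (S.u_mem_B c d), ?_⟩
    rw [e, mul_assoc (S.u a b), S.h_mul_w]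
    group

end Cfsg.Agent.H43.HB
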