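import Cfsg.Agent.H76.HBDefs2

/-! Project HB: the lemma on the pointwise stabiliser of the fixed points of an involution. -/

set_option autoImplicit false
set_option linter.unusedSectionVars false

namespace Cfsg.Agent.H43.HBW

open MulAction Subgroup Cfsg.Agent.H83 Cfsg.Agent.H56.TT Cfsg.Agent.H76.HB
open Cfsg.Agent.H65.A45 (ord2)
open scoped Cfsg.Agent.H63

universe u v

variable {G : Type u} {Ω : Type v} [Group G] [MulAction G Ω] {NN : Ω → Subgroup G} {q i : ℕ}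
  {a b : Ω} {P P' R : Subgroup G}

/-- `P` is a Sylow subgroup of `N^a` containing the involutions fixing `b` -/
def TS (NN : Ω → Subgroup G) (a b : Ω) (P : Subgroup G) : Prop :=
  Syl (NN a) P ∧ ∀ z ∈ NN a, z * z = 1 → z • b = b → z ∈ P

theorem conj_sq {g z : G} (h : z * z = 1) : g * z * g⁻¹ * (g * z * g⁻¹) = 1 := by
  rw [show g * z * g⁻¹ * (g * z * g⁻¹) = g * (z * z) * g⁻¹ by group, h]; group

theorem conj_fix (g : G) {z : G} {b : Ω} (h : z • b = b) : (g * z * g⁻¹) • g • b = g • b := by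
  rw [mul_smul, mul_smul, inv_smul_smul, h]

theorem gam' (hG : Gam NN) (hab : a ≠ b) : ∃ z, z ∈ NN a ∧ z ∈ NN b ∧ z * z = 1 ∧ z ≠ 1 :=
  let ⟨z, h1, h2, h3⟩ := hG a b hab
  ⟨z, h1, h3, ord2.1 h2⟩

variable (h : St NN q i)
include h

theorem TS.eq (t : TS NN a b P) (hR : Syl (NN a) R) {z : G} (hz : z ∈ R) (h2 : z * z = 1)
    (h1 : z ≠ 1) (hb : z • b = b) : R = P :=
  (h.bs a).ti _ _ hR t.1 z hz (t.2 z (hR.le hz) h2 hb) h1

theorem TS.zmem (t : TS NN a b P) {z : G} (hz : z ∈ NN a) (h2 : z * z = 1) (hb : z • b = b) :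
    z ∈ zz P := ((h.bs a).om t.1 (t.2 z hz h2 hb)).1 h2

theorem TS.norm (hG : Gam NN) (hab : a ≠ b) (t : TS NN a b P) {g : G} (ha : g • a = a)
    (hb : g • b = b) : g ∈ N[P] := by
  obtain ⟨z, h1, h2, h3, h4⟩ := gam' hG hab
  refine (h.bs a).normP t.1 (h.norm ha) (t.2 z h1 h3 (h.fx h2)) h4
    (t.2 _ (nconj (h.norm ha) h1) (conj_sq h3) ?_)
  have := conj_fix g (h.fx h2)
  rwa [hb] at this

/-- the hypothesis of the lemma -/
def HW (NN : Ω → Subgroup G) : Prop :=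
  ∀ x y, x ≠ y → ∃ T, TS NN x y T ∧ zz T ≤ stabilizer G y

theorem HW.fix (H : HW NN) (hP : Syl (NN a) P) {z z' : G} (hz : z ∈ zz P) (h1 : z ≠ 1)
    (hz' : z' ∈ zz P) {x : Ω} (hx : z • x = x) : z' • x = x := by
  by_cases e : a = x
  · exact e ▸ h.fx (hP.le hz'.1)
  obtain ⟨T, t, hT⟩ := H a x e
  exact hT (TS.eq h t hP hz.1 ((h.bs a).zsq hP hz) h1 hx ▸ hz')

/-- the pointwise stabiliser of the fixed points -/
abbrev LL (Ω : Type v) [MulAction G Ω] (z : G) : Subgroup G := fixingSubgroup G {x : Ω | z • x = x}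

omit h in
theorem mem_LL {z g : G} : g ∈ LL Ω z ↔ ∀ x : Ω, z • x = x → g • x = x :=
  mem_fixingSubgroup_iff G

variable [Finite G]

theorem HW.norm (H : HW NN) (hP : Syl (NN a) P) {z : G} (hz : z ∈ zz P) (h1 : z ≠ 1) {g : G}
    (hg : g ∈ N[P]) : g ∈ N[LL Ω z] :=
  memN_of fun l hl => mem_LL.2 fun x hx => by
    have := HW.fix h H hP (nconj (N_zz (inv_mem hg)) hz) (fun e => h1 (conj_eq_one_iff.1 e)) hz
      (conj_fix g⁻¹ hx)
    rw [mul_smul, mul_smul, mem_LL.1 hl _ this, smul_inv_smul]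

theorem core (A7 : A7Stmt.{u}) (hG : Gam NN) (H : HW NN) (hab : a ≠ b) (t : TS NN a b P) {z : G}
    (hz : z ∈ NN a) (hz' : z ∈ NN b) (h2 : z * z = 1) (h1 : z ≠ 1) {w : G}
    (hw : w ∈ pCoreOf 2 (LL Ω z)) : ∃ s ∈ P, s⁻¹ * w ∈ C[NN a] := by
  have hb := h.bs a
  have hL : ∀ g ∈ pCoreOf 2 (LL Ω z), g ∈ N[NN a] ∧ g ∈ N[P] := fun g hg => by
    have := mem_LL.1 (pCoreOf_le _ hg)
    exact ⟨h.norm (this a (h.fx hz)), TS.norm h hG hab t (this a (h.fx hz)) (this b (h.fx hz'))⟩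
  obtain ⟨Q, hQ, hne⟩ := hb.ne P t.1
  obtain ⟨s, hs, hy⟩ := hb.dec t.1 hQ hne (hL w hw).1 (hL w hw).2
  refine ⟨s, hs, A7 G _ P Q q i hb t.1 hQ hne _
    (mul_mem (inv_mem (le_normalizer (t.1.le hs))) (hL w hw).1)
    (mul_mem (inv_mem (le_normalizer hs)) (hL w hw).2) hy
    (isPGroup_iff.1 (isPGroup_sup (pCoreOf_isPGroup _) t.1.isPGroup fun g hg => (hL g hg).2) _
      (mul_mem (mem_sup_right (inv_mem hs)) (mem_sup_left hw))) fun d hd => ?_⟩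
  have h3 : d * w * d⁻¹ * w⁻¹ ∈ pCoreOf 2 (LL Ω z) := mul_mem (nconj (normalizer_le_norm_pCoreOf _
    (HW.norm h H t.1 (TS.zmem h t hz h2 (h.fx hz')) h1 hd.1.2)) hw) (inv_mem hw)
  obtain ⟨k, hk⟩ := isPGroup_iff.1 (pCoreOf_isPGroup (p := 2) (LL Ω z)) _ h3
  have h4 : d * w * d⁻¹ * w⁻¹ ∈ P := t.1.mem_of_norm (by
    have := (NN a).mul_mem hd.1.1 (nconj (hL w hw).1 (inv_mem hd.1.1))
    simpa only [mul_assoc] using this) hk (hL _ h3).2
  have h5 := hb.reg t.1 hQ hne (t := d * (s⁻¹ * w) * d⁻¹ * (s⁻¹ * w)⁻¹) (by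
    have := mul_mem (mul_mem (nconj hd.1.2 (inv_mem hs)) h4) hs
    convert this using 1; group)
    (mul_mem (mul_mem (mul_mem hd.2 hy) (inv_mem hd.2)) (inv_mem hy))
  rwa [mul_inv_eq_one, mul_inv_eq_iff_eq_mul] at h5

theorem w1 (A7 : A7Stmt.{u}) (hG : Gam NN) (H : HW NN) (hab : a ≠ b) (t : TS NN a b P)
    (t' : TS NN b a P') {w : G} (hw : w ∈ zz P') : w ∈ C[P] := by
  obtain ⟨z, hz, hz', h2, h1⟩ := gam' hG hab
  obtain ⟨s, hs, hy⟩ := core h A7 hG H hab t hz hz' h2 h1 (w := w) (le_pCoreOf (N := zz P')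
    (fun g hg => mem_LL.2 fun x hx => HW.fix h H t'.1 (TS.zmem h t' hz' h2 (h.fx hz)) h1 hg hx)
    (fun g hg => N_zz (TS.norm h hG hab.symm t' (mem_LL.1 hg b (h.fx hz')) (mem_LL.1 hg a (h.fx hz))))
    t'.1.isPGroup.to_inf_left hw)
  have e := hy s (t.1.le hs)
  have h3 : s * s = 1 := by
    refine (h.bs a).zc (t.1.le (mul_mem hs hs)) ?_
    have : s * s = (s⁻¹ * w * (s⁻¹ * w))⁻¹ := by
      rw [eq_inv_iff_mul_eq_one, ← (h.bs b).zsq t'.1 hw]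
      calc s * s * (s⁻¹ * w * (s⁻¹ * w)) = s * (s * (s⁻¹ * w)) * (s⁻¹ * w) := by group
        _ = w * w := by rw [e]; group
    rw [this]
    exact inv_mem (mul_mem hy hy)
  have := mul_mem (((h.bs a).om t.1 hs).1 h3).2 (cent_anti t.1.le hy)
  rwa [mul_inv_cancel_left] at this

variable [FaithfulSMul G Ω]

theorem ts_of (hab : a ≠ b) (hP : Syl (NN a) P) (hb : P ≤ stabilizer G b) : TS NN a b P :=
  ⟨hP, fun _ hz h2 e => inv_mem_syl hP hz h2 (cj_eq_self_iff.1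
    (h.uniq hab.symm hP (hP.cj_of_mem hz) hb (cj_le_of_mem hb e)))⟩

/-- if a Sylow subgroup of `N^a` fixes a second point, `N^x` and `N^y` share a Sylow subgroup -/
theorem lin_of (A7 : A7Stmt.{u}) (hG : Gam NN) (hab : a ≠ b) (hP : Syl (NN a) P)
    (hb : P ≤ stabilizer G b) : Lin NN := by
  have H : ∀ x y, x ≠ y → ∃ T, TS NN x y T ∧ T ≤ stabilizer G y := fun x y e => by
    obtain ⟨g, rfl, rfl⟩ := h.two a b x y hab e
    have : cj g P ≤ stabilizer G (g • b) := by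
      rintro _ ⟨s, hs, rfl⟩
      exact conj_fix g (hb hs)
    exact ⟨_, ts_of h e (h.syl g hP) this, this⟩
  have H' : HW NN := fun x y e => (H x y e).imp fun T hT => ⟨hT.1, inf_le_left.trans hT.2⟩
  have key : ∀ x y T z, TS NN x y T → z ∈ NN x → z ∈ NN y → z * z = 1 → z ≠ 1 → T ≤ LL Ω z :=
    fun x y T z t hz hz' h2 h1 s hs => mem_LL.2 fun c hc => by
      by_cases e : x = c
      · exact e ▸ h.fx (t.1.le hs)
      obtain ⟨T', t', hT⟩ := H x c e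
      exact hT (TS.eq h t' t.1 (t.2 z hz h2 (h.fx hz')) h2 h1 hc ▸ hs)
  intro x y e
  obtain ⟨T, t, -⟩ := H x y e
  obtain ⟨T', t', -⟩ := H y x e.symm
  obtain ⟨z, hz, hz', h2, h1⟩ := gam' hG e
  have h3 : T' ≤ T := fun w hw => by
    have h4 := key y x T' z t' hz' hz h2 h1
    obtain ⟨s, hs, hy⟩ := core h A7 hG H' e t hz hz' h2 h1 (w := w) (le_pCoreOf h4
      (fun g hg => TS.norm h hG e.symm t' (mem_LL.1 hg y (h.fx hz')) (mem_LL.1 hg x (h.fx hz)))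
      t'.1.isPGroup hw)
    have h5 := mem_LL.1 (mul_mem (inv_mem (key x y T z t hz hz' h2 h1 hs)) (h4 hw))
    have h6 : s⁻¹ * w = 1 := eq_of_smul_eq_smul (α := Ω) fun c => by
      rw [one_smul]
      by_cases e' : x = c
      · exact e' ▸ h5 x (h.fx hz)
      obtain ⟨S, hS, hc⟩ := H x c e'
      obtain ⟨n, hn, rfl⟩ := t.1.exists_conj hS.1
      have h7 : z • n⁻¹ • c = n⁻¹ • c := by
        have := hc (conj_mem_cj (g := n) (t.2 z hz h2 (h.fx hz')))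
        rwa [mem_stabilizer_iff, mul_smul, mul_smul, smul_eq_iff_eq_inv_smul] at this
      have := h5 _ h7
      rwa [← mul_smul, ← hy _ (inv_mem hn), mul_smul, smul_left_cancel_iff] at this
    rwa [← inv_mul_eq_one.1 h6]
  exact ⟨T, t.1, eq_of_le_of_card_ge h3
    (by rw [(h.bs x).cardP t.1, (h.bs y).cardP t'.1]) ▸ t'.1⟩

theorem clo_of (hL : Lin NN) : Clo NN := fun a b z hz h2 e => by
  by_cases hab : a = b
  · exact hab ▸ hz
  obtain ⟨P, hP, hP'⟩ := hL a b hab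
  exact hP'.le ((ts_of h hab hP (hP'.le.trans (h.fix b))).2 z hz (ord2.1 h2).1 e)

/-- an involution of `N^x` fixing `y` outside `N^y`, for all pairs -/
def NC (NN : Ω → Subgroup G) : Prop :=
  ∀ x y, x ≠ y → ∃ z ∈ NN x, z * z = 1 ∧ z • y = y ∧ z ∉ NN y

theorem nc_of (hC : ¬ Clo NN) : NC NN := fun x y e => by
  simp only [Clo, not_forall] at hC
  obtain ⟨a, b, z, hz, h2, hb, hz'⟩ := hC
  obtain ⟨g, rfl, rfl⟩ := h.two a b x y (fun e => hz' (e ▸ hz)) e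
  exact ⟨_, h.conj g hz, conj_sq (ord2.1 h2).1, conj_fix g hb, fun k => hz' (by
    simpa [mul_assoc] using h.conj g⁻¹ k)⟩

theorem exists_ts (hG : Gam NN) (hC : NC NN) (hab : a ≠ b) : ∃ P, TS NN a b P := by
  obtain ⟨z, hz, hz', h2, h1⟩ := gam' hG hab
  obtain ⟨w, hw, w2, wb, hw'⟩ := hC a b hab
  obtain ⟨P, hP, hzP⟩ := exists_syl hz h2
  have key : ∀ u ∈ NN a, u * u = 1 → u • b = b → u ∉ P → ∀ s ∈ P, s * s = 1 → s ≠ 1 → s • b = b →
      (s ∈ NN b ↔ u ∈ NN b) := fun u hu u2 ub hn s hs s2 s1 sb => by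
    obtain ⟨R, hR, huR⟩ := exists_syl hu u2
    obtain ⟨g, hg, rfl⟩ := (h.bs a).conj_in hP hR (fun e => hn (e ▸ huR)) hs huR (ord2.2 ⟨s2, s1⟩)
      (ord2.2 ⟨u2, fun e => hn (e ▸ one_mem P)⟩) (X := stabilizer G b) sb ub
    exact mem_normalizer_iff.1 (h.norm hg) s
  have hwP : w ∈ P := by
    by_contra hn
    exact hw' ((key w hw w2 wb hn z hzP h2 h1 (h.fx hz')).1 hz')
  refine ⟨P, hP, fun u hu u2 ub => ?_⟩
  by_contra hn
  exact hw' ((key u hu u2 ub hn w hwP w2 (fun e => hw' (e ▸ one_mem _)) wb).2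
    ((key u hu u2 ub hn z hzP h2 h1 (h.fx hz')).1 hz'))

/-- no Sylow subgroup of `N^x` fixes a second point -/
def NF (NN : Ω → Subgroup G) : Prop := ∀ x y T, Syl (NN x) T → T ≤ stabilizer G y → y = x

variable [Finite Ω]

theorem star (hF : NF NN) (hP : Syl (NN a) P) {w : G} (hw : w ∈ NN b) (h2 : w * w = 1)
    (hc : w ∈ C[P]) : w ∈ NN a := by
  obtain ⟨S, hS, hwS⟩ := exists_syl hw h2
  have inv : ∀ U : Subgroup G, w ∈ C[U] → ∀ s ∈ U, ∀ x ∈ {x | w ∈ NN x}, s • x ∈ {x | w ∈ NN x} :=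
    fun U hU s hs x hx => by
      have := h.conj s hx
      rwa [conj_eq_iff.2 (hU s hs)] at this
  have h3 := modp hS.isPGroup (inv S (((h.bs b).om hS hwS).1 h2).2)
  rw [show {x | w ∈ NN x} ∩ H56.W2.Fix Ω S = {b} from Set.eq_singleton_iff_unique_mem.2
    ⟨⟨hw, fun s hs => h.fx (hS.le hs)⟩, fun x hx => hF b x S hS hx.2⟩, Set.ncard_singleton] at h3
  obtain ⟨c, hc, e⟩ := fixP Nat.prime_two hP.isPGroup (inv P hc) (by
    rw [Nat.ModEq] at h3; omega)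
  rwa [hF a c P hP e] at hc

omit [Finite G] [FaithfulSMul G Ω] [Finite Ω] in
theorem mem_Z0 (t : TS NN a b P) (t' : TS NN b a P') {u : G} :
    u ∈ zz P ⊓ zz P' ↔ u ∈ NN a ∧ u ∈ NN b ∧ u * u = 1 :=
  ⟨fun k => ⟨t.1.le k.1.1, t'.1.le k.2.1, (h.bs a).zsq t.1 k.1⟩, fun k =>
    ⟨TS.zmem h t k.1 k.2.2 (h.fx k.2.1), TS.zmem h t' k.2.1 k.2.2 (h.fx k.1)⟩⟩

theorem two (O1 : O1Stmt.{u}) (hG : Gam NN) (hF : NF NN) (hab : a ≠ b) (t : TS NN a b P)
    (t' : TS NN b a P') {w w' : G} (hw : w ∈ zz P') (hw' : w' ∈ zz P') (ha : w • a = a)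
    (ha' : w' • a = a) (hn : w ∉ zz P ⊓ zz P') (hn' : w' ∉ zz P ⊓ zz P') :
    w * w' ∈ zz P ⊓ zz P' := by
  have k : ∀ u ∈ zz P', u ∈ C[P] → u ∈ zz P ⊓ zz P' := fun u hu hc =>
    (mem_Z0 h t t').2 ⟨star h hF t.1 (t'.1.le hu.1) ((h.bs b).zsq t'.1 hu) hc, t'.1.le hu.1,
      (h.bs b).zsq t'.1 hu⟩
  rcases O1 G _ P q i (h.bs a) t.1 w (h.norm ha) w' (h.norm ha')
    (TS.norm h hG hab t ha (h.fx (t'.1.le hw.1))) (TS.norm h hG hab t ha' (h.fx (t'.1.le hw'.1)))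
    ((h.bs b).zsq t'.1 hw) ((h.bs b).zsq t'.1 hw') ((h.bs b).zsq t'.1 (mul_mem hw hw')) with e | e | e
  exacts [absurd (k _ hw e) hn, absurd (k _ hw' e) hn', k _ (mul_mem hw hw') e]

omit [FaithfulSMul G Ω] [Finite Ω] in
theorem ncard_le (hab : a ≠ b) {x y : Ω} (e : x ≠ y) :
    {u | u ∈ NN x ∧ u ∈ NN y ∧ u * u = 1}.ncard ≤ {u | u ∈ NN a ∧ u ∈ NN b ∧ u * u = 1}.ncard := by
  obtain ⟨g, rfl, rfl⟩ := h.two x y a b e hab
  exact Set.ncard_le_ncard_of_injOn (fun u => g * u * g⁻¹)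
    (fun u hu => ⟨h.conj g hu.1, h.conj g hu.2.1, conj_sq hu.2.2⟩)
    (fun _ _ _ _ e => by simpa using e)

theorem hw_of (A8 : A8Stmt.{u}) (O1 : O1Stmt.{u}) (hG : Gam NN) (hC : NC NN) (hF : NF NN) :
    HW NN := fun a b hab => by
  obtain ⟨P, t⟩ := exists_ts h hG hC hab
  obtain ⟨P', t'⟩ := exists_ts h hG hC hab.symm
  refine ⟨P, t, ?_⟩
  obtain ⟨w, hw, w2, wa, hw'⟩ := hC b a hab.symm
  have wZ := TS.zmem h t' hw w2 wa
  have wn : w ∉ zz P ⊓ zz P' := fun k => hw' (t.1.le k.1.1)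
  have wP := TS.norm h hG hab t wa (h.fx hw)
  have wi : w⁻¹ = w := inv_eq_of_mul_eq_one_right w2
  have hA : zz P ≤ N[zz P ⊓ zz P'] := fun s hs => C_le_N fun u hu => hs.2 u hu.1.1
  have key : cm (zz P) (zz P ⊓ zz P') w hA ≤ stabilizer G b := fun s hs => by
    by_contra hb
    have h1 : ∀ u ∈ zz P', u • a = a → s⁻¹ * u * s ∈ NN b := fun u hu ua => by
      by_cases e : u ∈ zz P ⊓ zz P'
      · exact t'.1.le (conj_mem' hA hs.1 e).2.1
      have := (zz P').mul_mem ((zz P').mul_mem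
        (conj_mem' hA hs.1 (two h O1 hG hF hab t t' hu wZ ua wa e wn)).2 (mem_cm.1 hs).2.2) wZ
      rw [show s⁻¹ * (u * w) * s * (s⁻¹ * (w * s * w⁻¹)) * w = s⁻¹ * u * (w * w) * s by group, w2,
        mul_one] at this
      exact t'.1.le this.1
    have h2 := (Set.ncard_le_ncard (s := insert w {u | u ∈ NN a ∧ u ∈ NN b ∧ u * u = 1})
      (fun u hu => ?_)).trans (ncard_le h hab (x := b) (y := s • b) (Ne.symm hb))
    · rw [Set.ncard_insert_of_notMem fun k => hw' k.1] at h2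
      omega
    have h3 : u ∈ zz P' ∧ u • a = a := by
      rcases hu with rfl | hu
      exacts [⟨wZ, wa⟩, ⟨TS.zmem h t' hu.2.1 hu.2.2 (h.fx hu.1), h.fx hu.1⟩]
    refine ⟨t'.1.le h3.1.1, ?_, (h.bs b).zsq t'.1 h3.1⟩
    simpa [mul_assoc] using h.conj s (h1 u h3.1 h3.2)
  have hCM : zz P ⊓ C1[w] ≤ cm (zz P) (zz P ⊓ zz P') w hA := fun s hs => mem_cm.2 ⟨hs.1, by
    rw [conj_eq_iff.2 (memC1.1 hs.2).symm, inv_mul_cancel]; exact one_mem _⟩
  have h0 : zz P ⊓ zz P' ≤ zz P ⊓ C1[w] := fun u hu => ⟨hu.1, memC1.2 (wZ.2 u hu.2.1)⟩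
  have hcom : ∀ s ∈ zz P, s⁻¹ * (w * s * w⁻¹) ∈ zz P ⊓ C1[w] := fun s hs => by
    have h1 := nconj (N_zz wP) hs
    refine ⟨(zz P).mul_mem ((zz P).inv_mem hs) h1, memC1.2 ?_⟩
    have s2 : s⁻¹ = s := inv_eq_of_mul_eq_one_right ((h.bs a).zsq t.1 hs)
    have h2 := hs.2 _ h1.1
    rw [wi] at h2
    rw [s2, wi, ← h2]
    calc w * s * w * s * w = w * (s * (w * s * w)) := by group
      _ = _ := by rw [← h2]
  obtain ⟨h1, h2⟩ := A8 G _ P q i (h.bs a) t.1 w (h.norm wa) wP w2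
    fun k => hw' (star h hF t.1 hw w2 k)
  by_cases hi : i = 3
  · exact fun s hs => key (hCM ⟨hs, memC1.2 (h2 hi s hs)⟩)
  by_cases h3 : zz P ⊓ C1[w] ≤ zz P ⊓ zz P'
  · exact fun s hs => key (mem_cm.2 ⟨hs, h3 (hcom s hs)⟩)
  exfalso
  have two' : ∀ u ∈ zz P, ∀ u' ∈ zz P, u • b = b → u' • b = b → u ∉ zz P ⊓ zz P' →
      u' ∉ zz P ⊓ zz P' → u * u' ∈ zz P ⊓ zz P' := fun u hu u' hu' e e' n n' => by
    rw [inf_comm] at n n' ⊢
    exact two h O1 hG hF hab.symm t' t hu hu' e e' n n'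
  obtain ⟨e, he, he'⟩ := SetLike.not_le_iff_exists.1 h3
  have h4 : cm (zz P) (zz P ⊓ zz P') w hA ≤ zz P ⊓ C1[w] := fun u hu => by
    by_cases k : u ∈ zz P ⊓ zz P'
    · exact h0 k
    exact (mul_mem_cancel_right he).1 (h0 (two' u hu.1 e he.1 (key hu) (key (hCM he)) k he'))
  have h5 := card_le_two_mul_of_mul_mem (A := cm (zz P) (zz P ⊓ zz P') w hA) (B := zz P)
    (fun u hu => hu.1) fun s hs s' hs' n n' => mem_cm.2 ⟨mul_mem hs hs', by
      have k := two' _ (hcom s hs).1 _ (hcom s' hs').1 (key (hCM (hcom s hs)))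
        (key (hCM (hcom s' hs'))) (fun k => n ⟨hs, k⟩) fun k => n' ⟨hs', k⟩
      convert k using 1
      have := (inv_mem hs').2 _ (hcom s hs).1.1
      calc (s * s')⁻¹ * (w * (s * s') * w⁻¹) = s'⁻¹ * (s⁻¹ * (w * s * w⁻¹)) * (w * s' * w⁻¹) := by
            group
        _ = _ := by rw [← this]; group⟩
  have h6 := card_le_of_le h4
  rw [(h.bs a).cardZ t.1, ← h1 hi] at h5
  obtain ⟨z, hz, hz', z2, z1⟩ := gam' hG hab
  have hz0 := (mem_Z0 h t t').2 ⟨hz, hz', z2⟩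
  have h7 : ({1, z, e} : Set G).ncard ≤ Nat.card ↥(zz P ⊓ C1[w]) := by
    rw [card_eq_ncard]
    refine Set.ncard_le_ncard ?_
    rintro _ (rfl | rfl | rfl)
    exacts [one_mem _, h0 hz0, he]
  rw [Set.ncard_eq_three.2 ⟨1, z, e, z1.symm, fun k => he' (k ▸ one_mem _),
    fun k => he' (k ▸ hz0), rfl⟩] at h7
  nlinarith

omit h in
theorem s3 : S3Task.{u, v} := fun A7 A8 O1 => by
  refine ⟨fun G Ω _ _ _ _ _ NN q i h hG => ?_, fun G Ω _ _ _ _ _ NN q i h hG he a b hab => ?_⟩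
  · by_contra hC
    by_cases hF : NF NN
    · have hN := nc_of h hC
      have H := hw_of h A8 O1 hG hN hF
      simp only [Clo, not_forall] at hC
      obtain ⟨b, a, z, hz, h2, hb, hz'⟩ := hC
      have hab : a ≠ b := fun e => hz' (e ▸ hz)
      obtain ⟨P, t, -⟩ := H a b hab
      obtain ⟨P', t', -⟩ := H b a hab.symm
      exact hz' (star h hF t.1 hz (ord2.1 h2).1
        (w1 h A7 hG H hab t t' (TS.zmem h t' hz (ord2.1 h2).1 hb)))
    · simp only [NF, not_forall] at hF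
      obtain ⟨x, y, T, hT, h1, h2⟩ := hF
      exact hC (clo_of h (lin_of h A7 hG (Ne.symm h2) hT h1))
  · obtain ⟨P, hP⟩ := exists_isSylowIn 2 (NN a)
    have h1 := H56.W2.par_univ (Ω := Ω) hP.isPGroup
    have h2 : ∃ c ∈ H56.W2.Fix Ω P, c ≠ a := by
      by_contra k
      push Not at k
      rw [show H56.W2.Fix Ω P = {a} from Set.eq_singleton_iff_unique_mem.2
        ⟨fun s hs => h.fx (hP.le hs), k⟩, Set.ncard_singleton, Nat.even_iff.1 he] at h1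
      omega
    obtain ⟨c, hc, e⟩ := h2
    exact lin_of h A7 hG e.symm hP hc a b hab

end Cfsg.Agent.H43.HBW
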