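import Mathlib
import Cfsg.Agent.H43.Cent

set_option autoImplicit false
set_option maxRecDepth 200000
set_option linter.style.longLine false

namespace Cfsg.Agent.H43.K34

open Cfsg.Agent.H43

theorem k_hn : NOk 21 := by decide

theorem k_hk : 21 ≤ 2 ^ 5 := by decide

noncomputable def k_g1 : Net := (Net.cons (nat_lit 1) (nat_lit 278800) (Net.cons (nat_lit 2) (nat_lit 143648) (Net.cons (nat_lit 4) (nat_lit 65794) (Net.cons (nat_lit 8) (nat_lit 9) (Net.cons (nat_lit 16) (nat_lit 11) (Net.cons (nat_lit 8) (nat_lit 25) (Net.cons (nat_lit 4) (nat_lit 66314) (Net.cons (nat_lit 2) (nat_lit 143648) (Net.cons (nat_lit 1) (nat_lit 282897) Net.nil)))))))))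

theorem k_g1_ok : Net.ok 21 k_g1 = true := by decide +kernel

noncomputable def k_g2 : Net := (Net.cons (nat_lit 1) (nat_lit 263168) (Net.cons (nat_lit 2) (nat_lit 69648) (Net.cons (nat_lit 4) (nat_lit 2570) (Net.cons (nat_lit 8) (nat_lit 225) (Net.cons (nat_lit 16) (nat_lit 27) (Net.cons (nat_lit 8) (nat_lit 5) (Net.cons (nat_lit 4) (nat_lit 3598) (Net.cons (nat_lit 2) (nat_lit 69648) (Net.cons (nat_lit 1) (nat_lit 263168) Net.nil)))))))))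

theorem k_g2_ok : Net.ok 21 k_g2 = true := by decide +kernel

noncomputable def k_g3 : Net := (Net.cons (nat_lit 1) (nat_lit 4) (Net.cons (nat_lit 2) (nat_lit 65808) (Net.cons (nat_lit 4) (nat_lit 1034) (Net.cons (nat_lit 8) (nat_lit 31) (Net.cons (nat_lit 16) (nat_lit 31) (Net.cons (nat_lit 8) (nat_lit 5) (Net.cons (nat_lit 4) (nat_lit 66574) (Net.cons (nat_lit 2) (nat_lit 65552) (Net.cons (nat_lit 1) (nat_lit 279616) Net.nil)))))))))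

theorem k_g3_ok : Net.ok 21 k_g3 = true := by decide +kernel

noncomputable def k_g4 : Net := (Net.cons (nat_lit 1) (nat_lit 65792) (Net.cons (nat_lit 4) (nat_lit 512) (Net.cons (nat_lit 8) (nat_lit 34) (Net.cons (nat_lit 16) (nat_lit 2) (Net.cons (nat_lit 8) (nat_lit 2) (Net.cons (nat_lit 4) (nat_lit 66304) (Net.cons (nat_lit 1) (nat_lit 345408) Net.nil)))))))

theorem k_g4_ok : Net.ok 21 k_g4 = true := by decide +kernel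

noncomputable def k_g5 : Net := (Net.cons (nat_lit 1) (nat_lit 279616) (Net.cons (nat_lit 2) (nat_lit 65792) (Net.cons (nat_lit 4) (nat_lit 1024) (Net.cons (nat_lit 8) (nat_lit 68) (Net.cons (nat_lit 16) (nat_lit 4) (Net.cons (nat_lit 8) (nat_lit 4) (Net.cons (nat_lit 4) (nat_lit 66816) (Net.cons (nat_lit 2) (nat_lit 205600) (Net.cons (nat_lit 1) (nat_lit 279616) Net.nil)))))))))

theorem k_g5_ok : Net.ok 21 k_g5 = true := by decide +kernel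

noncomputable def k_g6 : Net := (Net.cons (nat_lit 1) (nat_lit 279616) (Net.cons (nat_lit 2) (nat_lit 4096) (Net.cons (nat_lit 4) (nat_lit 2560) (Net.cons (nat_lit 8) (nat_lit 250) (Net.cons (nat_lit 16) (nat_lit 26) (Net.cons (nat_lit 8) (nat_lit 26) (Net.cons (nat_lit 4) (nat_lit 2560) (Net.cons (nat_lit 2) (nat_lit 209696) (Net.cons (nat_lit 1) (nat_lit 279616) Net.nil)))))))))

theorem k_g6_ok : Net.ok 21 k_g6 = true := by decide +kernel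

noncomputable def k_g7 : Net := (Net.cons (nat_lit 1) (nat_lit 16) (Net.cons (nat_lit 4) (nat_lit 12) (Net.cons (nat_lit 8) (nat_lit 3) (Net.cons (nat_lit 16) (nat_lit 31) (Net.cons (nat_lit 8) (nat_lit 3) (Net.cons (nat_lit 4) (nat_lit 3084) (Net.cons (nat_lit 1) (nat_lit 349520) Net.nil)))))))

theorem k_g7_ok : Net.ok 21 k_g7 = true := by decide +kernel

noncomputable def k_O : List Net := [k_g1, k_g2, k_g3, k_g4, k_g5, k_g6, k_g7]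

theorem k_O_ok : okE 21 k_O = true := (okE_cons.2 ⟨k_g1_ok, (okE_cons.2 ⟨k_g2_ok, (okE_cons.2 ⟨k_g3_ok, (okE_cons.2 ⟨k_g4_ok, (okE_cons.2 ⟨k_g5_ok, (okE_cons.2 ⟨k_g6_ok, (okE_cons.2 ⟨k_g7_ok, (okE_nil 21)⟩)⟩)⟩)⟩)⟩)⟩)⟩)

noncomputable def k_g8 : Net := (Net.cons (nat_lit 1) (nat_lit 81) (Net.cons (nat_lit 2) (nat_lit 131088) (Net.cons (nat_lit 4) (nat_lit 66568) (Net.cons (nat_lit 8) (nat_lit 33) (Net.cons (nat_lit 16) (nat_lit 13) (Net.cons (nat_lit 8) (nat_lit 7) (Net.cons (nat_lit 4) (nat_lit 1028) (Net.cons (nat_lit 2) (nat_lit 8704) (Net.cons (nat_lit 1) (nat_lit 262165) Net.nil)))))))))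

theorem k_g8_ok : Net.ok 21 k_g8 = true := by decide +kernel

noncomputable def k_V9 : List Net := [k_g8]

theorem k_V9_ok : okE 21 k_V9 = true := (okE_cons.2 ⟨k_g8_ok, (okE_nil 21)⟩)

noncomputable def k_g11 : Net := (Net.cons (nat_lit 1) (nat_lit 16) (Net.cons (nat_lit 2) (nat_lit 139808) (Net.cons (nat_lit 4) (nat_lit 67078) (Net.cons (nat_lit 8) (nat_lit 1) (Net.cons (nat_lit 16) (nat_lit 23) (Net.cons (nat_lit 8) (nat_lit 7) (Net.cons (nat_lit 4) (nat_lit 3854) (Net.cons (nat_lit 2) (nat_lit 209712) (Net.cons (nat_lit 1) (nat_lit 69908) Net.nil)))))))))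

theorem k_g11_ok : Net.ok 21 k_g11 = true := by decide +kernel

noncomputable def k_g12 : Net := (Net.cons (nat_lit 1) (nat_lit 267584) (Net.cons (nat_lit 2) (nat_lit 65536) (Net.cons (nat_lit 4) (nat_lit 66062) (Net.cons (nat_lit 8) (nat_lit 239) (Net.cons (nat_lit 16) (nat_lit 15) (Net.cons (nat_lit 8) (nat_lit 31) (Net.cons (nat_lit 4) (nat_lit 68352) (Net.cons (nat_lit 2) (nat_lit 143634) (Net.cons (nat_lit 1) (nat_lit 279632) Net.nil)))))))))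

theorem k_g12_ok : Net.ok 21 k_g12 = true := by decide +kernel

noncomputable def k_V13 : List Net := [k_g11, k_g12]

theorem k_V13_ok : okE 21 k_V13 = true := (okE_cons.2 ⟨k_g11_ok, (okE_cons.2 ⟨k_g12_ok, (okE_nil 21)⟩)⟩)

noncomputable def k_g15 : Net := (Net.cons (nat_lit 1) (nat_lit 267541) (Net.cons (nat_lit 2) (nat_lit 139777) (Net.cons (nat_lit 4) (nat_lit 1026) (Net.cons (nat_lit 8) (nat_lit 208) (Net.cons (nat_lit 16) (nat_lit 31) (Net.cons (nat_lit 8) (nat_lit 1) (Net.cons (nat_lit 4) (nat_lit 68867) (Net.cons (nat_lit 2) (nat_lit 139521) (Net.cons (nat_lit 1) (nat_lit 21777) Net.nil)))))))))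

theorem k_g15_ok : Net.ok 21 k_g15 = true := by decide +kernel

noncomputable def k_V16 : List Net := [k_g15]

theorem k_V16_ok : okE 21 k_V16 = true := (okE_cons.2 ⟨k_g15_ok, (okE_nil 21)⟩)

noncomputable def k_g18 : Net := (Net.cons (nat_lit 1) (nat_lit 320) (Net.cons (nat_lit 2) (nat_lit 529) (Net.cons (nat_lit 4) (nat_lit 69124) (Net.cons (nat_lit 8) (nat_lit 142) (Net.cons (nat_lit 16) (nat_lit 15) (Net.cons (nat_lit 4) (nat_lit 3844) (Net.cons (nat_lit 2) (nat_lit 9011) (Net.cons (nat_lit 1) (nat_lit 320) Net.nil))))))))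

theorem k_g18_ok : Net.ok 21 k_g18 = true := by decide +kernel

noncomputable def k_g19 : Net := (Net.cons (nat_lit 1) (nat_lit 277) (Net.cons (nat_lit 2) (nat_lit 4864) (Net.cons (nat_lit 4) (nat_lit 68354) (Net.cons (nat_lit 8) (nat_lit 139) (Net.cons (nat_lit 16) (nat_lit 15) (Net.cons (nat_lit 4) (nat_lit 69378) (Net.cons (nat_lit 2) (nat_lit 209408) (Net.cons (nat_lit 1) (nat_lit 341) Net.nil))))))))

theorem k_g19_ok : Net.ok 21 k_g19 = true := by decide +kernel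

noncomputable def k_g20 : Net := (Net.cons (nat_lit 1) (nat_lit 16388) (Net.cons (nat_lit 2) (nat_lit 4097) (Net.cons (nat_lit 4) (nat_lit 4) (Net.cons (nat_lit 8) (nat_lit 160) (Net.cons (nat_lit 16) (nat_lit 31) (Net.cons (nat_lit 4) (nat_lit 65797) (Net.cons (nat_lit 2) (nat_lit 69649) (Net.cons (nat_lit 1) (nat_lit 16388) Net.nil))))))))

theorem k_g20_ok : Net.ok 21 k_g20 = true := by decide +kernel

noncomputable def k_V21 : List Net := [k_g18, k_g19, k_g20]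

theorem k_V21_ok : okE 21 k_V21 = true := (okE_cons.2 ⟨k_g18_ok, (okE_cons.2 ⟨k_g19_ok, (okE_cons.2 ⟨k_g20_ok, (okE_nil 21)⟩)⟩)⟩)

noncomputable def k_V23 : List Net := [k_g18]

theorem k_V23_ok : okE 21 k_V23 = true := (okE_cons.2 ⟨k_g18_ok, (okE_nil 21)⟩)

noncomputable def k_g25 : Net := (Net.cons (nat_lit 1) (nat_lit 344084) (Net.cons (nat_lit 2) (nat_lit 131072) (Net.cons (nat_lit 4) (nat_lit 65548) (Net.cons (nat_lit 8) (nat_lit 225) (Net.cons (nat_lit 16) (nat_lit 31) (Net.cons (nat_lit 8) (nat_lit 1) (Net.cons (nat_lit 4) (nat_lit 65542) (Net.cons (nat_lit 2) (nat_lit 73778) (Net.cons (nat_lit 1) (nat_lit 344084) Net.nil)))))))))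

theorem k_g25_ok : Net.ok 21 k_g25 = true := by decide +kernel

noncomputable def k_g26 : Net := (Net.cons (nat_lit 1) (nat_lit 262400) (Net.cons (nat_lit 4) (nat_lit 3586) (Net.cons (nat_lit 8) (nat_lit 46) (Net.cons (nat_lit 16) (nat_lit 14) (Net.cons (nat_lit 8) (nat_lit 14) (Net.cons (nat_lit 4) (nat_lit 69134) (Net.cons (nat_lit 2) (nat_lit 139264) (Net.cons (nat_lit 1) (nat_lit 262484) Net.nil))))))))

theorem k_g26_ok : Net.ok 21 k_g26 = true := by decide +kernel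

noncomputable def k_g27 : Net := (Net.cons (nat_lit 1) (nat_lit 65600) (Net.cons (nat_lit 2) (nat_lit 196624) (Net.cons (nat_lit 4) (nat_lit 10) (Net.cons (nat_lit 8) (nat_lit 225) (Net.cons (nat_lit 16) (nat_lit 31) (Net.cons (nat_lit 8) (nat_lit 1) (Net.cons (nat_lit 4) (nat_lit 6) (Net.cons (nat_lit 2) (nat_lit 65584) (Net.cons (nat_lit 1) (nat_lit 16468) Net.nil)))))))))

theorem k_g27_ok : Net.ok 21 k_g27 = true := by decide +kernel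

noncomputable def k_V28 : List Net := [k_g20, k_g25, k_g26, k_g27]

theorem k_V28_ok : okE 21 k_V28 = true := (okE_cons.2 ⟨k_g20_ok, (okE_cons.2 ⟨k_g25_ok, (okE_cons.2 ⟨k_g26_ok, (okE_cons.2 ⟨k_g27_ok, (okE_nil 21)⟩)⟩)⟩)⟩)

noncomputable def k_g30 : Net := (Net.cons (nat_lit 1) (nat_lit 69633) (Net.cons (nat_lit 2) (nat_lit 33) (Net.cons (nat_lit 4) (nat_lit 2) (Net.cons (nat_lit 8) (nat_lit 192) (Net.cons (nat_lit 16) (nat_lit 31) (Net.cons (nat_lit 4) (nat_lit 65795) (Net.cons (nat_lit 2) (nat_lit 33) (Net.cons (nat_lit 1) (nat_lit 69633) Net.nil))))))))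

theorem k_g30_ok : Net.ok 21 k_g30 = true := by decide +kernel

noncomputable def k_g31 : Net := (Net.cons (nat_lit 1) (nat_lit 262160) (Net.cons (nat_lit 2) (nat_lit 65536) (Net.cons (nat_lit 4) (nat_lit 1280) (Net.cons (nat_lit 8) (nat_lit 4) (Net.cons (nat_lit 16) (nat_lit 4) (Net.cons (nat_lit 8) (nat_lit 20) (Net.cons (nat_lit 4) (nat_lit 66818) (Net.cons (nat_lit 2) (nat_lit 204800) (Net.cons (nat_lit 1) (nat_lit 262228) Net.nil)))))))))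

theorem k_g31_ok : Net.ok 21 k_g31 = true := by decide +kernel

noncomputable def k_V32 : List Net := [k_g30, k_g25, k_g27, k_g31]

theorem k_V32_ok : okE 21 k_V32 = true := (okE_cons.2 ⟨k_g30_ok, (okE_cons.2 ⟨k_g25_ok, (okE_cons.2 ⟨k_g27_ok, (okE_cons.2 ⟨k_g31_ok, (okE_nil 21)⟩)⟩)⟩)⟩)

noncomputable def k_E4 : List Net := []

theorem k_E4_ok : okE 21 k_E4 = true := (okE_nil 21)

noncomputable def k_G3 : List Net := [k_g30, k_g25, k_g27, k_g31]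

theorem k_G3_ok : okE 21 k_G3 = true := (okE_cons.2 ⟨k_g30_ok, (okE_cons.2 ⟨k_g25_ok, (okE_cons.2 ⟨k_g27_ok, (okE_cons.2 ⟨k_g31_ok, (okE_nil 21)⟩)⟩)⟩)⟩)

noncomputable def k_E3 : List Net := [k_g30, k_g25, k_g27, k_g31, k_g20, k_g26]

theorem k_E3_ok : okE 21 k_E3 = true := (okE_cons.2 ⟨k_g30_ok, (okE_cons.2 ⟨k_g25_ok, (okE_cons.2 ⟨k_g27_ok, (okE_cons.2 ⟨k_g31_ok, (okE_cons.2 ⟨k_g20_ok, (okE_cons.2 ⟨k_g26_ok, (okE_nil 21)⟩)⟩)⟩)⟩)⟩)⟩)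

noncomputable def k_G2 : List Net := [k_g18, k_g30, k_g25, k_g27, k_g31, k_g20, k_g26]

theorem k_G2_ok : okE 21 k_G2 = true := (okE_cons.2 ⟨k_g18_ok, (okE_cons.2 ⟨k_g30_ok, (okE_cons.2 ⟨k_g25_ok, (okE_cons.2 ⟨k_g27_ok, (okE_cons.2 ⟨k_g31_ok, (okE_cons.2 ⟨k_g20_ok, (okE_cons.2 ⟨k_g26_ok, (okE_nil 21)⟩)⟩)⟩)⟩)⟩)⟩)⟩)

noncomputable def k_E2 : List Net := [k_g18, k_g19, k_g30, k_g25, k_g27, k_g31, k_g20, k_g26]

theorem k_E2_ok : okE 21 k_E2 = true := (okE_cons.2 ⟨k_g18_ok, (okE_cons.2 ⟨k_g19_ok, (okE_cons.2 ⟨k_g30_ok, (okE_cons.2 ⟨k_g25_ok, (okE_cons.2 ⟨k_g27_ok, (okE_cons.2 ⟨k_g31_ok, (okE_cons.2 ⟨k_g20_ok, (okE_cons.2 ⟨k_g26_ok, (okE_nil 21)⟩)⟩)⟩)⟩)⟩)⟩)⟩)⟩)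

noncomputable def k_G1 : List Net := [k_g15, k_g18, k_g19, k_g30, k_g25, k_g27, k_g31, k_g20, k_g26]

theorem k_G1_ok : okE 21 k_G1 = true := (okE_cons.2 ⟨k_g15_ok, (okE_cons.2 ⟨k_g18_ok, (okE_cons.2 ⟨k_g19_ok, (okE_cons.2 ⟨k_g30_ok, (okE_cons.2 ⟨k_g25_ok, (okE_cons.2 ⟨k_g27_ok, (okE_cons.2 ⟨k_g31_ok, (okE_cons.2 ⟨k_g20_ok, (okE_cons.2 ⟨k_g26_ok, (okE_nil 21)⟩)⟩)⟩)⟩)⟩)⟩)⟩)⟩)⟩)

noncomputable def k_E1 : List Net := [k_g15, k_g11, k_g12, k_g18, k_g19, k_g30, k_g25, k_g27, k_g31, k_g20, k_g26]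

theorem k_E1_ok : okE 21 k_E1 = true := (okE_cons.2 ⟨k_g15_ok, (okE_cons.2 ⟨k_g11_ok, (okE_cons.2 ⟨k_g12_ok, (okE_cons.2 ⟨k_g18_ok, (okE_cons.2 ⟨k_g19_ok, (okE_cons.2 ⟨k_g30_ok, (okE_cons.2 ⟨k_g25_ok, (okE_cons.2 ⟨k_g27_ok, (okE_cons.2 ⟨k_g31_ok, (okE_cons.2 ⟨k_g20_ok, (okE_cons.2 ⟨k_g26_ok, (okE_nil 21)⟩)⟩)⟩)⟩)⟩)⟩)⟩)⟩)⟩)⟩)⟩)

noncomputable def k_G0 : List Net := [k_g8, k_g15, k_g11, k_g12, k_g18, k_g19, k_g30, k_g25, k_g27, k_g31, k_g20, k_g26]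

theorem k_G0_ok : okE 21 k_G0 = true := (okE_cons.2 ⟨k_g8_ok, (okE_cons.2 ⟨k_g15_ok, (okE_cons.2 ⟨k_g11_ok, (okE_cons.2 ⟨k_g12_ok, (okE_cons.2 ⟨k_g18_ok, (okE_cons.2 ⟨k_g19_ok, (okE_cons.2 ⟨k_g30_ok, (okE_cons.2 ⟨k_g25_ok, (okE_cons.2 ⟨k_g27_ok, (okE_cons.2 ⟨k_g31_ok, (okE_cons.2 ⟨k_g20_ok, (okE_cons.2 ⟨k_g26_ok, (okE_nil 21)⟩)⟩)⟩)⟩)⟩)⟩)⟩)⟩)⟩)⟩)⟩)⟩)

noncomputable def k_E0 : List Net := [k_g8, k_g1, k_g2, k_g3, k_g4, k_g5, k_g6, k_g7, k_g15, k_g11, k_g12, k_g18, k_g19, k_g30, k_g25, k_g27, k_g31, k_g20, k_g26]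

theorem k_E0_ok : okE 21 k_E0 = true := (okE_cons.2 ⟨k_g8_ok, (okE_cons.2 ⟨k_g1_ok, (okE_cons.2 ⟨k_g2_ok, (okE_cons.2 ⟨k_g3_ok, (okE_cons.2 ⟨k_g4_ok, (okE_cons.2 ⟨k_g5_ok, (okE_cons.2 ⟨k_g6_ok, (okE_cons.2 ⟨k_g7_ok, (okE_cons.2 ⟨k_g15_ok, (okE_cons.2 ⟨k_g11_ok, (okE_cons.2 ⟨k_g12_ok, (okE_cons.2 ⟨k_g18_ok, (okE_cons.2 ⟨k_g19_ok, (okE_cons.2 ⟨k_g30_ok, (okE_cons.2 ⟨k_g25_ok, (okE_cons.2 ⟨k_g27_ok, (okE_cons.2 ⟨k_g31_ok, (okE_cons.2 ⟨k_g20_ok, (okE_cons.2 ⟨k_g26_ok, (okE_nil 21)⟩)⟩)⟩)⟩)⟩)⟩)⟩)⟩)⟩)⟩)⟩)⟩)⟩)⟩)⟩)⟩)⟩)⟩)⟩)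

noncomputable def k_g44 : Net := (Net.cons (nat_lit 1) (nat_lit 87108) (Net.cons (nat_lit 2) (nat_lit 8496) (Net.cons (nat_lit 4) (nat_lit 65542) (Net.cons (nat_lit 8) (nat_lit 16) (Net.cons (nat_lit 16) (nat_lit 30) (Net.cons (nat_lit 8) (nat_lit 17) (Net.cons (nat_lit 4) (nat_lit 68620) (Net.cons (nat_lit 2) (nat_lit 139538) (Net.cons (nat_lit 1) (nat_lit 87108) Net.nil)))))))))

theorem k_g44_ok : Net.ok 21 k_g44 = true := by decide +kernel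

noncomputable def k_g45 : Net := (Net.cons (nat_lit 1) (nat_lit 86341) (Net.cons (nat_lit 2) (nat_lit 513) (Net.cons (nat_lit 4) (nat_lit 68104) (Net.cons (nat_lit 8) (nat_lit 66) (Net.cons (nat_lit 16) (nat_lit 15) (Net.cons (nat_lit 8) (nat_lit 28) (Net.cons (nat_lit 4) (nat_lit 67598) (Net.cons (nat_lit 2) (nat_lit 204819) (Net.cons (nat_lit 1) (nat_lit 262404) Net.nil)))))))))

theorem k_g45_ok : Net.ok 21 k_g45 = true := by decide +kernel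

noncomputable def k_g46 : Net := (Net.cons (nat_lit 1) (nat_lit 17729) (Net.cons (nat_lit 2) (nat_lit 140080) (Net.cons (nat_lit 4) (nat_lit 67840) (Net.cons (nat_lit 8) (nat_lit 233) (Net.cons (nat_lit 16) (nat_lit 27) (Net.cons (nat_lit 8) (nat_lit 18) (Net.cons (nat_lit 4) (nat_lit 2315) (Net.cons (nat_lit 2) (nat_lit 70451) (Net.cons (nat_lit 1) (nat_lit 349520) Net.nil)))))))))

theorem k_g46_ok : Net.ok 21 k_g46 = true := by decide +kernel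

noncomputable def k_g47 : Net := (Net.cons (nat_lit 1) (nat_lit 278864) (Net.cons (nat_lit 2) (nat_lit 69632) (Net.cons (nat_lit 4) (nat_lit 3076) (Net.cons (nat_lit 8) (nat_lit 228) (Net.cons (nat_lit 16) (nat_lit 5) (Net.cons (nat_lit 8) (nat_lit 22) (Net.cons (nat_lit 4) (nat_lit 3076) (Net.cons (nat_lit 2) (nat_lit 200704) (Net.cons (nat_lit 1) (nat_lit 278864) Net.nil)))))))))

theorem k_g47_ok : Net.ok 21 k_g47 = true := by decide +kernel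

noncomputable def k_g48 : Net := (Net.cons (nat_lit 1) (nat_lit 282896) (Net.cons (nat_lit 2) (nat_lit 139792) (Net.cons (nat_lit 4) (nat_lit 512) (Net.cons (nat_lit 8) (nat_lit 32) (Net.cons (nat_lit 16) (nat_lit 3) (Net.cons (nat_lit 8) (nat_lit 16) (Net.cons (nat_lit 4) (nat_lit 3588) (Net.cons (nat_lit 2) (nat_lit 74256) (Net.cons (nat_lit 1) (nat_lit 86289) Net.nil)))))))))

theorem k_g48_ok : Net.ok 21 k_g48 = true := by decide +kernel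

noncomputable def k_g49 : Net := (Net.cons (nat_lit 1) (nat_lit 267264) (Net.cons (nat_lit 2) (nat_lit 70160) (Net.cons (nat_lit 4) (nat_lit 68098) (Net.cons (nat_lit 8) (nat_lit 104) (Net.cons (nat_lit 16) (nat_lit 30) (Net.cons (nat_lit 8) (nat_lit 9) (Net.cons (nat_lit 4) (nat_lit 68615) (Net.cons (nat_lit 2) (nat_lit 4865) (Net.cons (nat_lit 1) (nat_lit 262145) Net.nil)))))))))

theorem k_g49_ok : Net.ok 21 k_g49 = true := by decide +kernel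

noncomputable def kt_c1_K : List Net := [k_g45, k_g46, k_g44, k_g47, k_g48, k_g49]

theorem kt_c1_K_ok : okE 21 kt_c1_K = true := (okE_cons.2 ⟨k_g45_ok, (okE_cons.2 ⟨k_g46_ok, (okE_cons.2 ⟨k_g44_ok, (okE_cons.2 ⟨k_g47_ok, (okE_cons.2 ⟨k_g48_ok, (okE_cons.2 ⟨k_g49_ok, (okE_nil 21)⟩)⟩)⟩)⟩)⟩)⟩)

noncomputable def k_V51 : List Net := [k_g15, k_g11, k_g12, k_g18, k_g19, k_g30, k_g25, k_g27, k_g31, k_g20, k_g26]

theorem k_V51_ok : okE 21 k_V51 = true := (okE_cons.2 ⟨k_g15_ok, (okE_cons.2 ⟨k_g11_ok, (okE_cons.2 ⟨k_g12_ok, (okE_cons.2 ⟨k_g18_ok, (okE_cons.2 ⟨k_g19_ok, (okE_cons.2 ⟨k_g30_ok, (okE_cons.2 ⟨k_g25_ok, (okE_cons.2 ⟨k_g27_ok, (okE_cons.2 ⟨k_g31_ok, (okE_cons.2 ⟨k_g20_ok, (okE_cons.2 ⟨k_g26_ok, (okE_nil 21)⟩)⟩)⟩)⟩)⟩)⟩)⟩)⟩)⟩)⟩)⟩)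

noncomputable def k_V52 : List Net := [k_g18, k_g19, k_g30, k_g25, k_g27, k_g31, k_g20, k_g26]

theorem k_V52_ok : okE 21 k_V52 = true := (okE_cons.2 ⟨k_g18_ok, (okE_cons.2 ⟨k_g19_ok, (okE_cons.2 ⟨k_g30_ok, (okE_cons.2 ⟨k_g25_ok, (okE_cons.2 ⟨k_g27_ok, (okE_cons.2 ⟨k_g31_ok, (okE_cons.2 ⟨k_g20_ok, (okE_cons.2 ⟨k_g26_ok, (okE_nil 21)⟩)⟩)⟩)⟩)⟩)⟩)⟩)⟩)

noncomputable def k_V53 : List Net := [k_g30, k_g25, k_g27, k_g31, k_g20, k_g26]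

theorem k_V53_ok : okE 21 k_V53 = true := (okE_cons.2 ⟨k_g30_ok, (okE_cons.2 ⟨k_g25_ok, (okE_cons.2 ⟨k_g27_ok, (okE_cons.2 ⟨k_g31_ok, (okE_cons.2 ⟨k_g20_ok, (okE_cons.2 ⟨k_g26_ok, (okE_nil 21)⟩)⟩)⟩)⟩)⟩)⟩)

noncomputable def k_V54 : List Net := []

theorem k_V54_ok : okE 21 k_V54 = true := (okE_nil 21)

noncomputable def kt_c1_cnt_EG : List Net := [k_g15, k_g11, k_g12, k_g18, k_g19, k_g30, k_g25, k_g27, k_g31, k_g20, k_g26, k_g8, k_g1, k_g2, k_g3, k_g4, k_g5, k_g6, k_g7]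

theorem kt_c1_cnt_EG_ok : okE 21 kt_c1_cnt_EG = true := (okE_cons.2 ⟨k_g15_ok, (okE_cons.2 ⟨k_g11_ok, (okE_cons.2 ⟨k_g12_ok, (okE_cons.2 ⟨k_g18_ok, (okE_cons.2 ⟨k_g19_ok, (okE_cons.2 ⟨k_g30_ok, (okE_cons.2 ⟨k_g25_ok, (okE_cons.2 ⟨k_g27_ok, (okE_cons.2 ⟨k_g31_ok, (okE_cons.2 ⟨k_g20_ok, (okE_cons.2 ⟨k_g26_ok, (okE_cons.2 ⟨k_g8_ok, (okE_cons.2 ⟨k_g1_ok, (okE_cons.2 ⟨k_g2_ok, (okE_cons.2 ⟨k_g3_ok, (okE_cons.2 ⟨k_g4_ok, (okE_cons.2 ⟨k_g5_ok, (okE_cons.2 ⟨k_g6_ok, (okE_cons.2 ⟨k_g7_ok, (okE_nil 21)⟩)⟩)⟩)⟩)⟩)⟩)⟩)⟩)⟩)⟩)⟩)⟩)⟩)⟩)⟩)⟩)⟩)⟩)⟩)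

noncomputable def k_g55 : Net := (Net.cons (nat_lit 1) (nat_lit 263236) (Net.cons (nat_lit 2) (nat_lit 4112) (Net.cons (nat_lit 4) (nat_lit 67584) (Net.cons (nat_lit 8) (nat_lit 200) (Net.cons (nat_lit 16) (nat_lit 26) (Net.cons (nat_lit 8) (nat_lit 6) (Net.cons (nat_lit 4) (nat_lit 8) (Net.cons (nat_lit 2) (nat_lit 273) (Net.cons (nat_lit 1) (nat_lit 262208) Net.nil)))))))))

theorem k_g55_ok : Net.ok 21 k_g55 = true := by decide +kernel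

noncomputable def k_g56 : Net := (Net.cons (nat_lit 1) (nat_lit 328016) (Net.cons (nat_lit 2) (nat_lit 4096) (Net.cons (nat_lit 4) (nat_lit 67840) (Net.cons (nat_lit 8) (nat_lit 172) (Net.cons (nat_lit 16) (nat_lit 28) (Net.cons (nat_lit 8) (nat_lit 7) (Net.cons (nat_lit 4) (nat_lit 67080) (Net.cons (nat_lit 2) (nat_lit 70401) (Net.cons (nat_lit 1) (nat_lit 332868) Net.nil)))))))))

theorem k_g56_ok : Net.ok 21 k_g56 = true := by decide +kernel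

noncomputable def kt_c2_K : List Net := [k_g56, k_g55]

theorem kt_c2_K_ok : okE 21 kt_c2_K = true := (okE_cons.2 ⟨k_g56_ok, (okE_cons.2 ⟨k_g55_ok, (okE_nil 21)⟩)⟩)

noncomputable def k_g58 : Net := (Net.cons (nat_lit 1) (nat_lit 5456) (Net.cons (nat_lit 2) (nat_lit 4112) (Net.cons (nat_lit 4) (nat_lit 68620) (Net.cons (nat_lit 8) (nat_lit 2) (Net.cons (nat_lit 16) (nat_lit 30) (Net.cons (nat_lit 8) (nat_lit 14) (Net.cons (nat_lit 4) (nat_lit 3854) (Net.cons (nat_lit 2) (nat_lit 8722) (Net.cons (nat_lit 1) (nat_lit 279632) Net.nil)))))))))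

theorem k_g58_ok : Net.ok 21 k_g58 = true := by decide +kernel

noncomputable def k_V59 : List Net := [k_g58]

theorem k_V59_ok : okE 21 k_V59 = true := (okE_cons.2 ⟨k_g58_ok, (okE_nil 21)⟩)

noncomputable def k_V61 : List Net := []

theorem k_V61_ok : okE 21 k_V61 = true := (okE_nil 21)

noncomputable def kt_c2_cnt_EG : List Net := [k_g18, k_g19, k_g30, k_g25, k_g27, k_g31, k_g20, k_g26, k_g15, k_g11, k_g12, k_g8, k_g1, k_g2, k_g3, k_g4, k_g5, k_g6, k_g7, k_g58]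

theorem kt_c2_cnt_EG_ok : okE 21 kt_c2_cnt_EG = true := (okE_cons.2 ⟨k_g18_ok, (okE_cons.2 ⟨k_g19_ok, (okE_cons.2 ⟨k_g30_ok, (okE_cons.2 ⟨k_g25_ok, (okE_cons.2 ⟨k_g27_ok, (okE_cons.2 ⟨k_g31_ok, (okE_cons.2 ⟨k_g20_ok, (okE_cons.2 ⟨k_g26_ok, (okE_cons.2 ⟨k_g15_ok, (okE_cons.2 ⟨k_g11_ok, (okE_cons.2 ⟨k_g12_ok, (okE_cons.2 ⟨k_g8_ok, (okE_cons.2 ⟨k_g1_ok, (okE_cons.2 ⟨k_g2_ok, (okE_cons.2 ⟨k_g3_ok, (okE_cons.2 ⟨k_g4_ok, (okE_cons.2 ⟨k_g5_ok, (okE_cons.2 ⟨k_g6_ok, (okE_cons.2 ⟨k_g7_ok, (okE_cons.2 ⟨k_g58_ok, (okE_nil 21)⟩)⟩)⟩)⟩)⟩)⟩)⟩)⟩)⟩)⟩)⟩)⟩)⟩)⟩)⟩)⟩)⟩)⟩)⟩)⟩)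

noncomputable def k_g62 : Net := (Net.cons (nat_lit 1) (nat_lit 344084) (Net.cons (nat_lit 2) (nat_lit 12289) (Net.cons (nat_lit 4) (nat_lit 66048) (Net.cons (nat_lit 8) (nat_lit 128) (Net.cons (nat_lit 16) (nat_lit 15) (Net.cons (nat_lit 8) (nat_lit 10) (Net.cons (nat_lit 4) (nat_lit 67086) (Net.cons (nat_lit 2) (nat_lit 131377) (Net.cons (nat_lit 1) (nat_lit 16405) Net.nil)))))))))

theorem k_g62_ok : Net.ok 21 k_g62 = true := by decide +kernel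

noncomputable def k_g63 : Net := (Net.cons (nat_lit 1) (nat_lit 272) (Net.cons (nat_lit 2) (nat_lit 77824) (Net.cons (nat_lit 4) (nat_lit 4) (Net.cons (nat_lit 8) (nat_lit 124) (Net.cons (nat_lit 16) (nat_lit 30) (Net.cons (nat_lit 8) (nat_lit 30) (Net.cons (nat_lit 4) (nat_lit 8) (Net.cons (nat_lit 2) (nat_lit 135169) (Net.cons (nat_lit 1) (nat_lit 327936) Net.nil)))))))))

theorem k_g63_ok : Net.ok 21 k_g63 = true := by decide +kernel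

noncomputable def k_g64 : Net := (Net.cons (nat_lit 1) (nat_lit 278784) (Net.cons (nat_lit 2) (nat_lit 4624) (Net.cons (nat_lit 4) (nat_lit 256) (Net.cons (nat_lit 8) (nat_lit 104) (Net.cons (nat_lit 16) (nat_lit 10) (Net.cons (nat_lit 8) (nat_lit 9) (Net.cons (nat_lit 4) (nat_lit 261) (Net.cons (nat_lit 2) (nat_lit 66049) (Net.cons (nat_lit 1) (nat_lit 279808) Net.nil)))))))))

theorem k_g64_ok : Net.ok 21 k_g64 = true := by decide +kernel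

noncomputable def kt_c3_K : List Net := [k_g62, k_g63, k_g44, k_g64]

theorem kt_c3_K_ok : okE 21 kt_c3_K = true := (okE_cons.2 ⟨k_g62_ok, (okE_cons.2 ⟨k_g63_ok, (okE_cons.2 ⟨k_g44_ok, (okE_cons.2 ⟨k_g64_ok, (okE_nil 21)⟩)⟩)⟩)⟩)

noncomputable def kt_c3_cnt_EG : List Net := [k_g30, k_g25, k_g27, k_g31, k_g20, k_g26, k_g18, k_g19, k_g15, k_g11, k_g12, k_g8, k_g1, k_g2, k_g3, k_g4, k_g5, k_g6, k_g7]

theorem kt_c3_cnt_EG_ok : okE 21 kt_c3_cnt_EG = true := (okE_cons.2 ⟨k_g30_ok, (okE_cons.2 ⟨k_g25_ok, (okE_cons.2 ⟨k_g27_ok, (okE_cons.2 ⟨k_g31_ok, (okE_cons.2 ⟨k_g20_ok, (okE_cons.2 ⟨k_g26_ok, (okE_cons.2 ⟨k_g18_ok, (okE_cons.2 ⟨k_g19_ok, (okE_cons.2 ⟨k_g15_ok, (okE_cons.2 ⟨k_g11_ok, (okE_cons.2 ⟨k_g12_ok, (okE_cons.2 ⟨k_g8_ok, (okE_cons.2 ⟨k_g1_ok, (okE_cons.2 ⟨k_g2_ok, (okE_cons.2 ⟨k_g3_ok, (okE_cons.2 ⟨k_g4_ok, (okE_cons.2 ⟨k_g5_ok,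 (okE_cons.2 ⟨k_g6_ok, (okE_cons.2 ⟨k_g7_ok, (okE_nil 21)⟩)⟩)⟩)⟩)⟩)⟩)⟩)⟩)⟩)⟩)⟩)⟩)⟩)⟩)⟩)⟩)⟩)⟩)⟩)

noncomputable def k_g66 : Net := (Net.cons (nat_lit 1) (nat_lit 5392) (Net.cons (nat_lit 2) (nat_lit 272) (Net.cons (nat_lit 4) (nat_lit 66048) (Net.cons (nat_lit 8) (nat_lit 207) (Net.cons (nat_lit 16) (nat_lit 31) (Net.cons (nat_lit 8) (nat_lit 15) (Net.cons (nat_lit 4) (nat_lit 65794) (Net.cons (nat_lit 2) (nat_lit 139264) (Net.cons (nat_lit 1) (nat_lit 16468) Net.nil)))))))))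

theorem k_g66_ok : Net.ok 21 k_g66 = true := by decide +kernel

noncomputable def k_g67 : Net := (Net.cons (nat_lit 1) (nat_lit 16401) (Net.cons (nat_lit 2) (nat_lit 131104) (Net.cons (nat_lit 4) (nat_lit 6) (Net.cons (nat_lit 8) (nat_lit 9) (Net.cons (nat_lit 16) (nat_lit 31) (Net.cons (nat_lit 8) (nat_lit 9) (Net.cons (nat_lit 4) (nat_lit 67086) (Net.cons (nat_lit 2) (nat_lit 144161) (Net.cons (nat_lit 1) (nat_lit 86353) Net.nil)))))))))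

theorem k_g67_ok : Net.ok 21 k_g67 = true := by decide +kernel

noncomputable def k_g68 : Net := (Net.cons (nat_lit 2) (nat_lit 65792) (Net.cons (nat_lit 4) (nat_lit 1024) (Net.cons (nat_lit 8) (nat_lit 68) (Net.cons (nat_lit 16) (nat_lit 4) (Net.cons (nat_lit 8) (nat_lit 4) (Net.cons (nat_lit 4) (nat_lit 66816) (Net.cons (nat_lit 2) (nat_lit 205600) Net.nil)))))))

theorem k_g68_ok : Net.ok 21 k_g68 = true := by decide +kernel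

noncomputable def kt_c4_K : List Net := [k_g66, k_g67, k_g4, k_g68]

theorem kt_c4_K_ok : okE 21 kt_c4_K = true := (okE_cons.2 ⟨k_g66_ok, (okE_cons.2 ⟨k_g67_ok, (okE_cons.2 ⟨k_g4_ok, (okE_cons.2 ⟨k_g68_ok, (okE_nil 21)⟩)⟩)⟩)⟩)

noncomputable def kt_c4_cnt_EG : List Net := [k_g30, k_g25, k_g27, k_g31, k_g20, k_g26, k_g18, k_g19, k_g15, k_g11, k_g12, k_g8, k_g1, k_g2, k_g3, k_g4, k_g5, k_g6, k_g7]

theorem kt_c4_cnt_EG_ok : okE 21 kt_c4_cnt_EG = true := (okE_cons.2 ⟨k_g30_ok, (okE_cons.2 ⟨k_g25_ok, (okE_cons.2 ⟨k_g27_ok, (okE_cons.2 ⟨k_g31_ok, (okE_cons.2 ⟨k_g20_ok, (okE_cons.2 ⟨k_g26_ok, (okE_cons.2 ⟨k_g18_ok, (okE_cons.2 ⟨k_g19_ok, (okE_cons.2 ⟨k_g15_ok, (okE_cons.2 ⟨k_g11_ok, (okE_cons.2 ⟨k_g12_ok, (okE_cons.2 ⟨k_g8_ok, (okE_cons.2 ⟨k_g1_ok, (okE_cons.2 ⟨k_g2_ok, (okE_cons.2 ⟨k_g3_ok, (okE_cons.2 ⟨k_g4_ok, (okE_cons.2 ⟨k_g5_ok,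 (okE_cons.2 ⟨k_g6_ok, (okE_cons.2 ⟨k_g7_ok, (okE_nil 21)⟩)⟩)⟩)⟩)⟩)⟩)⟩)⟩)⟩)⟩)⟩)⟩)⟩)⟩)⟩)⟩)⟩)⟩)⟩)

noncomputable def k_g70 : Net := (Net.cons (nat_lit 1) (nat_lit 5125) (Net.cons (nat_lit 2) (nat_lit 69937) (Net.cons (nat_lit 4) (nat_lit 66304) (Net.cons (nat_lit 8) (nat_lit 73) (Net.cons (nat_lit 16) (nat_lit 29) (Net.cons (nat_lit 8) (nat_lit 11) (Net.cons (nat_lit 4) (nat_lit 69383) (Net.cons (nat_lit 2) (nat_lit 12306) (Net.cons (nat_lit 1) (nat_lit 328784) Net.nil)))))))))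

theorem k_g70_ok : Net.ok 21 k_g70 = true := by decide +kernel

noncomputable def k_g71 : Net := (Net.cons (nat_lit 1) (nat_lit 66836) (Net.cons (nat_lit 2) (nat_lit 66065) (Net.cons (nat_lit 4) (nat_lit 65540) (Net.cons (nat_lit 8) (nat_lit 204) (Net.cons (nat_lit 16) (nat_lit 13) (Net.cons (nat_lit 8) (nat_lit 30) (Net.cons (nat_lit 4) (nat_lit 65544) (Net.cons (nat_lit 2) (nat_lit 201249) (Net.cons (nat_lit 1) (nat_lit 348500) Net.nil)))))))))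

theorem k_g71_ok : Net.ok 21 k_g71 = true := by decide +kernel

noncomputable def kt_c5_K : List Net := [k_g70, k_g71, k_g44, k_g49]

theorem kt_c5_K_ok : okE 21 kt_c5_K = true := (okE_cons.2 ⟨k_g70_ok, (okE_cons.2 ⟨k_g71_ok, (okE_cons.2 ⟨k_g44_ok, (okE_cons.2 ⟨k_g49_ok, (okE_nil 21)⟩)⟩)⟩)⟩)

noncomputable def kt_c5_cnt_EG : List Net := [k_g30, k_g25, k_g27, k_g31, k_g20, k_g26, k_g18, k_g19, k_g15, k_g11, k_g12, k_g8, k_g1, k_g2, k_g3, k_g4, k_g5, k_g6, k_g7]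

theorem kt_c5_cnt_EG_ok : okE 21 kt_c5_cnt_EG = true := (okE_cons.2 ⟨k_g30_ok, (okE_cons.2 ⟨k_g25_ok, (okE_cons.2 ⟨k_g27_ok, (okE_cons.2 ⟨k_g31_ok, (okE_cons.2 ⟨k_g20_ok, (okE_cons.2 ⟨k_g26_ok, (okE_cons.2 ⟨k_g18_ok, (okE_cons.2 ⟨k_g19_ok, (okE_cons.2 ⟨k_g15_ok, (okE_cons.2 ⟨k_g11_ok, (okE_cons.2 ⟨k_g12_ok, (okE_cons.2 ⟨k_g8_ok, (okE_cons.2 ⟨k_g1_ok, (okE_cons.2 ⟨k_g2_ok, (okE_cons.2 ⟨k_g3_ok, (okE_cons.2 ⟨k_g4_ok, (okE_cons.2 ⟨k_g5_ok, (okE_cons.2 ⟨k_g6_ok, (okE_cons.2 ⟨k_g7_ok, (okE_nil 21)⟩)⟩)⟩)⟩)⟩)⟩)⟩)⟩)⟩)⟩)⟩)⟩)⟩)⟩)⟩)⟩)⟩)⟩)⟩)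

noncomputable def k_g73 : Net := (Net.cons (nat_lit 1) (nat_lit 262144) (Net.cons (nat_lit 2) (nat_lit 74289) (Net.cons (nat_lit 4) (nat_lit 2056) (Net.cons (nat_lit 8) (nat_lit 224) (Net.cons (nat_lit 16) (nat_lit 12) (Net.cons (nat_lit 8) (nat_lit 5) (Net.cons (nat_lit 4) (nat_lit 67077) (Net.cons (nat_lit 2) (nat_lit 139571) (Net.cons (nat_lit 1) (nat_lit 344065) Net.nil)))))))))

theorem k_g73_ok : Net.ok 21 k_g73 = true := by decide +kernel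

noncomputable def kt_c6_K : List Net := [k_g73]

theorem kt_c6_K_ok : okE 21 kt_c6_K = true := (okE_cons.2 ⟨k_g73_ok, (okE_nil 21)⟩)

noncomputable def kt_c6_cnt_EG : List Net := [k_g18, k_g19, k_g30, k_g25, k_g27, k_g31, k_g20, k_g26, k_g15, k_g11, k_g12, k_g8, k_g1, k_g2, k_g3, k_g4, k_g5, k_g6, k_g7, k_g58]

theorem kt_c6_cnt_EG_ok : okE 21 kt_c6_cnt_EG = true := (okE_cons.2 ⟨k_g18_ok, (okE_cons.2 ⟨k_g19_ok, (okE_cons.2 ⟨k_g30_ok, (okE_cons.2 ⟨k_g25_ok, (okE_cons.2 ⟨k_g27_ok, (okE_cons.2 ⟨k_g31_ok, (okE_cons.2 ⟨k_g20_ok, (okE_cons.2 ⟨k_g26_ok, (okE_cons.2 ⟨k_g15_ok, (okE_cons.2 ⟨k_g11_ok, (okE_cons.2 ⟨k_g12_ok, (okE_cons.2 ⟨k_g8_ok, (okE_cons.2 ⟨k_g1_ok, (okE_cons.2 ⟨k_g2_ok, (okE_cons.2 ⟨k_g3_ok, (okE_cons.2 ⟨k_g4_ok, (okE_cons.2 ⟨k_g5_ok, (okE_cons.2 ⟨k_g6_ok, (okE_cons.2 ⟨k_g7_ok, (okE_cons.2 ⟨k_g58_ok, (okE_nil 21)⟩)⟩)⟩)⟩)⟩)⟩)⟩)⟩)⟩)⟩)⟩)⟩)⟩)⟩)⟩)⟩)⟩)⟩)⟩)⟩)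

noncomputable def k_g75 : Net := (Net.cons (nat_lit 1) (nat_lit 279568) (Net.cons (nat_lit 2) (nat_lit 143872) (Net.cons (nat_lit 4) (nat_lit 1792) (Net.cons (nat_lit 8) (nat_lit 72) (Net.cons (nat_lit 16) (nat_lit 9) (Net.cons (nat_lit 8) (nat_lit 18) (Net.cons (nat_lit 4) (nat_lit 67077) (Net.cons (nat_lit 2) (nat_lit 200755) (Net.cons (nat_lit 1) (nat_lit 82241) Net.nil)))))))))

theorem k_g75_ok : Net.ok 21 k_g75 = true := by decide +kernel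

noncomputable def kt_c7_K : List Net := [k_g75]

theorem kt_c7_K_ok : okE 21 kt_c7_K = true := (okE_cons.2 ⟨k_g75_ok, (okE_nil 21)⟩)

noncomputable def kt_c7_cnt_EG : List Net := [k_g18, k_g19, k_g30, k_g25, k_g27, k_g31, k_g20, k_g26, k_g15, k_g11, k_g12, k_g8, k_g1, k_g2, k_g3, k_g4, k_g5, k_g6, k_g7, k_g58]

theorem kt_c7_cnt_EG_ok : okE 21 kt_c7_cnt_EG = true := (okE_cons.2 ⟨k_g18_ok, (okE_cons.2 ⟨k_g19_ok, (okE_cons.2 ⟨k_g30_ok, (okE_cons.2 ⟨k_g25_ok, (okE_cons.2 ⟨k_g27_ok, (okE_cons.2 ⟨k_g31_ok, (okE_cons.2 ⟨k_g20_ok, (okE_cons.2 ⟨k_g26_ok, (okE_cons.2 ⟨k_g15_ok, (okE_cons.2 ⟨k_g11_ok, (okE_cons.2 ⟨k_g12_ok, (okE_cons.2 ⟨k_g8_ok, (okE_cons.2 ⟨k_g1_ok, (okE_cons.2 ⟨k_g2_ok, (okE_cons.2 ⟨k_g3_ok, (okE_cons.2 ⟨k_g4_ok, (okE_cons.2 ⟨k_g5_ok, (okE_cons.2 ⟨k_g6_ok, (okE_cons.2 ⟨k_g7_ok, (okE_cons.2 ⟨k_g58_ok, (okE_nil 21)⟩)⟩)⟩)⟩)⟩)⟩)⟩)⟩)⟩)⟩)⟩)⟩)⟩)⟩)⟩)⟩)⟩)⟩)⟩)⟩)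

noncomputable def k_g77 : Net := (Net.cons (nat_lit 1) (nat_lit 69956) (Net.cons (nat_lit 2) (nat_lit 131345) (Net.cons (nat_lit 4) (nat_lit 66574) (Net.cons (nat_lit 8) (nat_lit 48) (Net.cons (nat_lit 16) (nat_lit 30) (Net.cons (nat_lit 8) (nat_lit 15) (Net.cons (nat_lit 4) (nat_lit 3329) (Net.cons (nat_lit 2) (nat_lit 4402) (Net.cons (nat_lit 1) (nat_lit 332881) Net.nil)))))))))

theorem k_g77_ok : Net.ok 21 k_g77 = true := by decide +kernel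

noncomputable def kt_c8_K : List Net := [k_g77]

theorem kt_c8_K_ok : okE 21 kt_c8_K = true := (okE_cons.2 ⟨k_g77_ok, (okE_nil 21)⟩)

noncomputable def kt_c8_cnt_EG : List Net := [k_g18, k_g19, k_g30, k_g25, k_g27, k_g31, k_g20, k_g26, k_g15, k_g11, k_g12, k_g8, k_g1, k_g2, k_g3, k_g4, k_g5, k_g6, k_g7]

theorem kt_c8_cnt_EG_ok : okE 21 kt_c8_cnt_EG = true := (okE_cons.2 ⟨k_g18_ok, (okE_cons.2 ⟨k_g19_ok, (okE_cons.2 ⟨k_g30_ok, (okE_cons.2 ⟨k_g25_ok, (okE_cons.2 ⟨k_g27_ok, (okE_cons.2 ⟨k_g31_ok, (okE_cons.2 ⟨k_g20_ok, (okE_cons.2 ⟨k_g26_ok, (okE_cons.2 ⟨k_g15_ok, (okE_cons.2 ⟨k_g11_ok, (okE_cons.2 ⟨k_g12_ok, (okE_cons.2 ⟨k_g8_ok, (okE_cons.2 ⟨k_g1_ok, (okE_cons.2 ⟨k_g2_ok, (okE_cons.2 ⟨k_g3_ok, (okE_cons.2 ⟨k_g4_ok, (okE_cons.2 ⟨k_g5_ok, (okE_cons.2 ⟨k_g6_ok, (okE_cons.2 ⟨k_g7_ok, (okE_nil 21)⟩)⟩)⟩)⟩)⟩)⟩)⟩)⟩)⟩)⟩)⟩)⟩)⟩)⟩)⟩)⟩)⟩)⟩)⟩)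

noncomputable def k_g79 : Net := (Net.cons (nat_lit 1) (nat_lit 283909) (Net.cons (nat_lit 2) (nat_lit 78097) (Net.cons (nat_lit 4) (nat_lit 66048) (Net.cons (nat_lit 8) (nat_lit 99) (Net.cons (nat_lit 16) (nat_lit 23) (Net.cons (nat_lit 8) (nat_lit 9) (Net.cons (nat_lit 4) (nat_lit 1799) (Net.cons (nat_lit 2) (nat_lit 140067) (Net.cons (nat_lit 1) (nat_lit 1093) Net.nil)))))))))

theorem k_g79_ok : Net.ok 21 k_g79 = true := by decide +kernel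

noncomputable def kt_c9_K : List Net := [k_g79]

theorem kt_c9_K_ok : okE 21 kt_c9_K = true := (okE_cons.2 ⟨k_g79_ok, (okE_nil 21)⟩)

noncomputable def kt_c9_cnt_EG : List Net := [k_g18, k_g19, k_g30, k_g25, k_g27, k_g31, k_g20, k_g26, k_g15, k_g11, k_g12, k_g8, k_g1, k_g2, k_g3, k_g4, k_g5, k_g6, k_g7]

theorem kt_c9_cnt_EG_ok : okE 21 kt_c9_cnt_EG = true := (okE_cons.2 ⟨k_g18_ok, (okE_cons.2 ⟨k_g19_ok, (okE_cons.2 ⟨k_g30_ok, (okE_cons.2 ⟨k_g25_ok, (okE_cons.2 ⟨k_g27_ok, (okE_cons.2 ⟨k_g31_ok, (okE_cons.2 ⟨k_g20_ok, (okE_cons.2 ⟨k_g26_ok, (okE_cons.2 ⟨k_g15_ok, (okE_cons.2 ⟨k_g11_ok, (okE_cons.2 ⟨k_g12_ok, (okE_cons.2 ⟨k_g8_ok, (okE_cons.2 ⟨k_g1_ok, (okE_cons.2 ⟨k_g2_ok, (okE_cons.2 ⟨k_g3_ok, (okE_cons.2 ⟨k_g4_ok, (okE_cons.2 ⟨k_g5_ok, (okE_cons.2 ⟨k_g6_ok, (okE_cons.2 ⟨k_g7_ok, (okE_nil 21)⟩)⟩)⟩)⟩)⟩)⟩)⟩)⟩)⟩)⟩)⟩)⟩)⟩)⟩)⟩)⟩)⟩)⟩)⟩)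

noncomputable def kt_nc4_3_cnt_EG : List Net := [k_g30, k_g25, k_g27, k_g31, k_g20, k_g26, k_g18, k_g19, k_g15, k_g11, k_g12, k_g8, k_g1, k_g2, k_g3, k_g4, k_g5, k_g6, k_g7]

theorem kt_nc4_3_cnt_EG_ok : okE 21 kt_nc4_3_cnt_EG = true := (okE_cons.2 ⟨k_g30_ok, (okE_cons.2 ⟨k_g25_ok, (okE_cons.2 ⟨k_g27_ok, (okE_cons.2 ⟨k_g31_ok, (okE_cons.2 ⟨k_g20_ok, (okE_cons.2 ⟨k_g26_ok, (okE_cons.2 ⟨k_g18_ok, (okE_cons.2 ⟨k_g19_ok, (okE_cons.2 ⟨k_g15_ok, (okE_cons.2 ⟨k_g11_ok, (okE_cons.2 ⟨k_g12_ok, (okE_cons.2 ⟨k_g8_ok, (okE_cons.2 ⟨k_g1_ok, (okE_cons.2 ⟨k_g2_ok, (okE_cons.2 ⟨k_g3_ok, (okE_cons.2 ⟨k_g4_ok, (okE_cons.2 ⟨k_g5_ok, (okE_cons.2 ⟨k_g6_ok, (okE_cons.2 ⟨k_g7_ok, (okE_nil 21)⟩)⟩)⟩)⟩)⟩)⟩)⟩)⟩)⟩)⟩)⟩)⟩)⟩)⟩)⟩)⟩)⟩)⟩)⟩)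

noncomputable def kt_nc5_3_cnt_EG : List Net := [k_g30, k_g25, k_g27, k_g31, k_g20, k_g26, k_g18, k_g19, k_g15, k_g11, k_g12, k_g8, k_g1, k_g2, k_g3, k_g4, k_g5, k_g6, k_g7]

theorem kt_nc5_3_cnt_EG_ok : okE 21 kt_nc5_3_cnt_EG = true := (okE_cons.2 ⟨k_g30_ok, (okE_cons.2 ⟨k_g25_ok, (okE_cons.2 ⟨k_g27_ok, (okE_cons.2 ⟨k_g31_ok, (okE_cons.2 ⟨k_g20_ok, (okE_cons.2 ⟨k_g26_ok, (okE_cons.2 ⟨k_g18_ok, (okE_cons.2 ⟨k_g19_ok, (okE_cons.2 ⟨k_g15_ok, (okE_cons.2 ⟨k_g11_ok, (okE_cons.2 ⟨k_g12_ok, (okE_cons.2 ⟨k_g8_ok, (okE_cons.2 ⟨k_g1_ok, (okE_cons.2 ⟨k_g2_ok, (okE_cons.2 ⟨k_g3_ok, (okE_cons.2 ⟨k_g4_ok, (okE_cons.2 ⟨k_g5_ok, (okE_cons.2 ⟨k_g6_ok, (okE_cons.2 ⟨k_g7_ok, (okE_nil 21)⟩)⟩)⟩)⟩)⟩)⟩)⟩)⟩)⟩)⟩)⟩)⟩)⟩)⟩)⟩)⟩)⟩)⟩)⟩)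

noncomputable def kt_nc5_4_cnt_EG : List Net := [k_g30, k_g25, k_g27, k_g31, k_g20, k_g26, k_g18, k_g19, k_g15, k_g11, k_g12, k_g8, k_g1, k_g2, k_g3, k_g4, k_g5, k_g6, k_g7]

theorem kt_nc5_4_cnt_EG_ok : okE 21 kt_nc5_4_cnt_EG = true := (okE_cons.2 ⟨k_g30_ok, (okE_cons.2 ⟨k_g25_ok, (okE_cons.2 ⟨k_g27_ok, (okE_cons.2 ⟨k_g31_ok, (okE_cons.2 ⟨k_g20_ok, (okE_cons.2 ⟨k_g26_ok, (okE_cons.2 ⟨k_g18_ok, (okE_cons.2 ⟨k_g19_ok, (okE_cons.2 ⟨k_g15_ok, (okE_cons.2 ⟨k_g11_ok, (okE_cons.2 ⟨k_g12_ok, (okE_cons.2 ⟨k_g8_ok, (okE_cons.2 ⟨k_g1_ok, (okE_cons.2 ⟨k_g2_ok, (okE_cons.2 ⟨k_g3_ok, (okE_cons.2 ⟨k_g4_ok, (okE_cons.2 ⟨k_g5_ok, (okE_cons.2 ⟨k_g6_ok, (okE_cons.2 ⟨k_g7_ok, (okE_nil 21)⟩)⟩)⟩)⟩)⟩)⟩)⟩)⟩)⟩)⟩)⟩)⟩)⟩)⟩)⟩)⟩)⟩)⟩)⟩)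

noncomputable def kt_nc7_6_cnt_EG : List Net := [k_g18, k_g19, k_g30, k_g25, k_g27, k_g31, k_g20, k_g26, k_g15, k_g11, k_g12, k_g8, k_g1, k_g2, k_g3, k_g4, k_g5, k_g6, k_g7, k_g58]

theorem kt_nc7_6_cnt_EG_ok : okE 21 kt_nc7_6_cnt_EG = true := (okE_cons.2 ⟨k_g18_ok, (okE_cons.2 ⟨k_g19_ok, (okE_cons.2 ⟨k_g30_ok, (okE_cons.2 ⟨k_g25_ok, (okE_cons.2 ⟨k_g27_ok, (okE_cons.2 ⟨k_g31_ok, (okE_cons.2 ⟨k_g20_ok, (okE_cons.2 ⟨k_g26_ok, (okE_cons.2 ⟨k_g15_ok, (okE_cons.2 ⟨k_g11_ok, (okE_cons.2 ⟨k_g12_ok, (okE_cons.2 ⟨k_g8_ok, (okE_cons.2 ⟨k_g1_ok, (okE_cons.2 ⟨k_g2_ok, (okE_cons.2 ⟨k_g3_ok, (okE_cons.2 ⟨k_g4_ok, (okE_cons.2 ⟨k_g5_ok, (okE_cons.2 ⟨k_g6_ok, (okE_cons.2 ⟨k_g7_ok, (okE_cons.2 ⟨k_g58_ok, (okE_nil 21)⟩)⟩)⟩)⟩)⟩)⟩)⟩)⟩)⟩)⟩)⟩)⟩)⟩)⟩)⟩)⟩)⟩)⟩)⟩)⟩)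

noncomputable def kt_nc9_8_cnt_EG : List Net := [k_g15, k_g11, k_g12, k_g18, k_g19, k_g30, k_g25, k_g27, k_g31, k_g20, k_g26, k_g8, k_g1, k_g2, k_g3, k_g4, k_g5, k_g6, k_g7]

theorem kt_nc9_8_cnt_EG_ok : okE 21 kt_nc9_8_cnt_EG = true := (okE_cons.2 ⟨k_g15_ok, (okE_cons.2 ⟨k_g11_ok, (okE_cons.2 ⟨k_g12_ok, (okE_cons.2 ⟨k_g18_ok, (okE_cons.2 ⟨k_g19_ok, (okE_cons.2 ⟨k_g30_ok, (okE_cons.2 ⟨k_g25_ok, (okE_cons.2 ⟨k_g27_ok, (okE_cons.2 ⟨k_g31_ok, (okE_cons.2 ⟨k_g20_ok, (okE_cons.2 ⟨k_g26_ok, (okE_cons.2 ⟨k_g8_ok, (okE_cons.2 ⟨k_g1_ok, (okE_cons.2 ⟨k_g2_ok, (okE_cons.2 ⟨k_g3_ok, (okE_cons.2 ⟨k_g4_ok, (okE_cons.2 ⟨k_g5_ok, (okE_cons.2 ⟨k_g6_ok, (okE_cons.2 ⟨k_g7_ok, (okE_nil 21)⟩)⟩)⟩)⟩)⟩)⟩)⟩)⟩)⟩)⟩)⟩)⟩)⟩)⟩)⟩)⟩)⟩)⟩)⟩)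

theorem k_le10 : grp 21 k_V9 ≤ grp 21 k_O :=
  grp_le_of_memB k_hn k_hk k_O_ok k_V9_ok (ws := [nat_lit 0x1030501]) (by decide +kernel)

theorem k_le14 : grp 21 k_V13 ≤ grp 21 k_O :=
  grp_le_of_memB k_hn k_hk k_O_ok k_V13_ok (ws := [nat_lit 0x205080c05070a0702, nat_lit 0x80e0a0c0a0e0804]) (by decide +kernel)

theorem k_le17 : grp 21 k_V16 ≤ grp 21 k_V13 :=
  grp_le_of_memB k_hn k_hk k_V13_ok k_V16_ok (ws := [nat_lit 196867]) (by decide +kernel)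

theorem k_le22 : grp 21 k_V21 ≤ grp 21 k_V13 :=
  grp_le_of_memB k_hn k_hk k_V13_ok k_V21_ok (ws := [nat_lit 0x40402030104, nat_lit 0x30302030301030204, nat_lit 0x1040402040104020303]) (by decide +kernel)

theorem k_le24 : grp 21 k_V23 ≤ grp 21 k_V21 :=
  grp_le_of_memB k_hn k_hk k_V21_ok k_V23_ok (ws := [nat_lit 1]) (by decide +kernel)

theorem k_le29 : grp 21 k_V28 ≤ grp 21 k_V21 :=
  grp_le_of_memB k_hn k_hk k_V21_ok k_V28_ok (ws := [nat_lit 0x10601050202, nat_lit 0x20404040601, nat_lit 0x303050306010301, nat_lit 0x305050104010601]) (by decide +kernel)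

theorem k_le33 : grp 21 k_V32 ≤ grp 21 k_V28 :=
  grp_le_of_memB k_hn k_hk k_V28_ok k_V32_ok (ws := [nat_lit 1287, nat_lit 3, nat_lit 7, nat_lit 66823]) (by decide +kernel)

theorem k_card4 : Nat.card (grp 21 k_E4) = 1 :=
  card_grp_nil 21

theorem k_leO4 : grp 21 k_E4 ≤ grp 21 k_O :=
  grp_nil_le _

theorem k_3_fix : grp 21 k_E4 ≤ MulAction.stabilizer (Equiv.Perm (Fin 21)) (⟨1, by decide⟩ : Fin 21) :=
  grp_le_stab k_E4_ok (by decide : 1 < 21) (by decide +kernel)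

noncomputable def k_3_ts : List ℕ := [nat_lit 0, nat_lit 1, nat_lit 3, nat_lit 5, nat_lit 7, nat_lit 259, nat_lit 261, nat_lit 263, nat_lit 773, nat_lit 775, nat_lit 1287, nat_lit 66309, nat_lit 66311, nat_lit 66823, nat_lit 197895, nat_lit 0x1030507]

noncomputable def k_3_ds : List ℕ := [nat_lit 1, nat_lit 18, nat_lit 16, nat_lit 13, nat_lit 4, nat_lit 7, nat_lit 8, nat_lit 17, nat_lit 2, nat_lit 14, nat_lit 15, nat_lit 20, nat_lit 6, nat_lit 5, nat_lit 3, nat_lit 19]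

theorem k_3_dist : Dist 21 k_E4 k_G3 (⟨1, by decide⟩ : Fin 21) k_3_ts k_3_ds :=
  dist_of_distB (k := 4) k_hn k_E4_ok k_G3_ok (by decide : 1 < 21) (by decide +kernel)

noncomputable def k_3_sl0 : SL := (SL.cons (nat_lit 1) (nat_lit 18) Ch.nil [] (SL.cons (nat_lit 3) (nat_lit 16) Ch.nil [] (SL.cons (nat_lit 5) (nat_lit 13) Ch.nil [] (SL.cons (nat_lit 7) (nat_lit 4) Ch.nil [] (SL.cons (nat_lit 259) (nat_lit 7) Ch.nil [] (SL.cons (nat_lit 261) (nat_lit 8) Ch.nil [] (SL.cons (nat_lit 263) (nat_lit 17) Ch.nil [] (SL.cons (nat_lit 773) (nat_lit 2) Ch.nil [] (SL.cons (nat_lit 775) (nat_lit 14) Ch.nil [] (SL.cons (nat_lit 1287) (nat_lit 15) Ch.nil [] (SL.cons (nat_lit 66309) (nat_lit 20) Ch.nil [] (SL.cons (nat_lit 66311) (nat_lit 6) Ch.nil [] (SL.cons (nat_lit 66823) (nat_lit 5) Ch.nil [] (SL.cons (nat_lit 197895) (nat_lit 3) Ch.nil []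 (SL.cons (nat_lit 0x1030507) (nat_lit 19) Ch.nil [] SL.nil)))))))))))))))

theorem k_3_sc0 : SCs 21 k_E4 k_G3 (⟨1, by decide⟩ : Fin 21) (SL.words k_3_sl0) :=
  scs_of_ok k_hn (det_lab k_hk ⊤) k_E4_ok k_G3_ok le_top le_top (by decide : 1 < 21) k_3_fix k_card4.le (by decide +kernel)

noncomputable def k_3_l : List ℕ := (appL (SL.words k_3_sl0) [])

theorem k_3_scs : SCs 21 k_E4 k_G3 (⟨1, by decide⟩ : Fin 21) k_3_l :=
  (SCs.append k_3_sc0 SCs.nil)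

noncomputable def k_3_rl0_0 : RL := (RL.cons (nat_lit 0) (nat_lit 1) (nat_lit 0) (nat_lit 0) (nat_lit 1) (nat_lit 0) (RL.cons (nat_lit 1) (nat_lit 18) (nat_lit 0) (nat_lit 0) (nat_lit 0) (nat_lit 0) (RL.cons (nat_lit 2) (nat_lit 16) (nat_lit 0) (nat_lit 0) (nat_lit 5) (nat_lit 0) (RL.cons (nat_lit 3) (nat_lit 13) (nat_lit 0) (nat_lit 0) (nat_lit 6) (nat_lit 0) (RL.cons (nat_lit 4) (nat_lit 4) (nat_lit 0) (nat_lit 0) (nat_lit 7) (nat_lit 0) (RL.cons (nat_lit 5) (nat_lit 7) (nat_lit 0) (nat_lit 0) (nat_lit 2) (nat_lit 0) (RL.cons (nat_lit 6) (nat_lit 8) (nat_lit 0) (nat_lit 0) (nat_lit 3) (nat_lit 0) (RL.cons (nat_lit 7) (nat_lit 17) (nat_lit 0) (nat_lit 0) (nat_lit 4) (nat_lit 0) (RL.cons (nat_lit 8) (nat_lit 2) (nat_lit 0) (nat_lit 0) (nat_lit 11) (nat_lit 0) (RL.cons (nat_lit 9) (nat_lit 14) (nat_lit 0) (nat_lit 0) (nat_lit 12)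 (nat_lit 0) (RL.cons (nat_lit 10) (nat_lit 15) (nat_lit 0) (nat_lit 0) (nat_lit 13) (nat_lit 0) (RL.cons (nat_lit 11) (nat_lit 20) (nat_lit 0) (nat_lit 0) (nat_lit 8) (nat_lit 0) (RL.cons (nat_lit 12) (nat_lit 6) (nat_lit 0) (nat_lit 0) (nat_lit 9) (nat_lit 0) (RL.cons (nat_lit 13) (nat_lit 5) (nat_lit 0) (nat_lit 0) (nat_lit 10) (nat_lit 0) (RL.cons (nat_lit 14) (nat_lit 3) (nat_lit 0) (nat_lit 0) (nat_lit 15) (nat_lit 0) (RL.cons (nat_lit 15) (nat_lit 19) (nat_lit 0) (nat_lit 0) (nat_lit 14) (nat_lit 0) RL.nil))))))))))))))))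

theorem k_3_good0_0 : GoodSet 21 k_E4 k_G3 (⟨1, by decide⟩ : Fin 21) k_3_ts (nat_lit 1) (RL.pts k_3_rl0_0) :=
  goodSet_of_ok k_hn (det_lab k_hk ⊤) k_E4_ok k_G3_ok le_top le_top (by decide : 1 < 21) (sepAt_lab k_hk _) (by decide +kernel)

theorem k_3_step0 : Step 21 k_E4 k_G3 k_3_ts (2 * 0 + 1) :=
  step_of_cover k_E4_ok k_3_dist (by decide +kernel) k_3_scs (by decide +kernel) k_3_good0_0 (kw := [])
    (conj_mem_of_scs k_E4_ok k_G3_ok (by decide : 1 < 21) k_3_scs (c := 0) (d := 18) (by decide +kernel)) (by decide +kernel)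

noncomputable def k_3_rl1_0 : RL := (RL.cons (nat_lit 0) (nat_lit 1) (nat_lit 0) (nat_lit 0) (nat_lit 2) (nat_lit 0) (RL.cons (nat_lit 1) (nat_lit 18) (nat_lit 0) (nat_lit 0) (nat_lit 5) (nat_lit 0) (RL.cons (nat_lit 2) (nat_lit 16) (nat_lit 0) (nat_lit 0) (nat_lit 0) (nat_lit 0) (RL.cons (nat_lit 3) (nat_lit 13) (nat_lit 0) (nat_lit 0) (nat_lit 8) (nat_lit 0) (RL.cons (nat_lit 4) (nat_lit 4) (nat_lit 0) (nat_lit 0) (nat_lit 9) (nat_lit 0) (RL.cons (nat_lit 5) (nat_lit 7) (nat_lit 0) (nat_lit 0) (nat_lit 1) (nat_lit 0) (RL.cons (nat_lit 6) (nat_lit 8) (nat_lit 0) (nat_lit 0) (nat_lit 11) (nat_lit 0) (RL.cons (nat_lit 7) (nat_lit 17) (nat_lit 0) (nat_lit 0) (nat_lit 12) (nat_lit 0) (RL.cons (nat_lit 8) (nat_lit 2) (nat_lit 0) (nat_lit 0) (nat_lit 3) (nat_lit 0) (RL.cons (nat_lit 9) (nat_lit 14) (nat_lit 0) (nat_lit 0) (nat_lit 4)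 (nat_lit 0) (RL.cons (nat_lit 10) (nat_lit 15) (nat_lit 0) (nat_lit 0) (nat_lit 14) (nat_lit 0) (RL.cons (nat_lit 11) (nat_lit 20) (nat_lit 0) (nat_lit 0) (nat_lit 6) (nat_lit 0) (RL.cons (nat_lit 12) (nat_lit 6) (nat_lit 0) (nat_lit 0) (nat_lit 7) (nat_lit 0) (RL.cons (nat_lit 13) (nat_lit 5) (nat_lit 0) (nat_lit 0) (nat_lit 15) (nat_lit 0) (RL.cons (nat_lit 14) (nat_lit 3) (nat_lit 0) (nat_lit 0) (nat_lit 10) (nat_lit 0) (RL.cons (nat_lit 15) (nat_lit 19) (nat_lit 0) (nat_lit 0) (nat_lit 13) (nat_lit 0) RL.nil))))))))))))))))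

theorem k_3_good1_0 : GoodSet 21 k_E4 k_G3 (⟨1, by decide⟩ : Fin 21) k_3_ts (nat_lit 3) (RL.pts k_3_rl1_0) :=
  goodSet_of_ok k_hn (det_lab k_hk ⊤) k_E4_ok k_G3_ok le_top le_top (by decide : 1 < 21) (sepAt_lab k_hk _) (by decide +kernel)

theorem k_3_step1 : Step 21 k_E4 k_G3 k_3_ts (2 * 1 + 1) :=
  step_of_cover k_E4_ok k_3_dist (by decide +kernel) k_3_scs (by decide +kernel) k_3_good1_0 (kw := [])
    (conj_mem_of_scs k_E4_ok k_G3_ok (by decide : 1 < 21) k_3_scs (c := 1) (d := 16) (by decide +kernel)) (by decide +kernel)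

noncomputable def k_3_rl2_0 : RL := (RL.cons (nat_lit 0) (nat_lit 1) (nat_lit 0) (nat_lit 0) (nat_lit 3) (nat_lit 0) (RL.cons (nat_lit 1) (nat_lit 18) (nat_lit 0) (nat_lit 0) (nat_lit 6) (nat_lit 0) (RL.cons (nat_lit 2) (nat_lit 16) (nat_lit 0) (nat_lit 0) (nat_lit 8) (nat_lit 0) (RL.cons (nat_lit 3) (nat_lit 13) (nat_lit 0) (nat_lit 0) (nat_lit 0) (nat_lit 0) (RL.cons (nat_lit 4) (nat_lit 4) (nat_lit 0) (nat_lit 0) (nat_lit 10) (nat_lit 0) (RL.cons (nat_lit 5) (nat_lit 7) (nat_lit 0) (nat_lit 0) (nat_lit 11) (nat_lit 0) (RL.cons (nat_lit 6) (nat_lit 8) (nat_lit 0) (nat_lit 0) (nat_lit 1) (nat_lit 0) (RL.cons (nat_lit 7) (nat_lit 17) (nat_lit 0) (nat_lit 0) (nat_lit 13) (nat_lit 0) (RL.cons (nat_lit 8) (nat_lit 2) (nat_lit 0) (nat_lit 0) (nat_lit 2) (nat_lit 0) (RL.cons (nat_lit 9) (nat_lit 14) (nat_lit 0) (nat_lit 0) (nat_lit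 14) (nat_lit 0) (RL.cons (nat_lit 10) (nat_lit 15) (nat_lit 0) (nat_lit 0) (nat_lit 4) (nat_lit 0) (RL.cons (nat_lit 11) (nat_lit 20) (nat_lit 0) (nat_lit 0) (nat_lit 5) (nat_lit 0) (RL.cons (nat_lit 12) (nat_lit 6) (nat_lit 0) (nat_lit 0) (nat_lit 15) (nat_lit 0) (RL.cons (nat_lit 13) (nat_lit 5) (nat_lit 0) (nat_lit 0) (nat_lit 7) (nat_lit 0) (RL.cons (nat_lit 14) (nat_lit 3) (nat_lit 0) (nat_lit 0) (nat_lit 9) (nat_lit 0) (RL.cons (nat_lit 15) (nat_lit 19) (nat_lit 0) (nat_lit 0) (nat_lit 12) (nat_lit 0) RL.nil))))))))))))))))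

theorem k_3_good2_0 : GoodSet 21 k_E4 k_G3 (⟨1, by decide⟩ : Fin 21) k_3_ts (nat_lit 5) (RL.pts k_3_rl2_0) :=
  goodSet_of_ok k_hn (det_lab k_hk ⊤) k_E4_ok k_G3_ok le_top le_top (by decide : 1 < 21) (sepAt_lab k_hk _) (by decide +kernel)

theorem k_3_step2 : Step 21 k_E4 k_G3 k_3_ts (2 * 2 + 1) :=
  step_of_cover k_E4_ok k_3_dist (by decide +kernel) k_3_scs (by decide +kernel) k_3_good2_0 (kw := [])
    (conj_mem_of_scs k_E4_ok k_G3_ok (by decide : 1 < 21) k_3_scs (c := 2) (d := 13) (by decide +kernel)) (by decide +kernel)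

noncomputable def k_3_rl3_0 : RL := (RL.cons (nat_lit 0) (nat_lit 1) (nat_lit 0) (nat_lit 0) (nat_lit 4) (nat_lit 0) (RL.cons (nat_lit 1) (nat_lit 18) (nat_lit 0) (nat_lit 0) (nat_lit 7) (nat_lit 0) (RL.cons (nat_lit 2) (nat_lit 16) (nat_lit 0) (nat_lit 0) (nat_lit 9) (nat_lit 0) (RL.cons (nat_lit 3) (nat_lit 13) (nat_lit 0) (nat_lit 0) (nat_lit 10) (nat_lit 0) (RL.cons (nat_lit 4) (nat_lit 4) (nat_lit 0) (nat_lit 0) (nat_lit 0) (nat_lit 0) (RL.cons (nat_lit 5) (nat_lit 7) (nat_lit 0) (nat_lit 0) (nat_lit 12) (nat_lit 0) (RL.cons (nat_lit 6) (nat_lit 8) (nat_lit 0) (nat_lit 0) (nat_lit 13) (nat_lit 0) (RL.cons (nat_lit 7) (nat_lit 17) (nat_lit 0) (nat_lit 0) (nat_lit 1) (nat_lit 0) (RL.cons (nat_lit 8) (nat_lit 2) (nat_lit 0) (nat_lit 0) (nat_lit 14) (nat_lit 0) (RL.cons (nat_lit 9) (nat_lit 14) (nat_lit 0) (nat_lit 0) (nat_lit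 2) (nat_lit 0) (RL.cons (nat_lit 10) (nat_lit 15) (nat_lit 0) (nat_lit 0) (nat_lit 3) (nat_lit 0) (RL.cons (nat_lit 11) (nat_lit 20) (nat_lit 0) (nat_lit 0) (nat_lit 15) (nat_lit 0) (RL.cons (nat_lit 12) (nat_lit 6) (nat_lit 0) (nat_lit 0) (nat_lit 5) (nat_lit 0) (RL.cons (nat_lit 13) (nat_lit 5) (nat_lit 0) (nat_lit 0) (nat_lit 6) (nat_lit 0) (RL.cons (nat_lit 14) (nat_lit 3) (nat_lit 0) (nat_lit 0) (nat_lit 8) (nat_lit 0) (RL.cons (nat_lit 15) (nat_lit 19) (nat_lit 0) (nat_lit 0) (nat_lit 11) (nat_lit 0) RL.nil))))))))))))))))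

theorem k_3_good3_0 : GoodSet 21 k_E4 k_G3 (⟨1, by decide⟩ : Fin 21) k_3_ts (nat_lit 7) (RL.pts k_3_rl3_0) :=
  goodSet_of_ok k_hn (det_lab k_hk ⊤) k_E4_ok k_G3_ok le_top le_top (by decide : 1 < 21) (sepAt_lab k_hk _) (by decide +kernel)

theorem k_3_step3 : Step 21 k_E4 k_G3 k_3_ts (2 * 3 + 1) :=
  step_of_cover k_E4_ok k_3_dist (by decide +kernel) k_3_scs (by decide +kernel) k_3_good3_0 (kw := [])
    (conj_mem_of_scs k_E4_ok k_G3_ok (by decide : 1 < 21) k_3_scs (c := 3) (d := 4) (by decide +kernel)) (by decide +kernel)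

theorem k_3_lev : grp 21 k_G3 ⊓ MulAction.stabilizer (Equiv.Perm (Fin 21)) (⟨1, by decide⟩ : Fin 21) = grp 21 k_E4 :=
  sims_level (gs := k_V32) rfl (by decide) k_3_fix k_3_dist (forall_lt_succ' (forall_lt_succ' (forall_lt_succ' (forall_lt_one k_3_step0) k_3_step1) k_3_step2) k_3_step3)

theorem k_3_cardG : Nat.card (grp 21 k_G3) = 16 :=
  card_of_level k_hn k_G3_ok (by decide : 1 < 21) k_3_lev k_card4 (m := 16) (by decide +kernel)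

theorem k_le34 : grp 21 k_E3 ≤ grp 21 k_G3 :=
  grp_le_of_memB k_hn k_hk k_G3_ok k_E3_ok (ws := [nat_lit 1, nat_lit 3, nat_lit 5, nat_lit 7, nat_lit 263, nat_lit 261]) (by decide +kernel)

theorem k_le35 : grp 21 k_G3 ≤ grp 21 k_E3 :=
  grp_le_of_memB k_hn k_hk k_E3_ok k_G3_ok (ws := [nat_lit 1, nat_lit 3, nat_lit 5, nat_lit 7]) (by decide +kernel)

theorem k_3_eq : grp 21 k_E3 = grp 21 k_G3 :=
  le_antisymm k_le34 k_le35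

theorem k_card3 : Nat.card (grp 21 k_E3) = 16 :=
  by rw [k_3_eq]; exact k_3_cardG

theorem k_stab3 : grp 21 k_E3 ⊓ MulAction.stabilizer (Equiv.Perm (Fin 21)) (⟨1, by decide⟩ : Fin 21) = grp 21 k_E4 :=
  by rw [k_3_eq]; exact k_3_lev

theorem k_leO3 : grp 21 k_E3 ≤ grp 21 k_O :=
  k_3_eq.le.trans (grp_cons_le ((k_le29.trans (k_le22.trans (k_le14.trans (le_refl (grp 21 k_O))))) (k_le33 (toPerm_mem_grp (E := k_V32) (by simp [k_V32])))) (grp_cons_le ((k_le29.trans (k_le22.trans (k_le14.trans (le_refl (grp 21 k_O))))) (k_le33 (toPerm_mem_grp (E := k_V32) (by simp [k_V32])))) (grp_cons_le ((k_le29.trans (k_le22.trans (k_le14.trans (le_refl (grp 21 k_O))))) (k_le33 (toPerm_mem_grp (E := k_V32) (by simp [k_V32])))) (grp_cons_le ((k_le29.trans (k_le22.trans (k_le14.trans (le_refl (grp 21 k_O))))) (k_le33 (toPerm_mem_grp (E := k_V32) (by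 simp [k_V32])))) k_leO4))))

theorem k_2_fix : grp 21 k_E3 ≤ MulAction.stabilizer (Equiv.Perm (Fin 21)) (⟨9, by decide⟩ : Fin 21) :=
  grp_le_stab k_E3_ok (by decide : 9 < 21) (by decide +kernel)

noncomputable def k_2_ts : List ℕ := [nat_lit 0, nat_lit 1, nat_lit 2]

noncomputable def k_2_ds : List ℕ := [nat_lit 9, nat_lit 12, nat_lit 10]

theorem k_2_dist : Dist 21 k_E3 k_G2 (⟨9, by decide⟩ : Fin 21) k_2_ts k_2_ds :=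
  dist_of_distB (k := 2) k_hn k_E3_ok k_G2_ok (by decide : 9 < 21) (by decide +kernel)

noncomputable def k_2_sl0 : SL := (SL.cons (nat_lit 1) (nat_lit 12) (Ch.cons (nat_lit 1) [nat_lit 259, nat_lit 1287, nat_lit 5, nat_lit 3] Ch.nil) [nat_lit 1287, nat_lit 197897, nat_lit 1, nat_lit 9] (SL.cons (nat_lit 2) (nat_lit 10) (Ch.cons (nat_lit 1) [nat_lit 1, nat_lit 5, nat_lit 1289, nat_lit 3] Ch.nil) [nat_lit 5, nat_lit 11, nat_lit 779, nat_lit 777] SL.nil))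

theorem k_2_sc0 : SCs 21 k_E3 k_G2 (⟨9, by decide⟩ : Fin 21) (SL.words k_2_sl0) :=
  scs_of_ok k_hn (det_lab k_hk ⊤) k_E3_ok k_G2_ok le_top le_top (by decide : 9 < 21) k_2_fix k_card3.le (by decide +kernel)

noncomputable def k_2_l : List ℕ := (appL (SL.words k_2_sl0) [])

theorem k_2_scs : SCs 21 k_E3 k_G2 (⟨9, by decide⟩ : Fin 21) k_2_l :=
  (SCs.append k_2_sc0 SCs.nil)

noncomputable def k_2_rl0_0 : RL := (RL.cons (nat_lit 0) (nat_lit 9) (nat_lit 0) (nat_lit 0) (nat_lit 2) (nat_lit 0) (RL.cons (nat_lit 1) (nat_lit 12) (nat_lit 0) (nat_lit 0) (nat_lit 0) (nat_lit 0) (RL.cons (nat_lit 2) (nat_lit 10) (nat_lit 0) (nat_lit 0) (nat_lit 1) (nat_lit 0) RL.nil)))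

theorem k_2_good0_0 : GoodSet 21 k_E3 k_G2 (⟨9, by decide⟩ : Fin 21) k_2_ts (nat_lit 1) (RL.pts k_2_rl0_0) :=
  goodSet_of_ok k_hn (det_lab k_hk ⊤) k_E3_ok k_G2_ok le_top le_top (by decide : 9 < 21) (sepAt_lab k_hk _) (by decide +kernel)

theorem k_2_step0 : Step 21 k_E3 k_G2 k_2_ts (2 * 0 + 1) :=
  step_of_cover k_E3_ok k_2_dist (by decide +kernel) k_2_scs (by decide +kernel) k_2_good0_0 (kw := [nat_lit 259, nat_lit 1287, nat_lit 5, nat_lit 3])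
    (conj_mem_of_scs k_E3_ok k_G2_ok (by decide : 9 < 21) k_2_scs (c := 0) (d := 12) (by decide +kernel)) (by decide +kernel)

theorem k_2_lev : grp 21 k_G2 ⊓ MulAction.stabilizer (Equiv.Perm (Fin 21)) (⟨9, by decide⟩ : Fin 21) = grp 21 k_E3 :=
  sims_level (gs := k_V23) rfl (by decide) k_2_fix k_2_dist (forall_lt_one k_2_step0)

theorem k_2_cardG : Nat.card (grp 21 k_G2) = 48 :=
  card_of_level k_hn k_G2_ok (by decide : 9 < 21) k_2_lev k_card3 (m := 3) (by decide +kernel)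

theorem k_le36 : grp 21 k_E2 ≤ grp 21 k_G2 :=
  grp_le_of_memB k_hn k_hk k_G2_ok k_E2_ok (ws := [nat_lit 1, nat_lit 2305, nat_lit 3, nat_lit 5, nat_lit 7, nat_lit 9, nat_lit 11, nat_lit 13]) (by decide +kernel)

theorem k_le37 : grp 21 k_G2 ≤ grp 21 k_E2 :=
  grp_le_of_memB k_hn k_hk k_E2_ok k_G2_ok (ws := [nat_lit 1, nat_lit 5, nat_lit 7, nat_lit 9, nat_lit 11, nat_lit 13, nat_lit 15]) (by decide +kernel)

theorem k_2_eq : grp 21 k_E2 = grp 21 k_G2 :=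
  le_antisymm k_le36 k_le37

theorem k_card2 : Nat.card (grp 21 k_E2) = 48 :=
  by rw [k_2_eq]; exact k_2_cardG

theorem k_stab2 : grp 21 k_E2 ⊓ MulAction.stabilizer (Equiv.Perm (Fin 21)) (⟨9, by decide⟩ : Fin 21) = grp 21 k_E3 :=
  by rw [k_2_eq]; exact k_2_lev

theorem k_leO2 : grp 21 k_E2 ≤ grp 21 k_O :=
  k_2_eq.le.trans (grp_cons_le ((k_le22.trans (k_le14.trans (le_refl (grp 21 k_O)))) (k_le24 (toPerm_mem_grp (E := k_V23) (by simp [k_V23])))) k_leO3)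

theorem k_1_fix : grp 21 k_E2 ≤ MulAction.stabilizer (Equiv.Perm (Fin 21)) (⟨11, by decide⟩ : Fin 21) :=
  grp_le_stab k_E2_ok (by decide : 11 < 21) (by decide +kernel)

noncomputable def k_1_ts : List ℕ := [nat_lit 0, nat_lit 1, nat_lit 257]

noncomputable def k_1_ds : List ℕ := [nat_lit 11, nat_lit 6, nat_lit 9]

theorem k_1_dist : Dist 21 k_E2 k_G1 (⟨11, by decide⟩ : Fin 21) k_1_ts k_1_ds :=
  dist_of_distB (k := 2) k_hn k_E2_ok k_G1_ok (by decide : 11 < 21) (by decide +kernel)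

noncomputable def k_1_sl0 : SL := (SL.cons (nat_lit 1) (nat_lit 6) (Ch.cons (nat_lit 1) [nat_lit 461057] Ch.nil) [nat_lit 461058] (SL.cons (nat_lit 257) (nat_lit 9) (Ch.cons (nat_lit 1) [nat_lit 5, nat_lit 7, nat_lit 9, nat_lit 11, nat_lit 13, nat_lit 15] Ch.nil) [nat_lit 1807, nat_lit 1803, nat_lit 2315, nat_lit 11, nat_lit 461069, nat_lit 1805] SL.nil))

theorem k_1_sc0 : SCs 21 k_E2 k_G1 (⟨11, by decide⟩ : Fin 21) (SL.words k_1_sl0) :=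
  scs_of_ok k_hn (det_lab k_hk ⊤) k_E2_ok k_G1_ok le_top le_top (by decide : 11 < 21) k_1_fix k_card2.le (by decide +kernel)

noncomputable def k_1_l : List ℕ := (appL (SL.words k_1_sl0) [])

theorem k_1_scs : SCs 21 k_E2 k_G1 (⟨11, by decide⟩ : Fin 21) k_1_l :=
  (SCs.append k_1_sc0 SCs.nil)

noncomputable def k_1_rl0_0 : RL := (RL.cons (nat_lit 0) (nat_lit 11) (nat_lit 0) (nat_lit 2) (nat_lit 1) (nat_lit 2) (RL.cons (nat_lit 1) (nat_lit 6) (nat_lit 0) (nat_lit 0) (nat_lit 0) (nat_lit 0) (RL.cons (nat_lit 1) (nat_lit 8) (nat_lit 1) (nat_lit 2) (nat_lit 2) (nat_lit 0) (RL.cons (nat_lit 1) (nat_lit 14) (nat_lit 5) (nat_lit 269) (nat_lit 1) (nat_lit 3329) (RL.cons (nat_lit 1) (nat_lit 17) (nat_lit 7) (nat_lit 783) (nat_lit 1) (nat_lit 1805) (RL.cons (nat_lit 1) (nat_lit 13) (nat_lit 261) (nat_lit 13) (nat_lit 1) (nat_lit 461570) (RL.cons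 (nat_lit 1) (nat_lit 18) (nat_lit 265) (nat_lit 271) (nat_lit 1) (nat_lit 1282) (RL.cons (nat_lit 2) (nat_lit 9) (nat_lit 0) (nat_lit 0) (nat_lit 1) (nat_lit 0) RL.nil))))))))

theorem k_1_good0_0 : GoodSet 21 k_E2 k_G1 (⟨11, by decide⟩ : Fin 21) k_1_ts (nat_lit 1) (RL.pts k_1_rl0_0) :=
  goodSet_of_ok k_hn (det_lab k_hk ⊤) k_E2_ok k_G1_ok le_top le_top (by decide : 11 < 21) (sepAt_lab k_hk _) (by decide +kernel)

theorem k_1_step0 : Step 21 k_E2 k_G1 k_1_ts (2 * 0 + 1) :=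
  step_of_cover k_E2_ok k_1_dist (by decide +kernel) k_1_scs (by decide +kernel) k_1_good0_0 (kw := [nat_lit 461057])
    (conj_mem_of_scs k_E2_ok k_G1_ok (by decide : 11 < 21) k_1_scs (c := 0) (d := 6) (by decide +kernel)) (by decide +kernel)

theorem k_1_lev : grp 21 k_G1 ⊓ MulAction.stabilizer (Equiv.Perm (Fin 21)) (⟨11, by decide⟩ : Fin 21) = grp 21 k_E2 :=
  sims_level (gs := k_V16) rfl (by decide) k_1_fix k_1_dist (forall_lt_one k_1_step0)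

theorem k_1_cardG : Nat.card (grp 21 k_G1) = 960 :=
  card_of_level k_hn k_G1_ok (by decide : 11 < 21) k_1_lev k_card2 (m := 20) (by decide +kernel)

theorem k_le38 : grp 21 k_E1 ≤ grp 21 k_G1 :=
  grp_le_of_memB k_hn k_hk k_G1_ok k_E1_ok (ws := [nat_lit 1, nat_lit 0x90b0f03, nat_lit 0xb0f03010b, nat_lit 3, nat_lit 5, nat_lit 7, nat_lit 9, nat_lit 11, nat_lit 13, nat_lit 15, nat_lit 17]) (by decide +kernel)

theorem k_le39 : grp 21 k_G1 ≤ grp 21 k_E1 :=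
  grp_le_of_memB k_hn k_hk k_E1_ok k_G1_ok (ws := [nat_lit 1, nat_lit 7, nat_lit 9, nat_lit 11, nat_lit 13, nat_lit 15, nat_lit 17, nat_lit 19, nat_lit 21]) (by decide +kernel)

theorem k_1_eq : grp 21 k_E1 = grp 21 k_G1 :=
  le_antisymm k_le38 k_le39

theorem k_card1 : Nat.card (grp 21 k_E1) = 960 :=
  by rw [k_1_eq]; exact k_1_cardG

theorem k_stab1 : grp 21 k_E1 ⊓ MulAction.stabilizer (Equiv.Perm (Fin 21)) (⟨11, by decide⟩ : Fin 21) = grp 21 k_E2 :=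
  by rw [k_1_eq]; exact k_1_lev

theorem k_leO1 : grp 21 k_E1 ≤ grp 21 k_O :=
  k_1_eq.le.trans (grp_cons_le ((k_le14.trans (le_refl (grp 21 k_O))) (k_le17 (toPerm_mem_grp (E := k_V16) (by simp [k_V16])))) k_leO2)

theorem k_0_fix : grp 21 k_E1 ≤ MulAction.stabilizer (Equiv.Perm (Fin 21)) (⟨0, by decide⟩ : Fin 21) :=
  grp_le_stab k_E1_ok (by decide : 0 < 21) (by decide +kernel)

noncomputable def k_0_ts : List ℕ := [nat_lit 0, nat_lit 1]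

noncomputable def k_0_ds : List ℕ := [nat_lit 0, nat_lit 11]

theorem k_0_dist : Dist 21 k_E1 k_G0 (⟨0, by decide⟩ : Fin 21) k_0_ts k_0_ds :=
  dist_of_distB (k := 1) k_hn k_E1_ok k_G0_ok (by decide : 0 < 21) (by decide +kernel)

noncomputable def k_0_sl0 : SL := (SL.cons (nat_lit 1) (nat_lit 11) (Ch.cons (nat_lit 9) [nat_lit 7, nat_lit 9] (Ch.cons (nat_lit 1) [nat_lit 11, nat_lit 13, nat_lit 15, nat_lit 17, nat_lit 19, nat_lit 21] Ch.nil)) [nat_lit 0xd1507010103, nat_lit 0xb0d07010103, nat_lit 3347, nat_lit 21, nat_lit 3857, nat_lit 15, nat_lit 855827, nat_lit 3349] SL.nil)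

theorem k_0_sc0 : SCs 21 k_E1 k_G0 (⟨0, by decide⟩ : Fin 21) (SL.words k_0_sl0) :=
  scs_of_ok k_hn (det_lab k_hk ⊤) k_E1_ok k_G0_ok le_top le_top (by decide : 0 < 21) k_0_fix k_card1.le (by decide +kernel)

noncomputable def k_0_l : List ℕ := (appL (SL.words k_0_sl0) [])

theorem k_0_scs : SCs 21 k_E1 k_G0 (⟨0, by decide⟩ : Fin 21) k_0_l :=
  (SCs.append k_0_sc0 SCs.nil)

noncomputable def k_0_rl0_0 : RL := (RL.cons (nat_lit 0) (nat_lit 0) (nat_lit 0) (nat_lit 257) (nat_lit 1) (nat_lit 983297) (RL.cons (nat_lit 1) (nat_lit 11) (nat_lit 0) (nat_lit 0) (nat_lit 0) (nat_lit 0) (RL.cons (nat_lit 1) (nat_lit 6) (nat_lit 1) (nat_lit 267) (nat_lit 1) (nat_lit 0xf130106) (RL.cons (nat_lit 1) (nat_lit 9) (nat_lit 257) (nat_lit 0) (nat_lit 1) (nat_lit 0xf110101) RL.nil))))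

theorem k_0_good0_0 : GoodSet 21 k_E1 k_G0 (⟨0, by decide⟩ : Fin 21) k_0_ts (nat_lit 1) (RL.pts k_0_rl0_0) :=
  goodSet_of_ok k_hn (det_lab k_hk ⊤) k_E1_ok k_G0_ok le_top le_top (by decide : 0 < 21) (sepAt_lab k_hk _) (by decide +kernel)

theorem k_0_step0 : Step 21 k_E1 k_G0 k_0_ts (2 * 0 + 1) :=
  step_of_cover k_E1_ok k_0_dist (by decide +kernel) k_0_scs (by decide +kernel) k_0_good0_0 (kw := [nat_lit 7, nat_lit 9, nat_lit 11, nat_lit 13, nat_lit 15, nat_lit 17, nat_lit 19, nat_lit 21])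
    (conj_mem_of_scs k_E1_ok k_G0_ok (by decide : 0 < 21) k_0_scs (c := 0) (d := 11) (by decide +kernel)) (by decide +kernel)

theorem k_0_lev : grp 21 k_G0 ⊓ MulAction.stabilizer (Equiv.Perm (Fin 21)) (⟨0, by decide⟩ : Fin 21) = grp 21 k_E1 :=
  sims_level (gs := k_V9) rfl (by decide) k_0_fix k_0_dist (forall_lt_one k_0_step0)

theorem k_0_cardG : Nat.card (grp 21 k_G0) = 20160 :=
  card_of_level k_hn k_G0_ok (by decide : 0 < 21) k_0_lev k_card1 (m := 21) (by decide +kernel)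

theorem k_le40 : grp 21 k_E0 ≤ grp 21 k_G0 :=
  grp_le_of_memB k_hn k_hk k_G0_ok k_E0_ok (ws := [nat_lit 1, nat_lit 0xf150a030208, nat_lit 988936, nat_lit 0x150a0804, nat_lit 0xd09030306, nat_lit 0xf130a030305, nat_lit 0x130309, nat_lit 0xf111509030d, nat_lit 3, nat_lit 5, nat_lit 7, nat_lit 9, nat_lit 11, nat_lit 13, nat_lit 15, nat_lit 17, nat_lit 19, nat_lit 21, nat_lit 23]) (by decide +kernel)

theorem k_le41 : grp 21 k_G0 ≤ grp 21 k_E0 :=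
  grp_le_of_memB k_hn k_hk k_E0_ok k_G0_ok (ws := [nat_lit 1, nat_lit 17, nat_lit 19, nat_lit 21, nat_lit 23, nat_lit 25, nat_lit 27, nat_lit 29, nat_lit 31, nat_lit 33, nat_lit 35, nat_lit 37]) (by decide +kernel)

theorem k_0_eq : grp 21 k_E0 = grp 21 k_G0 :=
  le_antisymm k_le40 k_le41

theorem k_card0 : Nat.card (grp 21 k_E0) = 20160 :=
  by rw [k_0_eq]; exact k_0_cardG

theorem k_stab0 : grp 21 k_E0 ⊓ MulAction.stabilizer (Equiv.Perm (Fin 21)) (⟨0, by decide⟩ : Fin 21) = grp 21 k_E1 :=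
  by rw [k_0_eq]; exact k_0_lev

theorem k_leO0 : grp 21 k_E0 ≤ grp 21 k_O :=
  k_0_eq.le.trans (grp_cons_le ((le_refl (grp 21 k_O)) (k_le10 (toPerm_mem_grp (E := k_V9) (by simp [k_V9])))) k_leO1)

theorem k_le42 : grp 21 k_O ≤ grp 21 k_E0 :=
  grp_le_of_memB k_hn k_hk k_E0_ok k_O_ok (ws := [nat_lit 3, nat_lit 5, nat_lit 7, nat_lit 9, nat_lit 11, nat_lit 13, nat_lit 15]) (by decide +kernel)

theorem k_eq : grp 21 k_O = grp 21 k_E0 :=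
  le_antisymm k_le42 k_leO0

theorem k_card : Nat.card (grp 21 k_O) = 20160 :=
  by rw [k_eq]; exact k_card0

noncomputable def k_ch : Ch := (Ch.cons (nat_lit 0) [nat_lit 1, nat_lit 3, nat_lit 5, nat_lit 7, nat_lit 9, nat_lit 11, nat_lit 13, nat_lit 15] (Ch.cons (nat_lit 11) [nat_lit 17, nat_lit 19, nat_lit 21] (Ch.cons (nat_lit 9) [nat_lit 23, nat_lit 25] (Ch.cons (nat_lit 1) [nat_lit 27, nat_lit 29, nat_lit 31, nat_lit 33, nat_lit 35, nat_lit 37] Ch.nil))))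

theorem k_exact : Ch.Exact 21 k_E0 k_ch (grp 21 k_E0) :=
  Ch.exact (k := 5) (L := (lab 21 5)) k_hn k_E0_ok (by decide +kernel) (wgrp_le_grp _ _ _) k_card0.le

theorem k_T43_s0 : Stab 21 (grp 21 k_E0) [] k_E0 20160 :=
  Stab.root k_E0_ok k_card0

theorem k_le50 : grp 21 kt_c1_K ≤ grp 21 k_E0 :=
  grp_le_of_memB k_hn k_hk k_E0_ok kt_c1_K_ok (ws := [nat_lit 0x1d16120108, nat_lit 0x1d1f2115020f, nat_lit 0x25111101, nat_lit 0x21160115, nat_lit 0x1d2118120107, nat_lit 0x1d23170109]) (by decide +kernel)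

theorem kt_c1_le : grp 21 kt_c1_K ≤ (grp 21 k_E0) :=
  (k_le50.trans k_T43_s0.le)

theorem kt_c1_mem : Net.toPerm 21 k_g44 ∈ (grp 21 k_E0) :=
  kt_c1_le (toPerm_mem_grp (E := kt_c1_K) (List.Mem.tail _ (List.Mem.tail _ (List.Mem.head _))))

theorem kt_c1_sym : Sym 21 (grp 21 k_E0) [k_g44] kt_c1_K 0 :=
  Sym.of_lab k_hn k_hk (okE_cons.2 ⟨k_g44_ok, okE_nil _⟩) kt_c1_K_ok kt_c1_le (kT := 0) (by decide +kernel)

theorem k_T43_s1 : Stab 21 (grp 21 k_E0) [nat_lit 0] k_V51 960 :=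
  Stab.step (k := 5) (L := (lab 21 5)) k_hn k_T43_s0 k_V51_ok (grp_mono (List.subset_append_right [k_g8, k_g1, k_g2, k_g3, k_g4, k_g5, k_g6, k_g7] _)) (c := (Ch.cons (nat_lit 11) [nat_lit 1, nat_lit 3, nat_lit 5] (Ch.cons (nat_lit 9) [nat_lit 7, nat_lit 9] (Ch.cons (nat_lit 1) [nat_lit 11, nat_lit 13, nat_lit 15, nat_lit 17, nat_lit 19, nat_lit 21] Ch.nil)))) (by decide +kernel)

theorem k_T43_s2 : Stab 21 (grp 21 k_E0) [nat_lit 11, nat_lit 0] k_V52 48 :=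
  Stab.step (k := 5) (L := (lab 21 5)) k_hn k_T43_s1 k_V52_ok (grp_mono (List.subset_append_right [k_g15, k_g11, k_g12] _)) (c := (Ch.cons (nat_lit 9) [nat_lit 1, nat_lit 3] (Ch.cons (nat_lit 1) [nat_lit 5, nat_lit 7, nat_lit 9, nat_lit 11, nat_lit 13, nat_lit 15] Ch.nil))) (by decide +kernel)

theorem k_T43_s3 : Stab 21 (grp 21 k_E0) [nat_lit 9, nat_lit 11, nat_lit 0] k_V53 16 :=
  Stab.step (k := 5) (L := (lab 21 5)) k_hn k_T43_s2 k_V53_ok (grp_mono (List.subset_append_right [k_g18, k_g19] _)) (c := (Ch.cons (nat_lit 1) [nat_lit 1, nat_lit 3, nat_lit 5, nat_lit 7, nat_lit 9, nat_lit 11] Ch.nil)) (by decide +kernel)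

theorem k_T43_s4 : Stab 21 (grp 21 k_E0) [nat_lit 1, nat_lit 9, nat_lit 11, nat_lit 0] k_V54 1 :=
  Stab.step (k := 5) (L := (lab 21 5)) k_hn k_T43_s3 k_V54_ok (grp_mono (List.subset_append_right [k_g30, k_g25, k_g27, k_g31, k_g20, k_g26] _)) (c := Ch.nil) (by decide +kernel)

theorem k_g15_k_T43 : Net.toPerm 21 k_g15 ∈ (grp 21 k_E0) :=
  k_T43_s1.le (toPerm_mem_grp (E := k_V51) (List.Mem.head _))

theorem k_g11_k_T43 : Net.toPerm 21 k_g11 ∈ (grp 21 k_E0) :=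
  k_T43_s1.le (toPerm_mem_grp (E := k_V51) (List.Mem.tail _ (List.Mem.head _)))

theorem k_g12_k_T43 : Net.toPerm 21 k_g12 ∈ (grp 21 k_E0) :=
  k_T43_s1.le (toPerm_mem_grp (E := k_V51) (List.Mem.tail _ (List.Mem.tail _ (List.Mem.head _))))

theorem k_g18_k_T43 : Net.toPerm 21 k_g18 ∈ (grp 21 k_E0) :=
  k_T43_s1.le (toPerm_mem_grp (E := k_V51) (List.Mem.tail _ (List.Mem.tail _ (List.Mem.tail _ (List.Mem.head _)))))

theorem k_g19_k_T43 : Net.toPerm 21 k_g19 ∈ (grp 21 k_E0) :=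
  k_T43_s1.le (toPerm_mem_grp (E := k_V51) (List.Mem.tail _ (List.Mem.tail _ (List.Mem.tail _ (List.Mem.tail _ (List.Mem.head _))))))

theorem k_g30_k_T43 : Net.toPerm 21 k_g30 ∈ (grp 21 k_E0) :=
  k_T43_s1.le (toPerm_mem_grp (E := k_V51) (List.Mem.tail _ (List.Mem.tail _ (List.Mem.tail _ (List.Mem.tail _ (List.Mem.tail _ (List.Mem.head _)))))))

theorem k_g25_k_T43 : Net.toPerm 21 k_g25 ∈ (grp 21 k_E0) :=
  k_T43_s1.le (toPerm_mem_grp (E := k_V51) (List.Mem.tail _ (List.Mem.tail _ (List.Mem.tail _ (List.Mem.tail _ (List.Mem.tail _ (List.Mem.tail _ (List.Mem.head _))))))))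

theorem k_g27_k_T43 : Net.toPerm 21 k_g27 ∈ (grp 21 k_E0) :=
  k_T43_s1.le (toPerm_mem_grp (E := k_V51) (List.Mem.tail _ (List.Mem.tail _ (List.Mem.tail _ (List.Mem.tail _ (List.Mem.tail _ (List.Mem.tail _ (List.Mem.tail _ (List.Mem.head _)))))))))

theorem k_g31_k_T43 : Net.toPerm 21 k_g31 ∈ (grp 21 k_E0) :=
  k_T43_s1.le (toPerm_mem_grp (E := k_V51) (List.Mem.tail _ (List.Mem.tail _ (List.Mem.tail _ (List.Mem.tail _ (List.Mem.tail _ (List.Mem.tail _ (List.Mem.tail _ (List.Mem.tail _ (List.Mem.head _))))))))))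

theorem k_g20_k_T43 : Net.toPerm 21 k_g20 ∈ (grp 21 k_E0) :=
  k_T43_s1.le (toPerm_mem_grp (E := k_V51) (List.Mem.tail _ (List.Mem.tail _ (List.Mem.tail _ (List.Mem.tail _ (List.Mem.tail _ (List.Mem.tail _ (List.Mem.tail _ (List.Mem.tail _ (List.Mem.tail _ (List.Mem.head _)))))))))))

theorem k_g26_k_T43 : Net.toPerm 21 k_g26 ∈ (grp 21 k_E0) :=
  k_T43_s1.le (toPerm_mem_grp (E := k_V51) (List.Mem.tail _ (List.Mem.tail _ (List.Mem.tail _ (List.Mem.tail _ (List.Mem.tail _ (List.Mem.tail _ (List.Mem.tail _ (List.Mem.tail _ (List.Mem.tail _ (List.Mem.tail _ (List.Mem.head _))))))))))))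

theorem k_g8_k_T43 : Net.toPerm 21 k_g8 ∈ (grp 21 k_E0) :=
  k_T43_s0.le (toPerm_mem_grp (E := k_E0) (List.Mem.head _))

theorem k_g1_k_T43 : Net.toPerm 21 k_g1 ∈ (grp 21 k_E0) :=
  k_T43_s0.le (toPerm_mem_grp (E := k_E0) (List.Mem.tail _ (List.Mem.head _)))

theorem k_g2_k_T43 : Net.toPerm 21 k_g2 ∈ (grp 21 k_E0) :=
  k_T43_s0.le (toPerm_mem_grp (E := k_E0) (List.Mem.tail _ (List.Mem.tail _ (List.Mem.head _))))

theorem k_g3_k_T43 : Net.toPerm 21 k_g3 ∈ (grp 21 k_E0) :=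
  k_T43_s0.le (toPerm_mem_grp (E := k_E0) (List.Mem.tail _ (List.Mem.tail _ (List.Mem.tail _ (List.Mem.head _)))))

theorem k_g4_k_T43 : Net.toPerm 21 k_g4 ∈ (grp 21 k_E0) :=
  k_T43_s0.le (toPerm_mem_grp (E := k_E0) (List.Mem.tail _ (List.Mem.tail _ (List.Mem.tail _ (List.Mem.tail _ (List.Mem.head _))))))

theorem k_g5_k_T43 : Net.toPerm 21 k_g5 ∈ (grp 21 k_E0) :=
  k_T43_s0.le (toPerm_mem_grp (E := k_E0) (List.Mem.tail _ (List.Mem.tail _ (List.Mem.tail _ (List.Mem.tail _ (List.Mem.tail _ (List.Mem.head _)))))))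

theorem k_g6_k_T43 : Net.toPerm 21 k_g6 ∈ (grp 21 k_E0) :=
  k_T43_s0.le (toPerm_mem_grp (E := k_E0) (List.Mem.tail _ (List.Mem.tail _ (List.Mem.tail _ (List.Mem.tail _ (List.Mem.tail _ (List.Mem.tail _ (List.Mem.head _))))))))

theorem k_g7_k_T43 : Net.toPerm 21 k_g7 ∈ (grp 21 k_E0) :=
  k_T43_s0.le (toPerm_mem_grp (E := k_E0) (List.Mem.tail _ (List.Mem.tail _ (List.Mem.tail _ (List.Mem.tail _ (List.Mem.tail _ (List.Mem.tail _ (List.Mem.tail _ (List.Mem.head _)))))))))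

noncomputable def k_T43_s4_O : ℕ := (nat_lit 0x1f000007f8043c3c199998aaaaa000008020000040000002)

theorem k_T43_s4_F : Frame 21 (grp 21 k_E0) 4 9 k_T43_s4_O 1 1 :=
  IsBase.frame k_T43_s4.isBase (by decide +kernel)

noncomputable def k_T43_s2_O : ℕ := (nat_lit 0x58000000200800)

theorem k_T43_s2_F : Frame 21 (grp 21 k_E0) 2 3 k_T43_s2_O 0 1 :=
  Stab.frame k_hn k_T43_s2 (by decide +kernel)

noncomputable def kt_c1_cnt_L : List ℕ := [2, 3, k_T43_s2_O, 0, 0, 4, 9, k_T43_s4_O, 1, 0]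

theorem kt_c1_cnt_P : Prob 21 5 (grp 21 k_E0) kt_c1_cnt_EG [k_g44] [k_g44] kt_c1_K kt_c1_cnt_L 0 0 :=
  Sym.prob k_hn k_hk kt_c1_sym kt_c1_cnt_EG_ok (grp_cons_le k_g15_k_T43 (grp_cons_le k_g11_k_T43 (grp_cons_le k_g12_k_T43 (grp_cons_le k_g18_k_T43 (grp_cons_le k_g19_k_T43 (grp_cons_le k_g30_k_T43 (grp_cons_le k_g25_k_T43 (grp_cons_le k_g27_k_T43 (grp_cons_le k_g31_k_T43 (grp_cons_le k_g20_k_T43 (grp_cons_le k_g26_k_T43 (grp_cons_le k_g8_k_T43 (grp_cons_le k_g1_k_T43 (grp_cons_le k_g2_k_T43 (grp_cons_le k_g3_k_T43 (grp_cons_le k_g4_k_T43 (grp_cons_le k_g5_k_T43 (grp_cons_le k_g6_k_T43 (grp_cons_le k_g7_k_T43 (grp_nil_le _)))))))))))))))))))) (Frames.cons k_T43_s2_F (Frames.cons k_T43_s4_F Frames.nil)) (okE_cons.2 ⟨k_g44_ok, okE_nil _⟩) _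

noncomputable def kt_c1_cnt_t : BT := (BT.fix (nat_lit 1) (BT.br (nat_lit 0) (nat_lit 3) [nat_lit 1, nat_lit 3] (BT.dead (nat_lit 9) (BT.dif (nat_lit 1) (nat_lit 0) (BT.br (nat_lit 0) (nat_lit 7) [nat_lit 1, nat_lit 3] (BT.dead (nat_lit 3) (BT.frm (nat_lit 0) (nat_lit 0x106171901) (nat_lit 67864) [nat_lit 0, nat_lit 2] (BT.pln (nat_lit 0) (nat_lit 2) (BT.and (nat_lit 5) (nat_lit 0) (BT.br (nat_lit 0) (nat_lit 9) [] (BT.dead (nat_lit 14) (BT.dif (nat_lit 10) (nat_lit 7) (BT.br (nat_lit 0) (nat_lit 0) [nat_lit 5, nat_lit 7, nat_lit 9, nat_lit 11] (BT.dead (nat_lit 0) (BT.frm (nat_lit 1) (nat_lit 0xd130106171901) (nat_lit 0xd1308010918) [nat_lit 0, nat_lit 2, nat_lit 6, nat_lit 8] (BT.pln (nat_lit 0) (nat_lit 4) (BT.img (nat_lit 1) (nat_lit 2) (BT.and (nat_lit 1) (nat_lit 0) (BT.cnt (nat_lit 0)))))) BT.nil))) (BT.dead (nat_lit 20)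 (BT.dif (nat_lit 10) (nat_lit 7) (BT.br (nat_lit 0) (nat_lit 0) [nat_lit 5, nat_lit 7, nat_lit 9, nat_lit 11] (BT.dead (nat_lit 0) (BT.frm (nat_lit 1) (nat_lit 0xd130106171901) (nat_lit 0x1507010918) [nat_lit 0, nat_lit 2, nat_lit 6, nat_lit 8] (BT.pln (nat_lit 0) (nat_lit 4) (BT.img (nat_lit 1) (nat_lit 2) (BT.and (nat_lit 1) (nat_lit 0) (BT.cnt (nat_lit 0)))))) BT.nil))) (BT.dead (nat_lit 7) (BT.dif (nat_lit 10) (nat_lit 7) (BT.br (nat_lit 0) (nat_lit 0) [nat_lit 5, nat_lit 7, nat_lit 9, nat_lit 11] (BT.dead (nat_lit 0) (BT.frm (nat_lit 1) (nat_lit 0xd130106171901) (nat_lit 0xf13010918) [nat_lit 0, nat_lit 2, nat_lit 6, nat_lit 8] (BT.pln (nat_lit 0) (nat_lit 5) (BT.img (nat_lit 1) (nat_lit 2) (BT.and (nat_lit 1) (nat_lit 0) (BT.cnt (nat_lit 0)))))) BT.nil))) BT.nil))))))) BT.nil))) (BT.kid (nat_lit 3) (nat_lit 16) (BT.dif (nat_lit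 1) (nat_lit 0) (BT.br (nat_lit 0) (nat_lit 7) [] (BT.dead (nat_lit 20) (BT.frm (nat_lit 0) (nat_lit 0x106171901) (nat_lit 0x213171901) [nat_lit 0, nat_lit 2] (BT.pln (nat_lit 0) (nat_lit 2) (BT.and (nat_lit 5) (nat_lit 0) (BT.br (nat_lit 0) (nat_lit 9) [] (BT.dead (nat_lit 14) (BT.dif (nat_lit 10) (nat_lit 7) (BT.br (nat_lit 0) (nat_lit 0) [nat_lit 5, nat_lit 7, nat_lit 9, nat_lit 11] (BT.dead (nat_lit 0) (BT.frm (nat_lit 1) (nat_lit 0xd130106171901) (nat_lit 0xd0f110213171901) [nat_lit 0, nat_lit 2, nat_lit 6, nat_lit 8] (BT.pln (nat_lit 0) (nat_lit 4) (BT.img (nat_lit 1) (nat_lit 2) (BT.and (nat_lit 1) (nat_lit 0) (BT.cnt (nat_lit 0)))))) BT.nil))) (BT.dead (nat_lit 9) (BT.dif (nat_lit 10) (nat_lit 7) (BT.br (nat_lit 0) (nat_lit 0) [nat_lit 5, nat_lit 7, nat_lit 9, nat_lit 11] (BT.dead (nat_lit 0) (BT.frm (nat_lit 1) (nat_lit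 0xd130106171901) (nat_lit 0xf080213171901) [nat_lit 0, nat_lit 2, nat_lit 6, nat_lit 8] (BT.pln (nat_lit 0) (nat_lit 6) (BT.img (nat_lit 1) (nat_lit 2) (BT.and (nat_lit 1) (nat_lit 0) (BT.cnt (nat_lit 0)))))) BT.nil))) (BT.dead (nat_lit 7) (BT.dif (nat_lit 10) (nat_lit 7) (BT.br (nat_lit 0) (nat_lit 0) [nat_lit 5, nat_lit 7, nat_lit 9, nat_lit 11] (BT.dead (nat_lit 0) (BT.frm (nat_lit 1) (nat_lit 0xd130106171901) (nat_lit 0x13070213171901) [nat_lit 0, nat_lit 2, nat_lit 6, nat_lit 8] (BT.pln (nat_lit 0) (nat_lit 4) (BT.img (nat_lit 1) (nat_lit 2) (BT.and (nat_lit 1) (nat_lit 0) (BT.cnt (nat_lit 0)))))) BT.nil))) BT.nil))))))) (BT.dead (nat_lit 14) (BT.frm (nat_lit 0) (nat_lit 0x106171901) (nat_lit 0x104171901) [nat_lit 0, nat_lit 2] (BT.pln (nat_lit 0) (nat_lit 2) (BT.and (nat_lit 5) (nat_lit 0) (BT.br (nat_lit 0) (nat_lit 9) []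 (BT.dead (nat_lit 9) (BT.dif (nat_lit 10) (nat_lit 7) (BT.br (nat_lit 0) (nat_lit 0) [nat_lit 5, nat_lit 7, nat_lit 9, nat_lit 11] (BT.dead (nat_lit 0) (BT.frm (nat_lit 1) (nat_lit 0xd130106171901) (nat_lit 0xd0f130104171901) [nat_lit 0, nat_lit 2, nat_lit 6, nat_lit 8] (BT.pln (nat_lit 0) (nat_lit 7) (BT.img (nat_lit 1) (nat_lit 2) (BT.and (nat_lit 1) (nat_lit 0) (BT.cnt (nat_lit 0)))))) BT.nil))) (BT.dead (nat_lit 7) (BT.dif (nat_lit 10) (nat_lit 7) (BT.br (nat_lit 0) (nat_lit 0) [nat_lit 5, nat_lit 7, nat_lit 9, nat_lit 11] (BT.dead (nat_lit 0) (BT.frm (nat_lit 1) (nat_lit 0xd130106171901) (nat_lit 0xf11070104171901) [nat_lit 0, nat_lit 2, nat_lit 6, nat_lit 8] (BT.pln (nat_lit 0) (nat_lit 4) (BT.img (nat_lit 1) (nat_lit 2) (BT.and (nat_lit 1) (nat_lit 0) (BT.cnt (nat_lit 0)))))) BT.nil))) (BT.dead (nat_lit 20) (BT.dif (nat_lit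 10) (nat_lit 7) (BT.br (nat_lit 0) (nat_lit 0) [nat_lit 5, nat_lit 7, nat_lit 9, nat_lit 11] (BT.dead (nat_lit 0) (BT.frm (nat_lit 1) (nat_lit 0xd130106171901) (nat_lit 0x80104171901) [nat_lit 0, nat_lit 2, nat_lit 6, nat_lit 8] (BT.pln (nat_lit 0) (nat_lit 4) (BT.img (nat_lit 1) (nat_lit 2) (BT.and (nat_lit 1) (nat_lit 0) (BT.cnt (nat_lit 0)))))) BT.nil))) BT.nil))))))) (BT.dead (nat_lit 9) (BT.frm (nat_lit 0) (nat_lit 0x106171901) (nat_lit 0x10b171901) [nat_lit 0, nat_lit 2] (BT.pln (nat_lit 0) (nat_lit 2) (BT.and (nat_lit 5) (nat_lit 0) (BT.br (nat_lit 0) (nat_lit 9) [] (BT.dead (nat_lit 14) (BT.dif (nat_lit 10) (nat_lit 7) (BT.br (nat_lit 0) (nat_lit 0) [nat_lit 5, nat_lit 7, nat_lit 9, nat_lit 11] (BT.dead (nat_lit 0) (BT.frm (nat_lit 1) (nat_lit 0xd130106171901) (nat_lit 0xd0f1307010b171901) [nat_lit 0, nat_lit 2, nat_lit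 6, nat_lit 8] (BT.pln (nat_lit 0) (nat_lit 5) (BT.img (nat_lit 1) (nat_lit 2) (BT.and (nat_lit 1) (nat_lit 0) (BT.cnt (nat_lit 0)))))) BT.nil))) (BT.dead (nat_lit 20) (BT.dif (nat_lit 10) (nat_lit 7) (BT.br (nat_lit 0) (nat_lit 0) [nat_lit 5, nat_lit 7, nat_lit 9, nat_lit 11] (BT.dead (nat_lit 0) (BT.frm (nat_lit 1) (nat_lit 0xd130106171901) (nat_lit 0xf1108010b171901) [nat_lit 0, nat_lit 2, nat_lit 6, nat_lit 8] (BT.pln (nat_lit 0) (nat_lit 5) (BT.img (nat_lit 1) (nat_lit 2) (BT.and (nat_lit 1) (nat_lit 0) (BT.cnt (nat_lit 0)))))) BT.nil))) (BT.dead (nat_lit 7) (BT.dif (nat_lit 10) (nat_lit 7) (BT.br (nat_lit 0) (nat_lit 0) [nat_lit 5, nat_lit 7, nat_lit 9, nat_lit 11] (BT.dead (nat_lit 0) (BT.frm (nat_lit 1) (nat_lit 0xd130106171901) (nat_lit 0x10b171901) [nat_lit 0, nat_lit 2, nat_lit 6, nat_lit 8] (BT.pln (nat_lit 0) (nat_lit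 5) (BT.img (nat_lit 1) (nat_lit 2) (BT.and (nat_lit 1) (nat_lit 0) (BT.cnt (nat_lit 0)))))) BT.nil))) BT.nil))))))) (BT.kid (nat_lit 7) (nat_lit 16) (BT.frm (nat_lit 0) (nat_lit 0x106171901) (nat_lit 0x106171901) [nat_lit 0, nat_lit 2] (BT.pln (nat_lit 0) (nat_lit 2) (BT.and (nat_lit 5) (nat_lit 0) (BT.br (nat_lit 0) (nat_lit 9) [] (BT.dead (nat_lit 20) (BT.dif (nat_lit 10) (nat_lit 7) (BT.br (nat_lit 0) (nat_lit 0) [nat_lit 5, nat_lit 7, nat_lit 9, nat_lit 11] (BT.dead (nat_lit 0) (BT.frm (nat_lit 1) (nat_lit 0xd130106171901) (nat_lit 0xf13070106171901) [nat_lit 0, nat_lit 2, nat_lit 6, nat_lit 8] (BT.pln (nat_lit 0) (nat_lit 4) (BT.img (nat_lit 1) (nat_lit 2) (BT.and (nat_lit 1) (nat_lit 0) (BT.cnt (nat_lit 0)))))) BT.nil))) (BT.dead (nat_lit 14) (BT.dif (nat_lit 10) (nat_lit 7) (BT.br (nat_lit 0) (nat_lit 0) [nat_lit 5, nat_lit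 7, nat_lit 9, nat_lit 11] (BT.dead (nat_lit 0) (BT.frm (nat_lit 1) (nat_lit 0xd130106171901) (nat_lit 0x15080106171901) [nat_lit 0, nat_lit 2, nat_lit 6, nat_lit 8] (BT.pln (nat_lit 0) (nat_lit 4) (BT.img (nat_lit 1) (nat_lit 2) (BT.and (nat_lit 1) (nat_lit 0) (BT.cnt (nat_lit 0)))))) BT.nil))) (BT.kid (nat_lit 9) (nat_lit 16) (BT.dif (nat_lit 10) (nat_lit 7) (BT.br (nat_lit 0) (nat_lit 0) [nat_lit 5, nat_lit 7, nat_lit 9, nat_lit 11] (BT.kid (nat_lit 0) (nat_lit 1) (BT.one (nat_lit 1) (nat_lit 0xd130106171901) (nat_lit 0xd130106171901) [nat_lit 0, nat_lit 2, nat_lit 6, nat_lit 8]) BT.nil))) BT.nil))))))) BT.nil)))))) BT.nil))))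

theorem kt_c1_cnt : Cnt 21 (grp 21 k_E0) [k_g44] [k_g44] 0 0 0 0 64 :=
  BT.sound kt_c1_cnt_P Known.nil (t := kt_c1_cnt_t) (d := 0) (by decide +kernel)

theorem kt_c1_ge : 64 ≤ Nat.card (grp 21 kt_c1_K) :=
  Ch.le_card_grp (k := 5) (L := (lab 21 5)) k_hn kt_c1_K_ok (c := (Ch.cons (nat_lit 3) [nat_lit 1, nat_lit 3] (Ch.cons (nat_lit 0) [nat_lit 5, nat_lit 7, nat_lit 9, nat_lit 11] Ch.nil))) (by decide +kernel)

theorem kt_c1_eq : (grp 21 k_E0) ⊓ Subgroup.centralizer {Net.toPerm 21 k_g44} = grp 21 kt_c1_K :=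
  cent_eq kt_c1_sym kt_c1_cnt kt_c1_ge

theorem kt_c1_card : Nat.card ↥((grp 21 k_E0) ⊓ Subgroup.centralizer {Net.toPerm 21 k_g44}) = 64 :=
  card_cent kt_c1_sym kt_c1_cnt kt_c1_ge

theorem kt_c1_ord : orderOf (Net.toPerm 21 k_g44) = 2 :=
  orderOf_net k_hn k_hk k_g44_ok (by decide) (ps := [2]) (by set_option linter.unusedSimpArgs false in simp [Nat.primeFactorsList_ofNat]) (by decide +kernel)

theorem k_le57 : grp 21 kt_c2_K ≤ grp 21 k_E0 :=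
  grp_le_of_memB k_hn k_hk k_E0_ok kt_c2_K_ok (ws := [nat_lit 0x2518111301, nat_lit 0x1d1f010301]) (by decide +kernel)

theorem kt_c2_le : grp 21 kt_c2_K ≤ (grp 21 k_E0) :=
  (k_le57.trans k_T43_s0.le)

theorem kt_c2_mem : Net.toPerm 21 k_g55 ∈ (grp 21 k_E0) :=
  kt_c2_le (toPerm_mem_grp (E := kt_c2_K) (List.Mem.tail _ (List.Mem.head _)))

theorem kt_c2_sym : Sym 21 (grp 21 k_E0) [k_g55] kt_c2_K 0 :=
  Sym.of_lab k_hn k_hk (okE_cons.2 ⟨k_g55_ok, okE_nil _⟩) kt_c2_K_ok kt_c2_le (kT := 0) (by decide +kernel)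

theorem k_le60 : grp 21 k_V59 ≤ grp 21 k_V52 :=
  grp_le_of_memB k_hn k_hk k_V52_ok k_V59_ok (ws := [nat_lit 1281]) (by decide +kernel)

theorem k_T43_s5 : Stab 21 (grp 21 k_E0) [nat_lit 2, nat_lit 11, nat_lit 0] k_V59 3 :=
  Stab.step (k := 5) (L := (lab 21 5)) k_hn k_T43_s2 k_V59_ok k_le60 (c := (Ch.cons (nat_lit 14) [nat_lit 1] Ch.nil)) (by decide +kernel)

theorem k_T43_s6 : Stab 21 (grp 21 k_E0) [nat_lit 14, nat_lit 2, nat_lit 11, nat_lit 0] k_V61 1 :=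
  Stab.step (k := 5) (L := (lab 21 5)) k_hn k_T43_s5 k_V61_ok (grp_mono (List.subset_append_right [k_g58] _)) (c := Ch.nil) (by decide +kernel)

theorem k_g58_k_T43 : Net.toPerm 21 k_g58 ∈ (grp 21 k_E0) :=
  k_T43_s5.le (toPerm_mem_grp (E := k_V59) (List.Mem.head _))

noncomputable def k_T43_s6_O : ℕ := (nat_lit 0x1f000007f8043c3c199998aaaaa000008020000000804000)

theorem k_T43_s6_F : Frame 21 (grp 21 k_E0) 4 9 k_T43_s6_O 1 1 :=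
  IsBase.frame k_T43_s6.isBase (by decide +kernel)

noncomputable def k_T43_s5_O : ℕ := (nat_lit 0xb000904022010048040410100000040100000004)

theorem k_T43_s5_F : Frame 21 (grp 21 k_E0) 3 8 k_T43_s5_O 0 1 :=
  Stab.frame k_hn k_T43_s5 (by decide +kernel)

noncomputable def kt_c2_cnt_L : List ℕ := [3, 8, k_T43_s5_O, 0, 0, 4, 9, k_T43_s6_O, 1, 0]

theorem kt_c2_cnt_P : Prob 21 5 (grp 21 k_E0) kt_c2_cnt_EG [k_g55] [k_g55] kt_c2_K kt_c2_cnt_L 0 0 :=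
  Sym.prob k_hn k_hk kt_c2_sym kt_c2_cnt_EG_ok (grp_cons_le k_g18_k_T43 (grp_cons_le k_g19_k_T43 (grp_cons_le k_g30_k_T43 (grp_cons_le k_g25_k_T43 (grp_cons_le k_g27_k_T43 (grp_cons_le k_g31_k_T43 (grp_cons_le k_g20_k_T43 (grp_cons_le k_g26_k_T43 (grp_cons_le k_g15_k_T43 (grp_cons_le k_g11_k_T43 (grp_cons_le k_g12_k_T43 (grp_cons_le k_g8_k_T43 (grp_cons_le k_g1_k_T43 (grp_cons_le k_g2_k_T43 (grp_cons_le k_g3_k_T43 (grp_cons_le k_g4_k_T43 (grp_cons_le k_g5_k_T43 (grp_cons_le k_g6_k_T43 (grp_cons_le k_g7_k_T43 (grp_cons_le k_g58_k_T43 (grp_nil_le _))))))))))))))))))))) (Frames.cons k_T43_s5_F (Frames.cons k_T43_s6_F Frames.nil)) (okE_cons.2 ⟨k_g55_ok, okE_nil _⟩) _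

noncomputable def kt_c2_cnt_t : BT := (BT.fix (nat_lit 1) (BT.br (nat_lit 0) (nat_lit 5) [nat_lit 1] (BT.kid (nat_lit 5) (nat_lit 3) (BT.dif (nat_lit 1) (nat_lit 0) (BT.br (nat_lit 0) (nat_lit 13) [] (BT.dead (nat_lit 19) (BT.dif (nat_lit 1) (nat_lit 0) (BT.frm (nat_lit 0) (nat_lit 0x1030111011712) (nat_lit 0x311151712) [nat_lit 0, nat_lit 1, nat_lit 3] (BT.pln (nat_lit 0) (nat_lit 6) (BT.br (nat_lit 0) (nat_lit 8) [nat_lit 3] (BT.dead (nat_lit 8) (BT.frm (nat_lit 1) (nat_lit 0x2701030111011712) (nat_lit 0x311151712) [nat_lit 0, nat_lit 3, nat_lit 4, nat_lit 6] (BT.pln (nat_lit 0) (nat_lit 4) (BT.img (nat_lit 1) (nat_lit 2) (BT.and (nat_lit 1) (nat_lit 0) (BT.cnt (nat_lit 0)))))) BT.nil))))) (BT.kid (nat_lit 13) (nat_lit 3) (BT.dif (nat_lit 1) (nat_lit 0) (BT.frm (nat_lit 0) (nat_lit 0x1030111011712) (nat_lit 0x1030111011712) [nat_lit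 0, nat_lit 1, nat_lit 3] (BT.pln (nat_lit 0) (nat_lit 6) (BT.br (nat_lit 0) (nat_lit 8) [nat_lit 3] (BT.kid (nat_lit 8) (nat_lit 1) (BT.one (nat_lit 1) (nat_lit 0x2701030111011712) (nat_lit 0x2701030111011712) [nat_lit 0, nat_lit 3, nat_lit 4, nat_lit 6]) BT.nil))))) BT.nil)))) BT.nil)))

theorem kt_c2_cnt : Cnt 21 (grp 21 k_E0) [k_g55] [k_g55] 0 0 0 0 9 :=
  BT.sound kt_c2_cnt_P Known.nil (t := kt_c2_cnt_t) (d := 0) (by decide +kernel)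

theorem kt_c2_ge : 9 ≤ Nat.card (grp 21 kt_c2_K) :=
  Ch.le_card_grp (k := 5) (L := (lab 21 5)) k_hn kt_c2_K_ok (c := (Ch.cons (nat_lit 5) [nat_lit 1] (Ch.cons (nat_lit 8) [nat_lit 3] Ch.nil))) (by decide +kernel)

theorem kt_c2_eq : (grp 21 k_E0) ⊓ Subgroup.centralizer {Net.toPerm 21 k_g55} = grp 21 kt_c2_K :=
  cent_eq kt_c2_sym kt_c2_cnt kt_c2_ge

theorem kt_c2_card : Nat.card ↥((grp 21 k_E0) ⊓ Subgroup.centralizer {Net.toPerm 21 k_g55}) = 9 :=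
  card_cent kt_c2_sym kt_c2_cnt kt_c2_ge

theorem kt_c2_ord : orderOf (Net.toPerm 21 k_g55) = 3 :=
  orderOf_net k_hn k_hk k_g55_ok (by decide) (ps := [3]) (by set_option linter.unusedSimpArgs false in simp [Nat.primeFactorsList_ofNat]) (by decide +kernel)

theorem k_le65 : grp 21 kt_c3_K ≤ grp 21 k_E0 :=
  grp_le_of_memB k_hn k_hk k_E0_ok kt_c3_K_ok (ws := [nat_lit 0x1b1d18120107, nat_lit 0x1d231612010301, nat_lit 0x25111101, nat_lit 0x2518010b]) (by decide +kernel)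

theorem kt_c3_le : grp 21 kt_c3_K ≤ (grp 21 k_E0) :=
  (k_le65.trans k_T43_s0.le)

theorem kt_c3_mem : Net.toPerm 21 k_g62 ∈ (grp 21 k_E0) :=
  kt_c3_le (toPerm_mem_grp (E := kt_c3_K) (List.Mem.head _))

theorem kt_c3_sym : Sym 21 (grp 21 k_E0) [k_g62] kt_c3_K 0 :=
  Sym.of_lab k_hn k_hk (okE_cons.2 ⟨k_g62_ok, okE_nil _⟩) kt_c3_K_ok kt_c3_le (kT := 0) (by decide +kernel)

noncomputable def kt_c3_cnt_L : List ℕ := [4, 9, k_T43_s4_O, 1, 0]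

theorem kt_c3_cnt_P : Prob 21 5 (grp 21 k_E0) kt_c3_cnt_EG [k_g62] [k_g62] kt_c3_K kt_c3_cnt_L 0 0 :=
  Sym.prob k_hn k_hk kt_c3_sym kt_c3_cnt_EG_ok (grp_cons_le k_g30_k_T43 (grp_cons_le k_g25_k_T43 (grp_cons_le k_g27_k_T43 (grp_cons_le k_g31_k_T43 (grp_cons_le k_g20_k_T43 (grp_cons_le k_g26_k_T43 (grp_cons_le k_g18_k_T43 (grp_cons_le k_g19_k_T43 (grp_cons_le k_g15_k_T43 (grp_cons_le k_g11_k_T43 (grp_cons_le k_g12_k_T43 (grp_cons_le k_g8_k_T43 (grp_cons_le k_g1_k_T43 (grp_cons_le k_g2_k_T43 (grp_cons_le k_g3_k_T43 (grp_cons_le k_g4_k_T43 (grp_cons_le k_g5_k_T43 (grp_cons_le k_g6_k_T43 (grp_cons_le k_g7_k_T43 (grp_nil_le _)))))))))))))))))))) (Frames.cons k_T43_s4_F Frames.nil) (okE_cons.2 ⟨k_g62_ok, okE_nil _⟩) _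

noncomputable def kt_c3_cnt_t : BT := (BT.fix (nat_lit 257) (BT.fix (nat_lit 1) (BT.dif (nat_lit 1) (nat_lit 0) (BT.br (nat_lit 0) (nat_lit 3) [nat_lit 1, nat_lit 3] (BT.kid (nat_lit 3) (nat_lit 4) (BT.dif (nat_lit 6) (nat_lit 3) (BT.br (nat_lit 0) (nat_lit 0) [nat_lit 5, nat_lit 7] (BT.dead (nat_lit 4) (BT.img (nat_lit 1) (nat_lit 2) (BT.frm (nat_lit 0) (nat_lit 0xb0d110f18) (nat_lit 0x3070d110f18) [nat_lit 1, nat_lit 0, nat_lit 3, nat_lit 5] (BT.pln (nat_lit 0) (nat_lit 5) (BT.img (nat_lit 1) (nat_lit 3) (BT.and (nat_lit 1) (nat_lit 0) (BT.cnt (nat_lit 0))))))) (BT.dead (nat_lit 2) (BT.img (nat_lit 1) (nat_lit 2) (BT.frm (nat_lit 0) (nat_lit 0xb0d110f18) (nat_lit 0x3050d110f18) [nat_lit 1, nat_lit 0, nat_lit 3, nat_lit 5] (BT.pln (nat_lit 0) (nat_lit 4) (BT.img (nat_lit 1) (nat_lit 3) (BT.and (nat_lit 1) (nat_lit 0) (BT.cnt (nat_lit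 0))))))) (BT.dead (nat_lit 1) (BT.img (nat_lit 1) (nat_lit 2) (BT.frm (nat_lit 0) (nat_lit 0xb0d110f18) (nat_lit 0x90d110f18) [nat_lit 1, nat_lit 0, nat_lit 3, nat_lit 5] (BT.pln (nat_lit 0) (nat_lit 4) (BT.img (nat_lit 1) (nat_lit 3) (BT.and (nat_lit 1) (nat_lit 0) (BT.cnt (nat_lit 0))))))) (BT.kid (nat_lit 0) (nat_lit 1) (BT.img (nat_lit 1) (nat_lit 2) (BT.one (nat_lit 0) (nat_lit 0xb0d110f18) (nat_lit 0xb0d110f18) [nat_lit 1, nat_lit 0, nat_lit 3, nat_lit 5])) BT.nil)))))) BT.nil)))))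

theorem kt_c3_cnt : Cnt 21 (grp 21 k_E0) [k_g62] [k_g62] 0 0 0 0 16 :=
  BT.sound kt_c3_cnt_P Known.nil (t := kt_c3_cnt_t) (d := 0) (by decide +kernel)

theorem kt_c3_ge : 16 ≤ Nat.card (grp 21 kt_c3_K) :=
  Ch.le_card_grp (k := 5) (L := (lab 21 5)) k_hn kt_c3_K_ok (c := (Ch.cons (nat_lit 3) [nat_lit 1, nat_lit 3] (Ch.cons (nat_lit 0) [nat_lit 5, nat_lit 7] Ch.nil))) (by decide +kernel)

theorem kt_c3_eq : (grp 21 k_E0) ⊓ Subgroup.centralizer {Net.toPerm 21 k_g62} = grp 21 kt_c3_K :=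
  cent_eq kt_c3_sym kt_c3_cnt kt_c3_ge

theorem kt_c3_card : Nat.card ↥((grp 21 k_E0) ⊓ Subgroup.centralizer {Net.toPerm 21 k_g62}) = 16 :=
  card_cent kt_c3_sym kt_c3_cnt kt_c3_ge

theorem kt_c3_ord : orderOf (Net.toPerm 21 k_g62) = 4 :=
  orderOf_net k_hn k_hk k_g62_ok (by decide) (ps := [2]) (by set_option linter.unusedSimpArgs false in simp [Nat.primeFactorsList_ofNat]) (by decide +kernel)

theorem k_le69 : grp 21 kt_c4_K ≤ grp 21 k_E0 :=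
  grp_le_of_memB k_hn k_hk k_E0_ok kt_c4_K_ok (ws := [nat_lit 0x1d171213, nat_lit 0x231114, nat_lit 0x1b17111114, nat_lit 0x211111]) (by decide +kernel)

theorem kt_c4_le : grp 21 kt_c4_K ≤ (grp 21 k_E0) :=
  (k_le69.trans k_T43_s0.le)

theorem kt_c4_mem : Net.toPerm 21 k_g66 ∈ (grp 21 k_E0) :=
  kt_c4_le (toPerm_mem_grp (E := kt_c4_K) (List.Mem.head _))

theorem kt_c4_sym : Sym 21 (grp 21 k_E0) [k_g66] kt_c4_K 0 :=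
  Sym.of_lab k_hn k_hk (okE_cons.2 ⟨k_g66_ok, okE_nil _⟩) kt_c4_K_ok kt_c4_le (kT := 0) (by decide +kernel)

noncomputable def kt_c4_cnt_L : List ℕ := [4, 9, k_T43_s4_O, 1, 0]

theorem kt_c4_cnt_P : Prob 21 5 (grp 21 k_E0) kt_c4_cnt_EG [k_g66] [k_g66] kt_c4_K kt_c4_cnt_L 0 0 :=
  Sym.prob k_hn k_hk kt_c4_sym kt_c4_cnt_EG_ok (grp_cons_le k_g30_k_T43 (grp_cons_le k_g25_k_T43 (grp_cons_le k_g27_k_T43 (grp_cons_le k_g31_k_T43 (grp_cons_le k_g20_k_T43 (grp_cons_le k_g26_k_T43 (grp_cons_le k_g18_k_T43 (grp_cons_le k_g19_k_T43 (grp_cons_le k_g15_k_T43 (grp_cons_le k_g11_k_T43 (grp_cons_le k_g12_k_T43 (grp_cons_le k_g8_k_T43 (grp_cons_le k_g1_k_T43 (grp_cons_le k_g2_k_T43 (grp_cons_le k_g3_k_T43 (grp_cons_le k_g4_k_T43 (grp_cons_le k_g5_k_T43 (grp_cons_le k_g6_k_T43 (grp_cons_le k_g7_k_T43 (grp_nil_le _)))))))))))))))))))) (Frames.cons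 k_T43_s4_F Frames.nil) (okE_cons.2 ⟨k_g66_ok, okE_nil _⟩) _

noncomputable def kt_c4_cnt_t : BT := (BT.fix (nat_lit 257) (BT.fix (nat_lit 1) (BT.dif (nat_lit 1) (nat_lit 0) (BT.br (nat_lit 0) (nat_lit 1) [nat_lit 1, nat_lit 3] (BT.kid (nat_lit 1) (nat_lit 4) (BT.dif (nat_lit 6) (nat_lit 3) (BT.br (nat_lit 0) (nat_lit 5) [nat_lit 5, nat_lit 7] (BT.dead (nat_lit 17) (BT.img (nat_lit 1) (nat_lit 2) (BT.frm (nat_lit 0) (nat_lit 0x305090e1115) (nat_lit 0x1030e1115) [nat_lit 1, nat_lit 0, nat_lit 3, nat_lit 5] (BT.pln (nat_lit 0) (nat_lit 4) (BT.img (nat_lit 1) (nat_lit 3) (BT.and (nat_lit 1) (nat_lit 0) (BT.cnt (nat_lit 0))))))) (BT.dead (nat_lit 13) (BT.img (nat_lit 1) (nat_lit 2) (BT.frm (nat_lit 0) (nat_lit 0x305090e1115) (nat_lit 0x5070e1115) [nat_lit 1, nat_lit 0, nat_lit 3, nat_lit 5] (BT.pln (nat_lit 0) (nat_lit 5) (BT.img (nat_lit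 1) (nat_lit 3) (BT.and (nat_lit 1) (nat_lit 0) (BT.cnt (nat_lit 0))))))) (BT.dead (nat_lit 9) (BT.img (nat_lit 1) (nat_lit 2) (BT.frm (nat_lit 0) (nat_lit 0x305090e1115) (nat_lit 921877) [nat_lit 1, nat_lit 0, nat_lit 3, nat_lit 5] (BT.pln (nat_lit 0) (nat_lit 4) (BT.img (nat_lit 1) (nat_lit 3) (BT.and (nat_lit 1) (nat_lit 0) (BT.cnt (nat_lit 0))))))) (BT.kid (nat_lit 5) (nat_lit 1) (BT.img (nat_lit 1) (nat_lit 2) (BT.one (nat_lit 0) (nat_lit 0x305090e1115) (nat_lit 0x305090e1115) [nat_lit 1, nat_lit 0, nat_lit 3, nat_lit 5])) BT.nil)))))) BT.nil)))))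

theorem kt_c4_cnt : Cnt 21 (grp 21 k_E0) [k_g66] [k_g66] 0 0 0 0 16 :=
  BT.sound kt_c4_cnt_P Known.nil (t := kt_c4_cnt_t) (d := 0) (by decide +kernel)

theorem kt_c4_ge : 16 ≤ Nat.card (grp 21 kt_c4_K) :=
  Ch.le_card_grp (k := 5) (L := (lab 21 5)) k_hn kt_c4_K_ok (c := (Ch.cons (nat_lit 1) [nat_lit 1, nat_lit 3] (Ch.cons (nat_lit 5) [nat_lit 5, nat_lit 7] Ch.nil))) (by decide +kernel)

theorem kt_c4_eq : (grp 21 k_E0) ⊓ Subgroup.centralizer {Net.toPerm 21 k_g66} = grp 21 kt_c4_K :=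
  cent_eq kt_c4_sym kt_c4_cnt kt_c4_ge

theorem kt_c4_card : Nat.card ↥((grp 21 k_E0) ⊓ Subgroup.centralizer {Net.toPerm 21 k_g66}) = 16 :=
  card_cent kt_c4_sym kt_c4_cnt kt_c4_ge

theorem kt_c4_ord : orderOf (Net.toPerm 21 k_g66) = 4 :=
  orderOf_net k_hn k_hk k_g66_ok (by decide) (ps := [2]) (by set_option linter.unusedSimpArgs false in simp [Nat.primeFactorsList_ofNat]) (by decide +kernel)

theorem k_le72 : grp 21 kt_c5_K ≤ grp 21 k_E0 :=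
  grp_le_of_memB k_hn k_hk k_E0_ok kt_c5_K_ok (ws := [nat_lit 0x1d1f21110317, nat_lit 0x1d2518111114031f, nat_lit 0x25111101, nat_lit 0x1d23170109]) (by decide +kernel)

theorem kt_c5_le : grp 21 kt_c5_K ≤ (grp 21 k_E0) :=
  (k_le72.trans k_T43_s0.le)

theorem kt_c5_mem : Net.toPerm 21 k_g70 ∈ (grp 21 k_E0) :=
  kt_c5_le (toPerm_mem_grp (E := kt_c5_K) (List.Mem.head _))

theorem kt_c5_sym : Sym 21 (grp 21 k_E0) [k_g70] kt_c5_K 0 :=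
  Sym.of_lab k_hn k_hk (okE_cons.2 ⟨k_g70_ok, okE_nil _⟩) kt_c5_K_ok kt_c5_le (kT := 0) (by decide +kernel)

noncomputable def kt_c5_cnt_L : List ℕ := [4, 9, k_T43_s4_O, 1, 0]

theorem kt_c5_cnt_P : Prob 21 5 (grp 21 k_E0) kt_c5_cnt_EG [k_g70] [k_g70] kt_c5_K kt_c5_cnt_L 0 0 :=
  Sym.prob k_hn k_hk kt_c5_sym kt_c5_cnt_EG_ok (grp_cons_le k_g30_k_T43 (grp_cons_le k_g25_k_T43 (grp_cons_le k_g27_k_T43 (grp_cons_le k_g31_k_T43 (grp_cons_le k_g20_k_T43 (grp_cons_le k_g26_k_T43 (grp_cons_le k_g18_k_T43 (grp_cons_le k_g19_k_T43 (grp_cons_le k_g15_k_T43 (grp_cons_le k_g11_k_T43 (grp_cons_le k_g12_k_T43 (grp_cons_le k_g8_k_T43 (grp_cons_le k_g1_k_T43 (grp_cons_le k_g2_k_T43 (grp_cons_le k_g3_k_T43 (grp_cons_le k_g4_k_T43 (grp_cons_le k_g5_k_T43 (grp_cons_le k_g6_k_T43 (grp_cons_le k_g7_k_T43 (grp_nil_le _)))))))))))))))))))) (Frames.cons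 k_T43_s4_F Frames.nil) (okE_cons.2 ⟨k_g70_ok, okE_nil _⟩) _

noncomputable def kt_c5_cnt_t : BT := (BT.fix (nat_lit 257) (BT.fix (nat_lit 1) (BT.dif (nat_lit 1) (nat_lit 0) (BT.br (nat_lit 0) (nat_lit 3) [nat_lit 1, nat_lit 3] (BT.kid (nat_lit 3) (nat_lit 4) (BT.dif (nat_lit 6) (nat_lit 3) (BT.br (nat_lit 0) (nat_lit 0) [nat_lit 5, nat_lit 7] (BT.dead (nat_lit 1) (BT.img (nat_lit 1) (nat_lit 2) (BT.frm (nat_lit 0) (nat_lit 0x509110f18) (nat_lit 0x30507110f18) [nat_lit 1, nat_lit 0, nat_lit 3, nat_lit 5] (BT.pln (nat_lit 0) (nat_lit 4) (BT.img (nat_lit 1) (nat_lit 3) (BT.and (nat_lit 1) (nat_lit 0) (BT.cnt (nat_lit 0))))))) (BT.dead (nat_lit 4) (BT.img (nat_lit 1) (nat_lit 2) (BT.frm (nat_lit 0) (nat_lit 0x509110f18) (nat_lit 0x1110f18) [nat_lit 1, nat_lit 0, nat_lit 3, nat_lit 5] (BT.pln (nat_lit 0) (nat_lit 5) (BT.img (nat_lit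 1) (nat_lit 3) (BT.and (nat_lit 1) (nat_lit 0) (BT.cnt (nat_lit 0))))))) (BT.dead (nat_lit 2) (BT.img (nat_lit 1) (nat_lit 2) (BT.frm (nat_lit 0) (nat_lit 0x509110f18) (nat_lit 0x3110f18) [nat_lit 1, nat_lit 0, nat_lit 3, nat_lit 5] (BT.pln (nat_lit 0) (nat_lit 4) (BT.img (nat_lit 1) (nat_lit 3) (BT.and (nat_lit 1) (nat_lit 0) (BT.cnt (nat_lit 0))))))) (BT.kid (nat_lit 0) (nat_lit 1) (BT.img (nat_lit 1) (nat_lit 2) (BT.one (nat_lit 0) (nat_lit 0x509110f18) (nat_lit 0x509110f18) [nat_lit 1, nat_lit 0, nat_lit 3, nat_lit 5])) BT.nil)))))) BT.nil)))))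

theorem kt_c5_cnt : Cnt 21 (grp 21 k_E0) [k_g70] [k_g70] 0 0 0 0 16 :=
  BT.sound kt_c5_cnt_P Known.nil (t := kt_c5_cnt_t) (d := 0) (by decide +kernel)

theorem kt_c5_ge : 16 ≤ Nat.card (grp 21 kt_c5_K) :=
  Ch.le_card_grp (k := 5) (L := (lab 21 5)) k_hn kt_c5_K_ok (c := (Ch.cons (nat_lit 3) [nat_lit 1, nat_lit 3] (Ch.cons (nat_lit 0) [nat_lit 5, nat_lit 7] Ch.nil))) (by decide +kernel)

theorem kt_c5_eq : (grp 21 k_E0) ⊓ Subgroup.centralizer {Net.toPerm 21 k_g70} = grp 21 kt_c5_K :=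
  cent_eq kt_c5_sym kt_c5_cnt kt_c5_ge

theorem kt_c5_card : Nat.card ↥((grp 21 k_E0) ⊓ Subgroup.centralizer {Net.toPerm 21 k_g70}) = 16 :=
  card_cent kt_c5_sym kt_c5_cnt kt_c5_ge

theorem kt_c5_ord : orderOf (Net.toPerm 21 k_g70) = 4 :=
  orderOf_net k_hn k_hk k_g70_ok (by decide) (ps := [2]) (by set_option linter.unusedSimpArgs false in simp [Nat.primeFactorsList_ofNat]) (by decide +kernel)

theorem k_le74 : grp 21 kt_c6_K ≤ grp 21 k_E0 :=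
  grp_le_of_memB k_hn k_hk k_E0_ok kt_c6_K_ok (ws := [nat_lit 0x1d1f2117150115]) (by decide +kernel)

theorem kt_c6_le : grp 21 kt_c6_K ≤ (grp 21 k_E0) :=
  (k_le74.trans k_T43_s0.le)

theorem kt_c6_mem : Net.toPerm 21 k_g73 ∈ (grp 21 k_E0) :=
  kt_c6_le (toPerm_mem_grp (E := kt_c6_K) (List.Mem.head _))

theorem kt_c6_sym : Sym 21 (grp 21 k_E0) [k_g73] kt_c6_K 0 :=
  Sym.of_lab k_hn k_hk (okE_cons.2 ⟨k_g73_ok, okE_nil _⟩) kt_c6_K_ok kt_c6_le (kT := 0) (by decide +kernel)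

noncomputable def kt_c6_cnt_L : List ℕ := [3, 8, k_T43_s5_O, 0, 0, 4, 9, k_T43_s6_O, 1, 0]

theorem kt_c6_cnt_P : Prob 21 5 (grp 21 k_E0) kt_c6_cnt_EG [k_g73] [k_g73] kt_c6_K kt_c6_cnt_L 0 0 :=
  Sym.prob k_hn k_hk kt_c6_sym kt_c6_cnt_EG_ok (grp_cons_le k_g18_k_T43 (grp_cons_le k_g19_k_T43 (grp_cons_le k_g30_k_T43 (grp_cons_le k_g25_k_T43 (grp_cons_le k_g27_k_T43 (grp_cons_le k_g31_k_T43 (grp_cons_le k_g20_k_T43 (grp_cons_le k_g26_k_T43 (grp_cons_le k_g15_k_T43 (grp_cons_le k_g11_k_T43 (grp_cons_le k_g12_k_T43 (grp_cons_le k_g8_k_T43 (grp_cons_le k_g1_k_T43 (grp_cons_le k_g2_k_T43 (grp_cons_le k_g3_k_T43 (grp_cons_le k_g4_k_T43 (grp_cons_le k_g5_k_T43 (grp_cons_le k_g6_k_T43 (grp_cons_le k_g7_k_T43 (grp_cons_le k_g58_k_T43 (grp_nil_le _))))))))))))))))))))) (Frames.cons k_T43_s5_F (Frames.cons k_T43_s6_F Frames.nil)) (okE_cons.2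 ⟨k_g73_ok, okE_nil _⟩) _

noncomputable def kt_c6_cnt_t : BT := (BT.fix (nat_lit 1) (BT.dif (nat_lit 3) (nat_lit 0) (BT.br (nat_lit 0) (nat_lit 0) [nat_lit 1] (BT.dead (nat_lit 2) (BT.img (nat_lit 1) (nat_lit 0) (BT.frm (nat_lit 0) (nat_lit 0x111111721) (nat_lit 0x30d11131721) [nat_lit 0, nat_lit 1, nat_lit 3] (BT.pln (nat_lit 0) (nat_lit 4) (BT.img (nat_lit 1) (nat_lit 2) (BT.and (nat_lit 1) (nat_lit 0) (BT.cnt (nat_lit 0))))))) (BT.dead (nat_lit 1) (BT.img (nat_lit 1) (nat_lit 0) (BT.frm (nat_lit 0) (nat_lit 0x111111721) (nat_lit 0x30b11151721) [nat_lit 0, nat_lit 1, nat_lit 3] (BT.pln (nat_lit 0) (nat_lit 3) (BT.img (nat_lit 1) (nat_lit 2) (BT.and (nat_lit 1) (nat_lit 0) (BT.cnt (nat_lit 0))))))) (BT.dead (nat_lit 5) (BT.img (nat_lit 1) (nat_lit 0) (BT.frm (nat_lit 0) (nat_lit 0x111111721) (nat_lit 0x11051721) [nat_lit 0, nat_lit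 1, nat_lit 3] (BT.pln (nat_lit 0) (nat_lit 5) (BT.img (nat_lit 1) (nat_lit 2) (BT.and (nat_lit 1) (nat_lit 0) (BT.cnt (nat_lit 0))))))) (BT.kid (nat_lit 0) (nat_lit 1) (BT.img (nat_lit 1) (nat_lit 0) (BT.img (nat_lit 1) (nat_lit 0) (BT.one (nat_lit 1) (nat_lit 0x280111111721) (nat_lit 0x280111111721) [nat_lit 0, nat_lit 1, nat_lit 2, nat_lit 4]))) BT.nil)))))))

theorem kt_c6_cnt : Cnt 21 (grp 21 k_E0) [k_g73] [k_g73] 0 0 0 0 5 :=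
  BT.sound kt_c6_cnt_P Known.nil (t := kt_c6_cnt_t) (d := 0) (by decide +kernel)

theorem kt_c6_ge : 5 ≤ Nat.card (grp 21 kt_c6_K) :=
  Ch.le_card_grp (k := 5) (L := (lab 21 5)) k_hn kt_c6_K_ok (c := (Ch.cons (nat_lit 0) [nat_lit 1] Ch.nil)) (by decide +kernel)

theorem kt_c6_eq : (grp 21 k_E0) ⊓ Subgroup.centralizer {Net.toPerm 21 k_g73} = grp 21 kt_c6_K :=
  cent_eq kt_c6_sym kt_c6_cnt kt_c6_ge

theorem kt_c6_card : Nat.card ↥((grp 21 k_E0) ⊓ Subgroup.centralizer {Net.toPerm 21 k_g73}) = 5 :=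
  card_cent kt_c6_sym kt_c6_cnt kt_c6_ge

theorem kt_c6_ord : orderOf (Net.toPerm 21 k_g73) = 5 :=
  orderOf_net k_hn k_hk k_g73_ok (by decide) (ps := [5]) (by set_option linter.unusedSimpArgs false in simp [Nat.primeFactorsList_ofNat]) (by decide +kernel)

theorem k_le76 : grp 21 kt_c7_K ≤ grp 21 k_E0 :=
  grp_le_of_memB k_hn k_hk k_E0_ok kt_c7_K_ok (ws := [nat_lit 0x251816120215]) (by decide +kernel)

theorem kt_c7_le : grp 21 kt_c7_K ≤ (grp 21 k_E0) :=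
  (k_le76.trans k_T43_s0.le)

theorem kt_c7_mem : Net.toPerm 21 k_g75 ∈ (grp 21 k_E0) :=
  kt_c7_le (toPerm_mem_grp (E := kt_c7_K) (List.Mem.head _))

theorem kt_c7_sym : Sym 21 (grp 21 k_E0) [k_g75] kt_c7_K 0 :=
  Sym.of_lab k_hn k_hk (okE_cons.2 ⟨k_g75_ok, okE_nil _⟩) kt_c7_K_ok kt_c7_le (kT := 0) (by decide +kernel)

noncomputable def kt_c7_cnt_L : List ℕ := [3, 8, k_T43_s5_O, 0, 0, 4, 9, k_T43_s6_O, 1, 0]

theorem kt_c7_cnt_P : Prob 21 5 (grp 21 k_E0) kt_c7_cnt_EG [k_g75] [k_g75] kt_c7_K kt_c7_cnt_L 0 0 :=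
  Sym.prob k_hn k_hk kt_c7_sym kt_c7_cnt_EG_ok (grp_cons_le k_g18_k_T43 (grp_cons_le k_g19_k_T43 (grp_cons_le k_g30_k_T43 (grp_cons_le k_g25_k_T43 (grp_cons_le k_g27_k_T43 (grp_cons_le k_g31_k_T43 (grp_cons_le k_g20_k_T43 (grp_cons_le k_g26_k_T43 (grp_cons_le k_g15_k_T43 (grp_cons_le k_g11_k_T43 (grp_cons_le k_g12_k_T43 (grp_cons_le k_g8_k_T43 (grp_cons_le k_g1_k_T43 (grp_cons_le k_g2_k_T43 (grp_cons_le k_g3_k_T43 (grp_cons_le k_g4_k_T43 (grp_cons_le k_g5_k_T43 (grp_cons_le k_g6_k_T43 (grp_cons_le k_g7_k_T43 (grp_cons_le k_g58_k_T43 (grp_nil_le _))))))))))))))))))))) (Frames.cons k_T43_s5_F (Frames.cons k_T43_s6_F Frames.nil)) (okE_cons.2 ⟨k_g75_ok, okE_nil _⟩) _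

noncomputable def kt_c7_cnt_t : BT := (BT.fix (nat_lit 1) (BT.dif (nat_lit 3) (nat_lit 0) (BT.br (nat_lit 0) (nat_lit 0) [nat_lit 1] (BT.dead (nat_lit 2) (BT.img (nat_lit 1) (nat_lit 0) (BT.frm (nat_lit 0) (nat_lit 0xb11111721) (nat_lit 0x10711131721) [nat_lit 0, nat_lit 1, nat_lit 3] (BT.pln (nat_lit 0) (nat_lit 4) (BT.img (nat_lit 1) (nat_lit 2) (BT.and (nat_lit 1) (nat_lit 0) (BT.cnt (nat_lit 0))))))) (BT.dead (nat_lit 1) (BT.img (nat_lit 1) (nat_lit 0) (BT.frm (nat_lit 0) (nat_lit 0xb11111721) (nat_lit 0x20711151721) [nat_lit 0, nat_lit 1, nat_lit 3] (BT.pln (nat_lit 0) (nat_lit 3) (BT.img (nat_lit 1) (nat_lit 2) (BT.and (nat_lit 1) (nat_lit 0) (BT.cnt (nat_lit 0))))))) (BT.dead (nat_lit 5) (BT.img (nat_lit 1) (nat_lit 0) (BT.frm (nat_lit 0) (nat_lit 0xb11111721) (nat_lit 0x111051721) [nat_lit 0, nat_lit 1, nat_lit 3] (BT.pln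 (nat_lit 0) (nat_lit 5) (BT.img (nat_lit 1) (nat_lit 2) (BT.and (nat_lit 1) (nat_lit 0) (BT.cnt (nat_lit 0))))))) (BT.kid (nat_lit 0) (nat_lit 1) (BT.img (nat_lit 1) (nat_lit 0) (BT.img (nat_lit 1) (nat_lit 0) (BT.one (nat_lit 1) (nat_lit 0x280b11111721) (nat_lit 0x280b11111721) [nat_lit 0, nat_lit 1, nat_lit 2, nat_lit 4]))) BT.nil)))))))

theorem kt_c7_cnt : Cnt 21 (grp 21 k_E0) [k_g75] [k_g75] 0 0 0 0 5 :=
  BT.sound kt_c7_cnt_P Known.nil (t := kt_c7_cnt_t) (d := 0) (by decide +kernel)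

theorem kt_c7_ge : 5 ≤ Nat.card (grp 21 kt_c7_K) :=
  Ch.le_card_grp (k := 5) (L := (lab 21 5)) k_hn kt_c7_K_ok (c := (Ch.cons (nat_lit 0) [nat_lit 1] Ch.nil)) (by decide +kernel)

theorem kt_c7_eq : (grp 21 k_E0) ⊓ Subgroup.centralizer {Net.toPerm 21 k_g75} = grp 21 kt_c7_K :=
  cent_eq kt_c7_sym kt_c7_cnt kt_c7_ge

theorem kt_c7_card : Nat.card ↥((grp 21 k_E0) ⊓ Subgroup.centralizer {Net.toPerm 21 k_g75}) = 5 :=
  card_cent kt_c7_sym kt_c7_cnt kt_c7_ge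

theorem kt_c7_ord : orderOf (Net.toPerm 21 k_g75) = 5 :=
  orderOf_net k_hn k_hk k_g75_ok (by decide) (ps := [5]) (by set_option linter.unusedSimpArgs false in simp [Nat.primeFactorsList_ofNat]) (by decide +kernel)

theorem k_le78 : grp 21 kt_c8_K ≤ grp 21 k_E0 :=
  grp_le_of_memB k_hn k_hk k_E0_ok kt_c8_K_ok (ws := [nat_lit 0x1d1811110112]) (by decide +kernel)

theorem kt_c8_le : grp 21 kt_c8_K ≤ (grp 21 k_E0) :=
  (k_le78.trans k_T43_s0.le)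

theorem kt_c8_mem : Net.toPerm 21 k_g77 ∈ (grp 21 k_E0) :=
  kt_c8_le (toPerm_mem_grp (E := kt_c8_K) (List.Mem.head _))

theorem kt_c8_sym : Sym 21 (grp 21 k_E0) [k_g77] kt_c8_K 0 :=
  Sym.of_lab k_hn k_hk (okE_cons.2 ⟨k_g77_ok, okE_nil _⟩) kt_c8_K_ok kt_c8_le (kT := 0) (by decide +kernel)

noncomputable def k_T43_s3_O : ℕ := (nat_lit 0x1000002000000040100000200)

theorem k_T43_s3_F : Frame 21 (grp 21 k_E0) 3 5 k_T43_s3_O 0 1 :=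
  Stab.frame k_hn k_T43_s3 (by decide +kernel)

noncomputable def kt_c8_cnt_L : List ℕ := [3, 5, k_T43_s3_O, 0, 0, 4, 9, k_T43_s4_O, 1, 0]

theorem kt_c8_cnt_P : Prob 21 5 (grp 21 k_E0) kt_c8_cnt_EG [k_g77] [k_g77] kt_c8_K kt_c8_cnt_L 0 0 :=
  Sym.prob k_hn k_hk kt_c8_sym kt_c8_cnt_EG_ok (grp_cons_le k_g18_k_T43 (grp_cons_le k_g19_k_T43 (grp_cons_le k_g30_k_T43 (grp_cons_le k_g25_k_T43 (grp_cons_le k_g27_k_T43 (grp_cons_le k_g31_k_T43 (grp_cons_le k_g20_k_T43 (grp_cons_le k_g26_k_T43 (grp_cons_le k_g15_k_T43 (grp_cons_le k_g11_k_T43 (grp_cons_le k_g12_k_T43 (grp_cons_le k_g8_k_T43 (grp_cons_le k_g1_k_T43 (grp_cons_le k_g2_k_T43 (grp_cons_le k_g3_k_T43 (grp_cons_le k_g4_k_T43 (grp_cons_le k_g5_k_T43 (grp_cons_le k_g6_k_T43 (grp_cons_le k_g7_k_T43 (grp_nil_le _)))))))))))))))))))) (Frames.cons k_T43_s3_F (Frames.cons k_T43_s4_F Frames.nil))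 (okE_cons.2 ⟨k_g77_ok, okE_nil _⟩) _

noncomputable def kt_c8_cnt_t : BT := (BT.br (nat_lit 2) (nat_lit 0) [nat_lit 1] (BT.dead (nat_lit 2) (BT.img (nat_lit 1) (nat_lit 0) (BT.img (nat_lit 1) (nat_lit 0) (BT.img (nat_lit 1) (nat_lit 0) (BT.img (nat_lit 1) (nat_lit 0) (BT.img (nat_lit 1) (nat_lit 0) (BT.frm (nat_lit 1) (nat_lit 852498) (nat_lit 0x70d02111113171917) [nat_lit 3, nat_lit 0, nat_lit 4, nat_lit 5] (BT.pln (nat_lit 0) (nat_lit 4) (BT.frm (nat_lit 0) (nat_lit 530) (nat_lit 0x2111113171917) [nat_lit 2, nat_lit 6, nat_lit 7] (BT.pln (nat_lit 0) (nat_lit 3) (BT.img (nat_lit 1) (nat_lit 0) (BT.img (nat_lit 1) (nat_lit 0) (BT.and (nat_lit 4) (nat_lit 0) (BT.cnt (nat_lit 0)))))))))))))) (BT.dead (nat_lit 1) (BT.img (nat_lit 1) (nat_lit 0) (BT.img (nat_lit 1) (nat_lit 0) (BT.img (nat_lit 1) (nat_lit 0) (BT.img (nat_lit 1) (nat_lit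 0) (BT.img (nat_lit 1) (nat_lit 0) (BT.frm (nat_lit 1) (nat_lit 852498) (nat_lit 0x7090b01120d19) [nat_lit 3, nat_lit 0, nat_lit 4, nat_lit 5] (BT.pln (nat_lit 0) (nat_lit 4) (BT.and (nat_lit 0) (nat_lit 4) (BT.cnt (nat_lit 0)))))))))) (BT.kid (nat_lit 0) (nat_lit 1) (BT.img (nat_lit 1) (nat_lit 0) (BT.img (nat_lit 1) (nat_lit 0) (BT.img (nat_lit 1) (nat_lit 0) (BT.img (nat_lit 1) (nat_lit 0) (BT.img (nat_lit 1) (nat_lit 0) (BT.one (nat_lit 1) (nat_lit 852498) (nat_lit 852498) [nat_lit 3, nat_lit 0, nat_lit 4, nat_lit 5])))))) BT.nil))))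

theorem kt_c8_cnt : Cnt 21 (grp 21 k_E0) [k_g77] [k_g77] 0 0 0 0 7 :=
  BT.sound kt_c8_cnt_P Known.nil (t := kt_c8_cnt_t) (d := 0) (by decide +kernel)

theorem kt_c8_ge : 7 ≤ Nat.card (grp 21 kt_c8_K) :=
  Ch.le_card_grp (k := 5) (L := (lab 21 5)) k_hn kt_c8_K_ok (c := (Ch.cons (nat_lit 0) [nat_lit 1] Ch.nil)) (by decide +kernel)

theorem kt_c8_eq : (grp 21 k_E0) ⊓ Subgroup.centralizer {Net.toPerm 21 k_g77} = grp 21 kt_c8_K :=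
  cent_eq kt_c8_sym kt_c8_cnt kt_c8_ge

theorem kt_c8_card : Nat.card ↥((grp 21 k_E0) ⊓ Subgroup.centralizer {Net.toPerm 21 k_g77}) = 7 :=
  card_cent kt_c8_sym kt_c8_cnt kt_c8_ge

theorem kt_c8_ord : orderOf (Net.toPerm 21 k_g77) = 7 :=
  orderOf_net k_hn k_hk k_g77_ok (by decide) (ps := [7]) (by set_option linter.unusedSimpArgs false in simp [Nat.primeFactorsList_ofNat]) (by decide +kernel)

theorem k_le80 : grp 21 kt_c9_K ≤ grp 21 k_E0 :=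
  grp_le_of_memB k_hn k_hk k_E0_ok kt_c9_K_ok (ws := [nat_lit 0x1d1f211715190317]) (by decide +kernel)

theorem kt_c9_le : grp 21 kt_c9_K ≤ (grp 21 k_E0) :=
  (k_le80.trans k_T43_s0.le)

theorem kt_c9_mem : Net.toPerm 21 k_g79 ∈ (grp 21 k_E0) :=
  kt_c9_le (toPerm_mem_grp (E := kt_c9_K) (List.Mem.head _))

theorem kt_c9_sym : Sym 21 (grp 21 k_E0) [k_g79] kt_c9_K 0 :=
  Sym.of_lab k_hn k_hk (okE_cons.2 ⟨k_g79_ok, okE_nil _⟩) kt_c9_K_ok kt_c9_le (kT := 0) (by decide +kernel)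

noncomputable def kt_c9_cnt_L : List ℕ := [3, 5, k_T43_s3_O, 0, 0, 4, 9, k_T43_s4_O, 1, 0]

theorem kt_c9_cnt_P : Prob 21 5 (grp 21 k_E0) kt_c9_cnt_EG [k_g79] [k_g79] kt_c9_K kt_c9_cnt_L 0 0 :=
  Sym.prob k_hn k_hk kt_c9_sym kt_c9_cnt_EG_ok (grp_cons_le k_g18_k_T43 (grp_cons_le k_g19_k_T43 (grp_cons_le k_g30_k_T43 (grp_cons_le k_g25_k_T43 (grp_cons_le k_g27_k_T43 (grp_cons_le k_g31_k_T43 (grp_cons_le k_g20_k_T43 (grp_cons_le k_g26_k_T43 (grp_cons_le k_g15_k_T43 (grp_cons_le k_g11_k_T43 (grp_cons_le k_g12_k_T43 (grp_cons_le k_g8_k_T43 (grp_cons_le k_g1_k_T43 (grp_cons_le k_g2_k_T43 (grp_cons_le k_g3_k_T43 (grp_cons_le k_g4_k_T43 (grp_cons_le k_g5_k_T43 (grp_cons_le k_g6_k_T43 (grp_cons_le k_g7_k_T43 (grp_nil_le _)))))))))))))))))))) (Frames.cons k_T43_s3_F (Frames.cons k_T43_s4_F Frames.nil)) (okE_cons.2 ⟨k_g79_ok, okE_nil _⟩) _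

noncomputable def kt_c9_cnt_t : BT := (BT.br (nat_lit 2) (nat_lit 0) [nat_lit 1] (BT.dead (nat_lit 2) (BT.img (nat_lit 1) (nat_lit 0) (BT.img (nat_lit 1) (nat_lit 0) (BT.img (nat_lit 1) (nat_lit 0) (BT.frm (nat_lit 1) (nat_lit 0x70b021116) (nat_lit 0x70d0215171917) [nat_lit 1, nat_lit 0, nat_lit 2, nat_lit 3] (BT.pln (nat_lit 0) (nat_lit 4) (BT.frm (nat_lit 0) (nat_lit 135446) (nat_lit 0x215171917) [nat_lit 2, nat_lit 4, nat_lit 5] (BT.pln (nat_lit 0) (nat_lit 3) (BT.img (nat_lit 1) (nat_lit 0) (BT.img (nat_lit 1) (nat_lit 0) (BT.img (nat_lit 1) (nat_lit 0) (BT.img (nat_lit 1) (nat_lit 0) (BT.img (nat_lit 1) (nat_lit 0) (BT.img (nat_lit 1) (nat_lit 0) (BT.and (nat_lit 8) (nat_lit 0) (BT.cnt (nat_lit 0)))))))))))))))) (BT.dead (nat_lit 1) (BT.img (nat_lit 1) (nat_lit 0) (BT.img (nat_lit 1) (nat_lit 0) (BT.img (nat_lit 1) (nat_lit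 0) (BT.frm (nat_lit 1) (nat_lit 0x70b021116) (nat_lit 0x70d02110319) [nat_lit 1, nat_lit 0, nat_lit 2, nat_lit 3] (BT.pln (nat_lit 0) (nat_lit 4) (BT.img (nat_lit 1) (nat_lit 2) (BT.img (nat_lit 1) (nat_lit 0) (BT.img (nat_lit 1) (nat_lit 0) (BT.and (nat_lit 3) (nat_lit 0) (BT.cnt (nat_lit 0))))))))))) (BT.kid (nat_lit 0) (nat_lit 1) (BT.img (nat_lit 1) (nat_lit 0) (BT.img (nat_lit 1) (nat_lit 0) (BT.img (nat_lit 1) (nat_lit 0) (BT.one (nat_lit 1) (nat_lit 0x70b021116) (nat_lit 0x70b021116) [nat_lit 1, nat_lit 0, nat_lit 2, nat_lit 3])))) BT.nil))))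

theorem kt_c9_cnt : Cnt 21 (grp 21 k_E0) [k_g79] [k_g79] 0 0 0 0 7 :=
  BT.sound kt_c9_cnt_P Known.nil (t := kt_c9_cnt_t) (d := 0) (by decide +kernel)

theorem kt_c9_ge : 7 ≤ Nat.card (grp 21 kt_c9_K) :=
  Ch.le_card_grp (k := 5) (L := (lab 21 5)) k_hn kt_c9_K_ok (c := (Ch.cons (nat_lit 0) [nat_lit 1] Ch.nil)) (by decide +kernel)

theorem kt_c9_eq : (grp 21 k_E0) ⊓ Subgroup.centralizer {Net.toPerm 21 k_g79} = grp 21 kt_c9_K :=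
  cent_eq kt_c9_sym kt_c9_cnt kt_c9_ge

theorem kt_c9_card : Nat.card ↥((grp 21 k_E0) ⊓ Subgroup.centralizer {Net.toPerm 21 k_g79}) = 7 :=
  card_cent kt_c9_sym kt_c9_cnt kt_c9_ge

theorem kt_c9_ord : orderOf (Net.toPerm 21 k_g79) = 7 :=
  orderOf_net k_hn k_hk k_g79_ok (by decide) (ps := [7]) (by set_option linter.unusedSimpArgs false in simp [Nat.primeFactorsList_ofNat]) (by decide +kernel)

noncomputable def kt_xs : List Net := [Net.nil, k_g44, k_g55, k_g62, k_g66, k_g70, k_g73, k_g75, k_g77, k_g79]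

noncomputable def kt_cs : List ℕ := [20160, 64, 9, 16, 16, 16, 5, 5, 7, 7]

noncomputable def kt_os : List ℕ := [1, 2, 3, 4, 4, 4, 5, 5, 7, 7]

theorem kt_reps : Reps 21 (grp 21 k_E0) kt_xs kt_cs kt_os :=
  (Reps.cons rfl (one_mem _) (card_cent_nil k_card0) orderOf_one (Reps.cons k_g44_ok kt_c1_mem kt_c1_card kt_c1_ord (Reps.cons k_g55_ok kt_c2_mem kt_c2_card kt_c2_ord (Reps.cons k_g62_ok kt_c3_mem kt_c3_card kt_c3_ord (Reps.cons k_g66_ok kt_c4_mem kt_c4_card kt_c4_ord (Reps.cons k_g70_ok kt_c5_mem kt_c5_card kt_c5_ord (Reps.cons k_g73_ok kt_c6_mem kt_c6_card kt_c6_ord (Reps.cons k_g75_ok kt_c7_mem kt_c7_card kt_c7_ord (Reps.cons k_g77_ok kt_c8_mem kt_c8_card kt_c8_ord (Reps.cons k_g79_ok kt_c9_mem kt_c9_card kt_c9_ord Reps.nil))))))))))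

noncomputable def kt_nc4_3_cnt_L : List ℕ := [4, 9, k_T43_s4_O, 1, 0]

theorem kt_nc4_3_cnt_P : Prob 21 5 (grp 21 k_E0) kt_nc4_3_cnt_EG [k_g66] [k_g62] kt_c3_K kt_nc4_3_cnt_L 0 0 :=
  Sym.prob k_hn k_hk kt_c3_sym kt_nc4_3_cnt_EG_ok (grp_cons_le k_g30_k_T43 (grp_cons_le k_g25_k_T43 (grp_cons_le k_g27_k_T43 (grp_cons_le k_g31_k_T43 (grp_cons_le k_g20_k_T43 (grp_cons_le k_g26_k_T43 (grp_cons_le k_g18_k_T43 (grp_cons_le k_g19_k_T43 (grp_cons_le k_g15_k_T43 (grp_cons_le k_g11_k_T43 (grp_cons_le k_g12_k_T43 (grp_cons_le k_g8_k_T43 (grp_cons_le k_g1_k_T43 (grp_cons_le k_g2_k_T43 (grp_cons_le k_g3_k_T43 (grp_cons_le k_g4_k_T43 (grp_cons_le k_g5_k_T43 (grp_cons_le k_g6_k_T43 (grp_cons_le k_g7_k_T43 (grp_nil_le _)))))))))))))))))))) (Frames.cons k_T43_s4_F Frames.nil) (okE_cons.2 ⟨k_g66_ok, okE_nil _⟩) _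

noncomputable def kt_nc4_3_cnt_t : BT := (BT.fix (nat_lit 257) (BT.fix (nat_lit 1) (BT.dif (nat_lit 1) (nat_lit 0) (BT.br (nat_lit 0) (nat_lit 1) [nat_lit 1, nat_lit 3] (BT.dead (nat_lit 3) (BT.dif (nat_lit 6) (nat_lit 3) (BT.br (nat_lit 0) (nat_lit 5) [nat_lit 5, nat_lit 7] (BT.dead (nat_lit 2) (BT.img (nat_lit 1) (nat_lit 2) (BT.frm (nat_lit 0) (nat_lit 0x305090e1115) (nat_lit 0x3050d110f18) [nat_lit 1, nat_lit 0, nat_lit 3, nat_lit 5] (BT.pln (nat_lit 0) (nat_lit 4) (BT.img (nat_lit 1) (nat_lit 3) (BT.img (nat_lit 1) (nat_lit 0) (BT.and (nat_lit 2) (nat_lit 0) (BT.cnt (nat_lit 0)))))))) (BT.dead (nat_lit 4) (BT.img (nat_lit 1) (nat_lit 2) (BT.frm (nat_lit 0) (nat_lit 0x305090e1115) (nat_lit 0x3070d110f18) [nat_lit 1, nat_lit 0, nat_lit 3, nat_lit 5] (BT.pln (nat_lit 0) (nat_lit 4) (BT.img (nat_lit 1) (nat_lit 3) (BT.and (nat_lit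 1) (nat_lit 0) (BT.cnt (nat_lit 0))))))) (BT.dead (nat_lit 1) (BT.img (nat_lit 1) (nat_lit 2) (BT.frm (nat_lit 0) (nat_lit 0x305090e1115) (nat_lit 0x90d110f18) [nat_lit 1, nat_lit 0, nat_lit 3, nat_lit 5] (BT.pln (nat_lit 0) (nat_lit 4) (BT.img (nat_lit 1) (nat_lit 3) (BT.img (nat_lit 1) (nat_lit 0) (BT.and (nat_lit 2) (nat_lit 0) (BT.cnt (nat_lit 0)))))))) (BT.dead (nat_lit 0) (BT.img (nat_lit 1) (nat_lit 2) (BT.frm (nat_lit 0) (nat_lit 0x305090e1115) (nat_lit 0xb0d110f18) [nat_lit 1, nat_lit 0, nat_lit 3, nat_lit 5] (BT.pln (nat_lit 0) (nat_lit 4) (BT.img (nat_lit 1) (nat_lit 3) (BT.and (nat_lit 1) (nat_lit 0) (BT.cnt (nat_lit 0))))))) BT.nil)))))) BT.nil)))))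

theorem kt_nc4_3_cnt : Cnt 21 (grp 21 k_E0) [k_g66] [k_g62] 0 0 0 0 0 :=
  BT.sound kt_nc4_3_cnt_P Known.nil (t := kt_nc4_3_cnt_t) (d := 0) (by decide +kernel)

theorem kt_nc4_3 : ¬ CjIn (grp 21 k_E0) (Net.toPerm 21 k_g66) (Net.toPerm 21 k_g62) :=
  not_cjIn kt_nc4_3_cnt

noncomputable def kt_nc5_3_cnt_L : List ℕ := [4, 9, k_T43_s4_O, 1, 0]

theorem kt_nc5_3_cnt_P : Prob 21 5 (grp 21 k_E0) kt_nc5_3_cnt_EG [k_g70] [k_g62] kt_c3_K kt_nc5_3_cnt_L 0 0 :=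
  Sym.prob k_hn k_hk kt_c3_sym kt_nc5_3_cnt_EG_ok (grp_cons_le k_g30_k_T43 (grp_cons_le k_g25_k_T43 (grp_cons_le k_g27_k_T43 (grp_cons_le k_g31_k_T43 (grp_cons_le k_g20_k_T43 (grp_cons_le k_g26_k_T43 (grp_cons_le k_g18_k_T43 (grp_cons_le k_g19_k_T43 (grp_cons_le k_g15_k_T43 (grp_cons_le k_g11_k_T43 (grp_cons_le k_g12_k_T43 (grp_cons_le k_g8_k_T43 (grp_cons_le k_g1_k_T43 (grp_cons_le k_g2_k_T43 (grp_cons_le k_g3_k_T43 (grp_cons_le k_g4_k_T43 (grp_cons_le k_g5_k_T43 (grp_cons_le k_g6_k_T43 (grp_cons_le k_g7_k_T43 (grp_nil_le _)))))))))))))))))))) (Frames.cons k_T43_s4_F Frames.nil) (okE_cons.2 ⟨k_g70_ok, okE_nil _⟩) _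

noncomputable def kt_nc5_3_cnt_t : BT := (BT.fix (nat_lit 257) (BT.fix (nat_lit 1) (BT.dif (nat_lit 1) (nat_lit 0) (BT.br (nat_lit 0) (nat_lit 3) [nat_lit 1, nat_lit 3] (BT.dead (nat_lit 3) (BT.dif (nat_lit 6) (nat_lit 3) (BT.br (nat_lit 0) (nat_lit 0) [nat_lit 5, nat_lit 7] (BT.dead (nat_lit 4) (BT.img (nat_lit 1) (nat_lit 2) (BT.frm (nat_lit 0) (nat_lit 0x509110f18) (nat_lit 0x3070d110f18) [nat_lit 1, nat_lit 0, nat_lit 3, nat_lit 5] (BT.pln (nat_lit 0) (nat_lit 4) (BT.img (nat_lit 1) (nat_lit 3) (BT.and (nat_lit 1) (nat_lit 0) (BT.cnt (nat_lit 0))))))) (BT.dead (nat_lit 2) (BT.img (nat_lit 1) (nat_lit 2) (BT.frm (nat_lit 0) (nat_lit 0x509110f18) (nat_lit 0x3050d110f18) [nat_lit 1, nat_lit 0, nat_lit 3, nat_lit 5] (BT.pln (nat_lit 0) (nat_lit 5) (BT.img (nat_lit 1) (nat_lit 3) (BT.and (nat_lit 1) (nat_lit 0) (BT.cnt (nat_lit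 0))))))) (BT.dead (nat_lit 1) (BT.img (nat_lit 1) (nat_lit 2) (BT.frm (nat_lit 0) (nat_lit 0x509110f18) (nat_lit 0x90d110f18) [nat_lit 1, nat_lit 0, nat_lit 3, nat_lit 5] (BT.pln (nat_lit 0) (nat_lit 5) (BT.img (nat_lit 1) (nat_lit 3) (BT.img (nat_lit 1) (nat_lit 0) (BT.and (nat_lit 2) (nat_lit 0) (BT.cnt (nat_lit 0)))))))) (BT.dead (nat_lit 0) (BT.img (nat_lit 1) (nat_lit 2) (BT.frm (nat_lit 0) (nat_lit 0x509110f18) (nat_lit 0xb0d110f18) [nat_lit 1, nat_lit 0, nat_lit 3, nat_lit 5] (BT.pln (nat_lit 0) (nat_lit 4) (BT.img (nat_lit 1) (nat_lit 3) (BT.and (nat_lit 1) (nat_lit 0) (BT.cnt (nat_lit 0))))))) BT.nil)))))) BT.nil)))))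

theorem kt_nc5_3_cnt : Cnt 21 (grp 21 k_E0) [k_g70] [k_g62] 0 0 0 0 0 :=
  BT.sound kt_nc5_3_cnt_P Known.nil (t := kt_nc5_3_cnt_t) (d := 0) (by decide +kernel)

theorem kt_nc5_3 : ¬ CjIn (grp 21 k_E0) (Net.toPerm 21 k_g70) (Net.toPerm 21 k_g62) :=
  not_cjIn kt_nc5_3_cnt

noncomputable def kt_nc5_4_cnt_L : List ℕ := [4, 9, k_T43_s4_O, 1, 0]

theorem kt_nc5_4_cnt_P : Prob 21 5 (grp 21 k_E0) kt_nc5_4_cnt_EG [k_g70] [k_g66] kt_c4_K kt_nc5_4_cnt_L 0 0 :=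
  Sym.prob k_hn k_hk kt_c4_sym kt_nc5_4_cnt_EG_ok (grp_cons_le k_g30_k_T43 (grp_cons_le k_g25_k_T43 (grp_cons_le k_g27_k_T43 (grp_cons_le k_g31_k_T43 (grp_cons_le k_g20_k_T43 (grp_cons_le k_g26_k_T43 (grp_cons_le k_g18_k_T43 (grp_cons_le k_g19_k_T43 (grp_cons_le k_g15_k_T43 (grp_cons_le k_g11_k_T43 (grp_cons_le k_g12_k_T43 (grp_cons_le k_g8_k_T43 (grp_cons_le k_g1_k_T43 (grp_cons_le k_g2_k_T43 (grp_cons_le k_g3_k_T43 (grp_cons_le k_g4_k_T43 (grp_cons_le k_g5_k_T43 (grp_cons_le k_g6_k_T43 (grp_cons_le k_g7_k_T43 (grp_nil_le _)))))))))))))))))))) (Frames.cons k_T43_s4_F Frames.nil) (okE_cons.2 ⟨k_g70_ok, okE_nil _⟩) _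

noncomputable def kt_nc5_4_cnt_t : BT := (BT.fix (nat_lit 257) (BT.fix (nat_lit 1) (BT.dif (nat_lit 1) (nat_lit 0) (BT.br (nat_lit 0) (nat_lit 3) [nat_lit 1, nat_lit 3] (BT.dead (nat_lit 1) (BT.dif (nat_lit 6) (nat_lit 3) (BT.br (nat_lit 0) (nat_lit 0) [nat_lit 5, nat_lit 7] (BT.dead (nat_lit 5) (BT.img (nat_lit 1) (nat_lit 2) (BT.frm (nat_lit 0) (nat_lit 0x509110f18) (nat_lit 0x305090e1115) [nat_lit 1, nat_lit 0, nat_lit 3, nat_lit 5] (BT.pln (nat_lit 0) (nat_lit 4) (BT.img (nat_lit 1) (nat_lit 3) (BT.img (nat_lit 1) (nat_lit 0) (BT.and (nat_lit 2) (nat_lit 0) (BT.cnt (nat_lit 0)))))))) (BT.dead (nat_lit 13) (BT.img (nat_lit 1) (nat_lit 2) (BT.frm (nat_lit 0) (nat_lit 0x509110f18) (nat_lit 0x5070e1115) [nat_lit 1, nat_lit 0, nat_lit 3, nat_lit 5] (BT.pln (nat_lit 0) (nat_lit 4) (BT.img (nat_lit 1) (nat_lit 3) (BT.img (nat_lit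 1) (nat_lit 0) (BT.and (nat_lit 2) (nat_lit 0) (BT.cnt (nat_lit 0)))))))) (BT.dead (nat_lit 17) (BT.img (nat_lit 1) (nat_lit 2) (BT.frm (nat_lit 0) (nat_lit 0x509110f18) (nat_lit 0x1030e1115) [nat_lit 1, nat_lit 0, nat_lit 3, nat_lit 5] (BT.pln (nat_lit 0) (nat_lit 4) (BT.img (nat_lit 1) (nat_lit 3) (BT.and (nat_lit 1) (nat_lit 0) (BT.cnt (nat_lit 0))))))) (BT.dead (nat_lit 9) (BT.img (nat_lit 1) (nat_lit 2) (BT.frm (nat_lit 0) (nat_lit 0x509110f18) (nat_lit 921877) [nat_lit 1, nat_lit 0, nat_lit 3, nat_lit 5] (BT.pln (nat_lit 0) (nat_lit 4) (BT.img (nat_lit 1) (nat_lit 3) (BT.and (nat_lit 1) (nat_lit 0) (BT.cnt (nat_lit 0))))))) BT.nil)))))) BT.nil)))))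

theorem kt_nc5_4_cnt : Cnt 21 (grp 21 k_E0) [k_g70] [k_g66] 0 0 0 0 0 :=
  BT.sound kt_nc5_4_cnt_P Known.nil (t := kt_nc5_4_cnt_t) (d := 0) (by decide +kernel)

theorem kt_nc5_4 : ¬ CjIn (grp 21 k_E0) (Net.toPerm 21 k_g70) (Net.toPerm 21 k_g66) :=
  not_cjIn kt_nc5_4_cnt

noncomputable def kt_nc7_6_cnt_L : List ℕ := [3, 8, k_T43_s5_O, 0, 0, 4, 9, k_T43_s6_O, 1, 0]

theorem kt_nc7_6_cnt_P : Prob 21 5 (grp 21 k_E0) kt_nc7_6_cnt_EG [k_g75] [k_g73] kt_c6_K kt_nc7_6_cnt_L 0 0 :=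
  Sym.prob k_hn k_hk kt_c6_sym kt_nc7_6_cnt_EG_ok (grp_cons_le k_g18_k_T43 (grp_cons_le k_g19_k_T43 (grp_cons_le k_g30_k_T43 (grp_cons_le k_g25_k_T43 (grp_cons_le k_g27_k_T43 (grp_cons_le k_g31_k_T43 (grp_cons_le k_g20_k_T43 (grp_cons_le k_g26_k_T43 (grp_cons_le k_g15_k_T43 (grp_cons_le k_g11_k_T43 (grp_cons_le k_g12_k_T43 (grp_cons_le k_g8_k_T43 (grp_cons_le k_g1_k_T43 (grp_cons_le k_g2_k_T43 (grp_cons_le k_g3_k_T43 (grp_cons_le k_g4_k_T43 (grp_cons_le k_g5_k_T43 (grp_cons_le k_g6_k_T43 (grp_cons_le k_g7_k_T43 (grp_cons_le k_g58_k_T43 (grp_nil_le _))))))))))))))))))))) (Frames.cons k_T43_s5_F (Frames.cons k_T43_s6_F Frames.nil)) (okE_cons.2 ⟨k_g75_ok, okE_nil _⟩) _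

noncomputable def kt_nc7_6_cnt_t : BT := (BT.fix (nat_lit 1) (BT.dif (nat_lit 3) (nat_lit 0) (BT.br (nat_lit 0) (nat_lit 0) [nat_lit 1] (BT.dead (nat_lit 0) (BT.img (nat_lit 1) (nat_lit 0) (BT.img (nat_lit 1) (nat_lit 0) (BT.frm (nat_lit 1) (nat_lit 0x280b11111721) (nat_lit 0x280111111721) [nat_lit 0, nat_lit 1, nat_lit 2, nat_lit 4] (BT.pln (nat_lit 0) (nat_lit 4) (BT.img (nat_lit 1) (nat_lit 2) (BT.and (nat_lit 1) (nat_lit 0) (BT.cnt (nat_lit 0)))))))) (BT.dead (nat_lit 2) (BT.img (nat_lit 1) (nat_lit 0) (BT.frm (nat_lit 0) (nat_lit 0xb11111721) (nat_lit 0x30d11131721) [nat_lit 0, nat_lit 1, nat_lit 3] (BT.pln (nat_lit 0) (nat_lit 4) (BT.img (nat_lit 1) (nat_lit 2) (BT.and (nat_lit 1) (nat_lit 0) (BT.cnt (nat_lit 0))))))) (BT.dead (nat_lit 1) (BT.img (nat_lit 1) (nat_lit 0) (BT.frm (nat_lit 0) (nat_lit 0xb11111721) (nat_lit 0x30b11151721)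 [nat_lit 0, nat_lit 1, nat_lit 3] (BT.pln (nat_lit 0) (nat_lit 3) (BT.img (nat_lit 1) (nat_lit 2) (BT.and (nat_lit 1) (nat_lit 0) (BT.cnt (nat_lit 0))))))) (BT.dead (nat_lit 5) (BT.img (nat_lit 1) (nat_lit 0) (BT.frm (nat_lit 0) (nat_lit 0xb11111721) (nat_lit 0x11051721) [nat_lit 0, nat_lit 1, nat_lit 3] (BT.pln (nat_lit 0) (nat_lit 5) (BT.img (nat_lit 1) (nat_lit 2) (BT.and (nat_lit 1) (nat_lit 0) (BT.cnt (nat_lit 0))))))) BT.nil)))))))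

theorem kt_nc7_6_cnt : Cnt 21 (grp 21 k_E0) [k_g75] [k_g73] 0 0 0 0 0 :=
  BT.sound kt_nc7_6_cnt_P Known.nil (t := kt_nc7_6_cnt_t) (d := 0) (by decide +kernel)

theorem kt_nc7_6 : ¬ CjIn (grp 21 k_E0) (Net.toPerm 21 k_g75) (Net.toPerm 21 k_g73) :=
  not_cjIn kt_nc7_6_cnt

noncomputable def kt_nc9_8_cnt_L : List ℕ := [2, 3, k_T43_s2_O, 0, 0]

theorem kt_nc9_8_cnt_P : Prob 21 5 (grp 21 k_E0) kt_nc9_8_cnt_EG [k_g79] [k_g77] kt_c8_K kt_nc9_8_cnt_L 0 0 :=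
  Sym.prob k_hn k_hk kt_c8_sym kt_nc9_8_cnt_EG_ok (grp_cons_le k_g15_k_T43 (grp_cons_le k_g11_k_T43 (grp_cons_le k_g12_k_T43 (grp_cons_le k_g18_k_T43 (grp_cons_le k_g19_k_T43 (grp_cons_le k_g30_k_T43 (grp_cons_le k_g25_k_T43 (grp_cons_le k_g27_k_T43 (grp_cons_le k_g31_k_T43 (grp_cons_le k_g20_k_T43 (grp_cons_le k_g26_k_T43 (grp_cons_le k_g8_k_T43 (grp_cons_le k_g1_k_T43 (grp_cons_le k_g2_k_T43 (grp_cons_le k_g3_k_T43 (grp_cons_le k_g4_k_T43 (grp_cons_le k_g5_k_T43 (grp_cons_le k_g6_k_T43 (grp_cons_le k_g7_k_T43 (grp_nil_le _)))))))))))))))))))) (Frames.cons k_T43_s2_F Frames.nil) (okE_cons.2 ⟨k_g79_ok, okE_nil _⟩) _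

noncomputable def kt_nc9_8_cnt_t : BT := (BT.br (nat_lit 2) (nat_lit 0) [nat_lit 1] (BT.dead (nat_lit 2) (BT.img (nat_lit 1) (nat_lit 0) (BT.frm (nat_lit 0) (nat_lit 262) (nat_lit 0x10103171917) [nat_lit 0, nat_lit 1] (BT.pln (nat_lit 0) (nat_lit 2) (BT.img (nat_lit 1) (nat_lit 2) (BT.img (nat_lit 1) (nat_lit 0) (BT.and (nat_lit 2) (nat_lit 0) (BT.cnt (nat_lit 0)))))))) (BT.dead (nat_lit 1) (BT.img (nat_lit 1) (nat_lit 0) (BT.frm (nat_lit 0) (nat_lit 262) (nat_lit 135961) [nat_lit 0, nat_lit 1] (BT.pln (nat_lit 0) (nat_lit 2) (BT.img (nat_lit 1) (nat_lit 2) (BT.img (nat_lit 1) (nat_lit 0) (BT.and (nat_lit 2) (nat_lit 0) (BT.cnt (nat_lit 0)))))))) (BT.dead (nat_lit 0) (BT.img (nat_lit 1) (nat_lit 0) (BT.frm (nat_lit 0) (nat_lit 262) (nat_lit 2) [nat_lit 0, nat_lit 1] (BT.pln (nat_lit 0) (nat_lit 2) (BT.img (nat_lit 1) (nat_lit 2)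 (BT.img (nat_lit 1) (nat_lit 0) (BT.and (nat_lit 2) (nat_lit 0) (BT.cnt (nat_lit 0)))))))) BT.nil))))

theorem kt_nc9_8_cnt : Cnt 21 (grp 21 k_E0) [k_g79] [k_g77] 0 0 0 0 0 :=
  BT.sound kt_nc9_8_cnt_P Known.nil (t := kt_nc9_8_cnt_t) (d := 0) (by decide +kernel)

theorem kt_nc9_8 : ¬ CjIn (grp 21 k_E0) (Net.toPerm 21 k_g79) (Net.toPerm 21 k_g77) :=
  not_cjIn kt_nc9_8_cnt

theorem kt_exc : Exc 21 (grp 21 k_E0) kt_xs [9008, 7006, 5004, 5003, 4003] :=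
  (Exc.cons 9 8 (by decide) kt_nc9_8 (Exc.cons 7 6 (by decide) kt_nc7_6 (Exc.cons 5 4 (by decide) kt_nc5_4 (Exc.cons 5 3 (by decide) kt_nc5_3 (Exc.cons 4 3 (by decide) kt_nc4_3 Exc.nil)))))

theorem kt : Table 21 (grp 21 k_E0) kt_xs kt_cs kt_os :=
  Reps.table (D := 1) k_hn k_hk kt_reps kt_exc k_card0 (by decide +kernel)

end Cfsg.Agent.H43.K34
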