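import Cfsg.Agent.H44.K5Defs

/-! Project K5, piece HERM (insurance copy). -/

set_option autoImplicit false

namespace Cfsg.Agent.H43.K5Herm

open Matrix

theorem ent {m : ℕ} (W B : Matrix (Fin (m + 1)) (Fin (m + 1)) ℤ) :
    (Wᵀ * B * W) 0 0 = (fun i => W i 0) ⬝ᵥ B *ᵥ (fun i => W i 0) := by
  rw [Matrix.mul_assoc]
  simp [Matrix.mul_apply, dotProduct, mulVec]

theorem quad {m : ℕ} (B : Matrix (Fin (m + 1)) (Fin (m + 1)) ℤ) (hB : ∀ i j, B i j = B j i) (k : ℤ)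
    (y : Fin m → ℤ) : B 0 0 * ((Fin.cons k y : Fin (m + 1) → ℤ) ⬝ᵥ B *ᵥ (Fin.cons k y)) =
      (k * B 0 0 + ∑ j, B 0 j.succ * y j) ^ 2 +
        y ⬝ᵥ (Matrix.of fun i j : Fin m => B 0 0 * B i.succ j.succ - B 0 i.succ * B 0 j.succ) *ᵥ y := by
  have h1 : y ⬝ᵥ (Matrix.of fun i j : Fin m => B 0 0 * B i.succ j.succ - B 0 i.succ * B 0 j.succ) *ᵥ y =
      B 0 0 * (∑ i, y i * ∑ j, B i.succ j.succ * y j) - (∑ j, B 0 j.succ * y j) ^ 2 := by
    simp only [dotProduct, mulVec, Matrix.of_apply, sq, Finset.sum_mul, Finset.mul_sum,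
      ← Finset.sum_sub_distrib]
    exact Finset.sum_congr rfl fun i _ => Finset.sum_congr rfl fun j _ => by ring
  have h2 : (Fin.cons k y : Fin (m + 1) → ℤ) ⬝ᵥ B *ᵥ (Fin.cons k y) =
      k * (B 0 0 * k + ∑ j, B 0 j.succ * y j) + (k * ∑ j, B 0 j.succ * y j +
        ∑ i, y i * ∑ j, B i.succ j.succ * y j) := by
    simp only [dotProduct, mulVec, Fin.sum_univ_succ, Fin.cons_zero, Fin.cons_succ]
    congr 1
    rw [Finset.mul_sum, ← Finset.sum_add_distrib]
    exact Finset.sum_congr rfl fun i _ => by rw [hB i.succ 0]; ring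
  rw [h1, h2]; ring

theorem herm : Cfsg.Agent.H44.K5.HermStmt := by
  intro n
  induction n with
  | zero => intro A _ _; exact ⟨1, by simp, by simp⟩
  | succ n ih =>
  intro A hA hpos
  classical
  have hcol : ∀ W : Matrix (Fin (n + 2)) (Fin (n + 2)) ℤ, IsUnit W.det → 0 < (Wᵀ * A * W) 0 0 := by
    intro W hW
    rw [ent]
    refine hpos _ fun h => hW.ne_zero (det_eq_zero_of_column_eq_zero 0 fun i => congrFun h i)
  have hex : ∃ c : ℕ, ∃ W : Matrix (Fin (n + 2)) (Fin (n + 2)) ℤ, IsUnit W.det ∧ (Wᵀ * A * W) 0 0 = c :=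
    ⟨_, 1, by simp, (Int.toNat_of_nonneg (hcol 1 (by simp)).le).symm⟩
  obtain ⟨U, hU, hUc⟩ := Nat.find_spec hex
  refine ⟨U, hU, ?_⟩
  have ha := hcol U hU
  have hmin : ∀ W : Matrix (Fin (n + 2)) (Fin (n + 2)) ℤ, IsUnit W.det →
      (Uᵀ * A * U) 0 0 ≤ (Wᵀ * (Uᵀ * A * U) * W) 0 0 := by
    intro W hW
    have h1 : IsUnit (U * W).det := by rw [det_mul]; exact hU.mul hW
    have h2 : Wᵀ * (Uᵀ * A * U) * W = (U * W)ᵀ * A * (U * W) := by
      simp [transpose_mul, Matrix.mul_assoc]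
    have h3 := Nat.find_min' hex ⟨U * W, h1, (Int.toNat_of_nonneg (hcol _ h1).le).symm⟩
    rw [h2, hUc, ← Int.toNat_of_nonneg (hcol _ h1).le]
    exact_mod_cast h3
  have hdet : (Uᵀ * A * U).det = A.det := by
    rw [det_mul, det_mul, det_transpose]
    rcases Int.isUnit_iff.1 hU with e | e <;> rw [e] <;> ring
  have hsym : ∀ i j, (Uᵀ * A * U) i j = (Uᵀ * A * U) j i := fun i j => by
    have : (Uᵀ * A * U)ᵀ = Uᵀ * A * U := by simp [transpose_mul, hA, Matrix.mul_assoc]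
    exact (congrFun (congrFun this j) i)
  have hp : ∀ x : Fin (n + 2) → ℤ, x ≠ 0 → 0 < x ⬝ᵥ (Uᵀ * A * U) *ᵥ x := fun x hx => by
    have h1 : x ⬝ᵥ (Uᵀ * A * U) *ᵥ x = (U *ᵥ x) ⬝ᵥ A *ᵥ (U *ᵥ x) := by
      rw [← mulVec_mulVec, ← mulVec_mulVec, dotProduct_mulVec, vecMul_transpose]
    rw [h1]
    exact hpos _ fun h => hx (eq_zero_of_mulVec_eq_zero hU.ne_zero h)
  rw [← hdet]
  generalize Uᵀ * A * U = B at ha hmin hsym hp
  set a := B 0 0 with hadef
  set S : Matrix (Fin (n + 1)) (Fin (n + 1)) ℤ :=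
    Matrix.of fun i j => a * B i.succ j.succ - B 0 i.succ * B 0 j.succ with hS
  have hSp : ∀ y : Fin (n + 1) → ℤ, y ≠ 0 → 0 < y ⬝ᵥ S *ᵥ y := fun y hy => by
    have h1 := quad B hsym (-∑ j, B 0 j.succ * y j) (a • y)
    have h2 := hp (Fin.cons (-∑ j, B 0 j.succ * y j) (a • y)) fun h => hy (funext fun i => by
      have := congrFun h i.succ
      simpa [ha.ne'] using this)
    have h3 : ∑ j, B 0 j.succ * (a • y) j = a * ∑ j, B 0 j.succ * y j := by
      rw [Finset.mul_sum]; exact Finset.sum_congr rfl fun j _ => by simp; ring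
    rw [h3, ← hadef, ← hS, mulVec_smul, smul_dotProduct, dotProduct_smul, smul_eq_mul, smul_eq_mul] at h1
    have h4 : 0 < a * (a * (y ⬝ᵥ S *ᵥ y)) := by nlinarith [mul_pos ha h2]
    exact (mul_pos_iff_of_pos_left ha).1 ((mul_pos_iff_of_pos_left ha).1 h4)
  obtain ⟨V, hV, hs⟩ := ih S (by
    ext i j; simp only [hS, transpose_apply, Matrix.of_apply]; rw [hsym j.succ i.succ]; ring) hSp
  have hdS : B.det * a ^ (n + 1) = a * S.det := by
    let T : Matrix (Fin (n + 2)) (Fin (n + 2)) ℤ := Matrix.of fun i j =>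
      Fin.cases (Fin.cases 1 (fun j => -B 0 j.succ) j)
        (fun i => Fin.cases 0 (fun j => if i = j then a else 0) j) i
    have hT : T.det = a ^ (n + 1) := by
      rw [det_succ_column_zero, Fin.sum_univ_succ]
      have : T.submatrix (Fin.succAbove 0) Fin.succ = diagonal fun _ => a := by
        ext i j; simp [T, diagonal_apply]
      rw [this]; simp [T]
    have h0 : ∀ j : Fin (n + 1), (B * T) 0 j.succ = 0 := fun j => by
      simp [T, Matrix.mul_apply, Fin.sum_univ_succ (n := n + 1), ← hadef]; ring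
    have h00 : (B * T) 0 0 = a := by
      simp [T, Matrix.mul_apply, Fin.sum_univ_succ (n := n + 1), ← hadef]
    have h1 : (B * T).submatrix Fin.succ (Fin.succAbove 0) = S := by
      ext i j
      simp [T, hS, Matrix.mul_apply, Fin.sum_univ_succ (n := n + 1), hsym i.succ 0]; ring
    rw [← hT, ← det_mul, det_succ_row_zero, Fin.sum_univ_succ, h1, h00]
    simp [h0]
  set y : Fin (n + 1) → ℤ := fun i => V i 0 with hy
  set β := ∑ j, B 0 j.succ * y j with hβ
  obtain ⟨k, hk1, hk2⟩ : ∃ k : ℤ, -a ≤ 2 * (k * a + β) ∧ 2 * (k * a + β) ≤ a := by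
    refine ⟨-((2 * β + a) / (2 * a)), ?_, ?_⟩
    · have := Int.emod_nonneg (2 * β + a) (by omega : 2 * a ≠ 0)
      have h := Int.emod_add_mul_ediv (2 * β + a) (2 * a)
      nlinarith
    · have := Int.emod_lt_of_pos (2 * β + a) (by omega : 0 < 2 * a)
      have h := Int.emod_add_mul_ediv (2 * β + a) (2 * a)
      nlinarith
  let W' : Matrix (Fin (n + 2)) (Fin (n + 2)) ℤ := Matrix.of fun i j =>
    Fin.cases (Fin.cases 1 (fun _ => k) j) (fun i => Fin.cases 0 (fun j => V i j) j) i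
  have hW' : W'.det = V.det := by
    rw [det_succ_column_zero, Fin.sum_univ_succ]
    have : W'.submatrix (Fin.succAbove 0) Fin.succ = V := by
      ext i j; simp [W']
    rw [this]; simp [W']
  have hW : IsUnit (W'.submatrix id (Equiv.swap 0 (Fin.succ 0))).det := by
    rw [det_permute', hW']
    exact (Units.isUnit _).map (Int.castRingHom ℤ) |>.mul hV
  have h5 := hmin _ hW
  rw [ent] at h5
  have h6 : (fun i => (W'.submatrix id (Equiv.swap 0 (Fin.succ 0))) i 0) = Fin.cons k y := by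
    funext i
    rw [submatrix_apply, Equiv.swap_apply_left]
    refine Fin.cases ?_ (fun i => ?_) i <;> rfl
  rw [h6] at h5
  have h7 := quad B hsym k y
  rw [← hadef, ← hS, ← hβ, hy, ← ent V S] at h7
  set s := (Vᵀ * S * V) 0 0 with hsdef
  have h8 : 3 * a ^ 2 ≤ 4 * s := by nlinarith [mul_le_mul_of_nonneg_left h5 ha.le]
  have h9 : (3 * a ^ 2) ^ (n + 1) ≤ (4 * s) ^ (n + 1) := pow_le_pow_left₀ (by positivity) h8 _
  have hm : (n + 1) * (n + 1 + 1) / 2 = n * (n + 1) / 2 + (n + 1) := by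
    rw [show (n + 1) * (n + 1 + 1) = n * (n + 1) + 2 * (n + 1) by ring, Nat.add_mul_div_left _ _ two_pos]
  rw [hm]
  set m := n * (n + 1) / 2
  refine le_of_mul_le_mul_right ?_ (pow_pos ha (n + 1))
  calc a ^ (n + 1 + 1) * 3 ^ (m + (n + 1)) * a ^ (n + 1) = a * 3 ^ m * (3 * a ^ 2) ^ (n + 1) := by ring
    _ ≤ a * 3 ^ m * (4 * s) ^ (n + 1) := by gcongr
    _ = a * 4 ^ (n + 1) * (s ^ (n + 1) * 3 ^ m) := by ring
    _ ≤ a * 4 ^ (n + 1) * (4 ^ m * S.det) := by gcongr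
    _ = 4 ^ (m + (n + 1)) * (a * S.det) := by ring
    _ = _ := by rw [← hdS]; ring

end Cfsg.Agent.H43.K5Herm
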