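import Cfsg.Agent.H35.L3Defs
import Cfsg.Agent.H73.OutPSL
import Cfsg.Agent.H26.SLBasic

/-! Matrix facts on the transvections of `SL₃` in characteristic two. -/

set_option autoImplicit false

namespace Cfsg.Agent.H43.L3

open Cfsg Cfsg.Agent.H35.L3 Cfsg.Agent.H73 Matrix Matrix.SpecialLinearGroup
open scoped commutatorElement

universe v

variable {F : Type v} [Field F]

/-- the special linear group -/
abbrev S3 (F : Type v) [Field F] := SpecialLinearGroup (Fin 3) F

/-- the projective special linear group -/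
abbrev P3 (F : Type v) [Field F] := ProjectiveSpecialLinearGroup (Fin 3) F

/-- the projection -/
abbrev pr (F : Type v) [Field F] : S3 F →* P3 F := QuotientGroup.mk' (Subgroup.center (S3 F))

/-- the transvections -/
def T (i j : Fin 3) (a : F) : S3 F := if h : i ≠ j then transvection h a else 1

theorem T_eq {i j : Fin 3} (h : i ≠ j) (a : F) : T i j a = transvection h a := dif_pos h

theorem coe_T {i j : Fin 3} (h : i ≠ j) (a : F) :
    (T i j a : Matrix (Fin 3) (Fin 3) F) = 1 + single i j a := by rw [T_eq h]; rfl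

theorem st_T (two : (2 : F) = 0) : St3 (T : Fin 3 → Fin 3 → F → S3 F) where
  two := two
  add i j h a b := by simp only [T_eq h, transvection_add]
  rel i j k h1 h2 h3 a b := by
    rw [T_eq h1, T_eq h2, T_eq h3, H26.commutator_transvection]
  row i j k h1 h2 a b := Subtype.ext (by
    simp [coe_T h1, coe_T h2, mul_add, add_mul, single_mul_single_of_ne _ _ _ _ h1.symm,
      single_mul_single_of_ne _ _ _ _ h2.symm, add_right_comm])
  col i j k h1 h2 a b := Subtype.ext (by
    simp [coe_T h1, coe_T h2, mul_add, add_mul, single_mul_single_of_ne _ _ _ _ h1.symm,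
      single_mul_single_of_ne _ _ _ _ h2.symm, add_right_comm])
  inj i j h a e := (transvection_mem_center_iff h a).1 (by rw [← T_eq h, e]; exact one_mem _)

theorem T_sq (two : (2 : F) = 0) {i j : Fin 3} (h : i ≠ j) (a : F) : T i j a * T i j a = 1 := by
  rw [T_eq h, ← transvection_add, ← two_mul, two, zero_mul, transvection_coeff_zero]

theorem pelt_of_sq {G : Type*} [Group G] {g : G} (h : g * g = 1) : IsPElt 2 g :=
  ⟨1, by rw [pow_one, pow_two, h]⟩

/-- the unitriangular elements -/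
def uu {G : Type*} [Group G] (x : Fin 3 → Fin 3 → F → G) (a b c : F) : G :=
  x 0 1 a * x 1 2 b * x 0 2 c

theorem coe_uu (a b c : F) :
    ((uu T a b c : S3 F) : Matrix (Fin 3) (Fin 3) F) = !![1, a, a * b + c; 0, 1, b; 0, 0, 1] := by
  rw [uu, coe_mul, coe_mul, coe_T (by decide), coe_T (by decide), coe_T (by decide)]
  ext i j
  fin_cases i <;> fin_cases j <;> simp [mul_apply, Fin.sum_univ_three, one_apply, add_comm]

theorem pelt_uu (two : (2 : F) = 0) (a b c : F) : IsPElt 2 (uu T a b c) := by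
  have : uu T a b c * uu T a b c = T 0 2 (a * b) := Subtype.ext (by
    rw [coe_mul, coe_uu, coe_T (by decide)]
    ext i j
    fin_cases i <;> fin_cases j <;> simp [mul_apply, Fin.sum_univ_three, one_apply] <;> grind)
  exact ⟨2, by rw [pow_two, pow_mul, pow_two, pow_two, this, T_sq two (by decide)]⟩

/-- upper triangular -/
def Upper (m : GL (Fin 3) F) : Prop := m 1 0 = 0 ∧ m 2 0 = 0 ∧ m 2 1 = 0

/-- `m` conjugates `t` to `s` -/
def Cj (m : GL (Fin 3) F) (t s : S3 F) : Prop :=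
  (m : Matrix (Fin 3) (Fin 3) F) * t = s * (m : Matrix (Fin 3) (Fin 3) F)

theorem Cj.uniq {m : GL (Fin 3) F} {t s s' : S3 F} (h : Cj m t s) (h' : Cj m t s') : s = s' :=
  Subtype.ext ((Units.mul_left_inj m).1 (h.symm.trans h'))

theorem Cj.sq {m : GL (Fin 3) F} {t s : S3 F} (h : Cj m t s) (e : t * t = 1) : s * s = 1 :=
  Cj.uniq (m := m) (t := t * t) (by
    rw [Cj, coe_mul, coe_mul, ← mul_assoc, h, mul_assoc, h, mul_assoc]) (by simp [Cj, e])

theorem Cj.mul {m : GL (Fin 3) F} {t s : S3 F} (h : Cj m t s) (r : S3 F) :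
    Cj (toGL r * m) t (r * s * r⁻¹) := by
  rw [Cj, Units.val_mul, mul_assoc, h, coe_GL_coe_matrix, ← mul_assoc, ← mul_assoc, ← coe_mul,
    ← coe_mul, inv_mul_cancel_right]

theorem cj_inner (r t : S3 F) : Cj (toGL r) t (r * t * r⁻¹) := by
  simpa using Cj.mul (m := 1) (t := t) (s := t) (by simp [Cj]) r

theorem up_dec {m : GL (Fin 3) F} (h : Upper m) : ∃ a b c, ∃ d : Fin 3 → Fˣ,
    ((toGL (uu T a b c) * m : GL (Fin 3) F) : Matrix (Fin 3) (Fin 3) F) =
      diagonal fun i => (d i : F) := by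
  obtain ⟨h1, h2, h3⟩ := h
  have hd := m.det_ne_zero
  rw [det_fin_three, h1, h2, h3] at hd
  simp only [mul_zero, zero_mul, sub_zero, add_zero, mul_ne_zero_iff] at hd
  obtain ⟨⟨d0, d1⟩, d2⟩ := hd
  refine ⟨-m 0 1 / m 1 1, -m 1 2 / m 2 2, (m 0 1 * m 1 2 / m 1 1 - m 0 2) / m 2 2 -
    m 0 1 * m 1 2 / (m 1 1 * m 2 2), ![.mk0 _ d0, .mk0 _ d1, .mk0 _ d2], ?_⟩
  rw [Units.val_mul, coe_GL_coe_matrix, coe_uu]
  ext i j
  fin_cases i <;> fin_cases j <;> simp [mul_apply, Fin.sum_univ_three, h1, h2, h3] <;>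
    field_simp <;> ring

theorem cj_diag {m : GL (Fin 3) F} {d : Fin 3 → Fˣ}
    (h : (m : Matrix (Fin 3) (Fin 3) F) = diagonal fun i => (d i : F)) {i j : Fin 3} (e : i ≠ j)
    (a : F) : Cj m (T i j a) (T i j (d i * ↑(d j)⁻¹ * a)) := by
  rw [Cj, h, coe_T e, coe_T e, mul_add, add_mul, mul_one, one_mul, add_right_inj]
  ext k l
  simp only [diagonal_mul, mul_diagonal, single_apply]
  split_ifs with h'
  · obtain ⟨rfl, rfl⟩ := h'
    simp [mul_right_comm]
  · simp

theorem up_of_norm {m : GL (Fin 3) F} {a b c a' b' c' : F} (h : Cj m (T 0 1 1) (uu T a b c))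
    (h' : Cj m (T 1 2 1) (uu T a' b' c')) : Upper m := by
  rw [Cj, coe_uu, coe_T (by decide)] at h h'
  have e1 := congrFun (congrFun h 2) 1
  have e2 := congrFun (congrFun h 1) 1
  have e3 := congrFun (congrFun h' 2) 2
  simp [mul_apply, Fin.sum_univ_three, one_apply] at e1 e2 e3
  exact ⟨by linear_combination e2 + b * e3, e1, e3⟩

theorem up_of_ti {m : GL (Fin 3) F} {c c' : F} (hc : c ≠ 0) (h : Cj m (T 0 2 c) (T 0 2 c')) :
    Upper m := by
  rw [Cj, coe_T (by decide), coe_T (by decide)] at h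
  have hc' : c' ≠ 0 := fun e => by
    rw [e, single_zero, add_zero, one_mul, mul_add, mul_one, add_eq_left, Units.mul_right_eq_zero] at h
    simpa [hc] using congrFun (congrFun h 0) 2
  have e1 := congrFun (congrFun h 1) 2
  have e2 := congrFun (congrFun h 2) 2
  have e3 := congrFun (congrFun h 0) 1
  simp [mul_apply, Fin.sum_univ_three, one_apply, hc, hc'] at e1 e2 e3
  exact ⟨e1, e2, e3⟩

theorem theta_T (γ : GammaL (Fin 3) F) {i j : Fin 3} (h : i ≠ j) (a : F) :
    ∃ s, thetaPSL (Fin 3) F γ (pr F (T i j a)) = pr F s ∧ Cj γ.left (T i j (γ.right a)) s := by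
  obtain ⟨s, hs⟩ := exists_of_mem_stabAut (gammaAct_mem_stab_sl γ) (T i j a)
  refine ⟨s, ind_mk toGL_injective ⟨_, gammaAct_mem_stab_sl γ⟩ hs, ?_⟩
  have := congrArg Units.val (eq_mul_inv_iff_mul_eq.1 (hs.trans (gammaAct_apply _ _)))
  rw [Units.val_mul, Units.val_mul, coe_glMap, coe_GL_coe_matrix, coe_GL_coe_matrix, coe_T h] at this
  rw [Cj, this, coe_T h]
  congr 1
  ext k l
  simp only [map_apply, Matrix.add_apply, map_add, single_apply, one_apply]
  split_ifs <;> simp

theorem iota_T (two : (2 : F) = 0) {i j : Fin 3} (h : i ≠ j) (a : F) :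
    iotaPSL (Fin 3) F (pr F (T i j a)) = pr F (T j i a) := by
  refine ind_mk toGL_injective ⟨_, invT_mem_stab_sl⟩ (Units.ext ?_)
  rw [coe_invT, ← map_inv, inv_eq_of_mul_eq_one_right (T_sq two h a), coe_GL_coe_matrix,
    coe_GL_coe_matrix, coe_T h, coe_T h.symm, transpose_add, transpose_one, transpose_single]

/-- the antidiagonal matrix -/
def w0 (F : Type v) [Field F] : GL (Fin 3) F :=
  ⟨!![0, 0, 1; 0, 1, 0; 1, 0, 0], !![0, 0, 1; 0, 1, 0; 1, 0, 0], by simp [one_fin_three],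
    by simp [one_fin_three]⟩

theorem cj_w0 {i j : Fin 3} (h : i ≠ j) (a : F) : Cj (w0 F) (T i.rev j.rev a) (T i j a) := by
  rw [Cj, coe_T h, coe_T (Fin.rev_injective.ne h)]
  ext k l
  fin_cases i <;> fin_cases j <;> fin_cases k <;> fin_cases l <;>
    simp [w0, mul_apply, Fin.sum_univ_three, one_apply, Fin.rev]

theorem aut_T [Finite F] (two : (2 : F) = 0) (β : MulAut (P3 F)) : ∃ m ε, ∃ φ : F ≃+* F,
    ∀ i j, i ≠ j → ∀ a, ∃ s, β (pr F (T i j a)) = pr F s ∧ Cj m (fl T ε i j (φ a)) s := by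
  obtain ⟨γ, rfl | ⟨-, rfl⟩⟩ := psl_aut_cases' (by simp) β
  · exact ⟨γ.left, false, γ.right, fun i j h a => theta_T γ h a⟩
  · refine ⟨γ.left * w0 F, true, γ.right, fun i j h a => ?_⟩
    obtain ⟨s, h1, h2⟩ := theta_T γ h.symm a
    refine ⟨s, by rw [MulAut.mul_apply, iota_T two h, h1], ?_⟩
    change Cj _ (T j.rev i.rev _) _
    rw [Cj, Units.val_mul, mul_assoc, cj_w0 h.symm, ← mul_assoc, h2, mul_assoc]

end Cfsg.Agent.H43.L3
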