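import Cfsg.Agent.H43.MpJ4
import Cfsg.Agent.H43.MpJ2
import Cfsg.Agent.H43.MpHS
import Cfsg.Agent.H43.MpHe
import Cfsg.Agent.H43.MpRu
import Cfsg.Agent.H93.QTMP

/-! No strongly quasithin sporadic group is the socle of a minimal parabolic. -/

set_option autoImplicit false

namespace Cfsg.Agent.H43

open Subgroup Cfsg.Agent.H57.MPS Cfsg.Agent.H81.QT

universe u

theorem not_mp_spor {X : Type*} [Group X] [Finite X] {K : Subgroup X} {T : Sylow 2 X}
    {X₀ A : Subgroup X} (H : MP K T X₀ A) : ¬ IsSporS K := by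
  rintro (h | h | h | h | h | h | h | h | h | h | h)
  exacts [good11.congr H42.equiv11.symm H h, good12.congr H42.equiv12.symm H h,
    good22.congr H42.equiv22.symm H h, good23.congr H42.equiv23.symm H h,
    good24.congr topEquiv.symm H h, good_J1.congr topEquiv.symm H h,
    MpJ2.good.congr H47.eH0 H h, good_J4.congr topEquiv.symm H h, MpHS.good.congr HSM.equiv H h,
    MpHe.good.congr
      (exists_equiv_of_hom H44.HeM.φ H44.HeM.range_eq H44.HeM.inj).choose H h,
    MpRu.good.congr RuM.equiv H h]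

theorem mp2_spor : H93.QT.MPFor2.{u} (fun S _ => IsSporS S) :=
  fun _ _ _ _ _ _ _ H h => (not_mp_spor H h).elim

end Cfsg.Agent.H43
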