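import Cfsg.Agent.H89.OlDefs

/-!
# Groups of order dividing `9765`
-/

set_option autoImplicit false

namespace Cfsg.Agent.H43.OlGa1

open Subgroup

universe u

theorem aut_eq_one {S : Type*} [Group S] [Finite S] (hS : Nat.card S ∣ 9) {α : MulAut S} {r : ℕ}
    (hr : r.Prime) (h5 : 5 ≤ r) (hα : α ^ r = 1) : α = 1 := by
  have : Fact r.Prime := ⟨hr⟩
  have hp : IsPGroup r (zpowers α) := by
    rcases (Nat.dvd_prime hr).1 (orderOf_dvd_of_pow_eq_one hα) with e | e
    · exact IsPGroup.of_card (n := 0) (by rw [Nat.card_zpowers, e, pow_zero])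
    · exact IsPGroup.of_card (n := 1) (by rw [Nat.card_zpowers, e, pow_one])
  have h1 := hp.card_modEq_card_fixedPoints S
  have h2 : Nat.card (MulAction.fixedPoints (zpowers α) S) ∣ Nat.card S :=
    card_subgroup_dvd_card (FixedPoints.subgroup (zpowers α) S)
  have h3 : Nat.card (MulAction.fixedPoints (zpowers α) S) = Nat.card S := by
    generalize Nat.card (MulAction.fixedPoints (zpowers α) S) = f at h1 h2
    generalize Nat.card S = s at h1 h2 hS
    have h4 := (Nat.modEq_iff_dvd' (Nat.le_of_dvd (Nat.pos_of_dvd_of_pos hS (by norm_num)) h2)).1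
      h1.symm
    have hs := Nat.le_of_dvd (by norm_num) hS
    have hf := Nat.le_of_dvd (by norm_num) (h2.trans hS)
    have hf' := h2.trans hS
    by_contra hne
    have hr8 : r ≤ 8 := by
      have := Nat.le_of_dvd (Nat.pos_of_dvd_of_pos hS (by norm_num)) h2
      have h0 := Nat.pos_of_dvd_of_pos hf' (by norm_num)
      have := Nat.le_of_dvd (by omega) h4
      omega
    interval_cases r <;> interval_cases s <;> interval_cases f <;> first | omega | norm_num at hr
  have h4 : FixedPoints.subgroup (zpowers α) S = ⊤ := eq_top_of_card_eq _ h3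
  ext x
  have h5 : x ∈ FixedPoints.subgroup (zpowers α) S := h4 ▸ mem_top x
  exact h5 ⟨α, mem_zpowers α⟩

theorem exists_normal {I : Type*} [Group I] [Finite I] (K : Subgroup I) [K.Normal] {r m : ℕ}
    (hr : r.Prime) (hK : Nat.card K = r * m) (hm : ¬ r ∣ m) (hd : ∀ n, n ∣ m → n % r = 1 → n = 1) :
    ∃ σ : I, orderOf σ = r ∧ (zpowers σ).Normal := by
  have : Fact r.Prime := ⟨hr⟩
  obtain ⟨τ, hτ⟩ := exists_prime_orderOf_dvd_card' (G := K) r ⟨m, hK⟩
  have hc : Nat.card (zpowers τ) = r := by rw [Nat.card_zpowers, hτ]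
  have hi : (zpowers τ).index = m := by
    have := (zpowers τ).card_mul_index
    rw [hc, hK] at this
    exact Nat.eq_of_mul_eq_mul_left hr.pos this
  let P : Sylow r K := (IsPGroup.of_card (n := 1) (by rw [hc, pow_one])).toSylow (hi ▸ hm)
  have h1 : Nat.card (Sylow r K) = 1 :=
    hd _ (hi ▸ P.card_dvd_index) (Eq.trans (card_sylow_modEq_one r K) (Nat.mod_eq_of_lt hr.one_lt))
  have : Subsingleton (Sylow r K) := (Nat.card_eq_one_iff_unique.1 h1).1
  have h2 : (P : Subgroup K).Characteristic := P.characteristic_of_subsingleton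
  have h3 : (zpowers τ).Characteristic := h2
  refine ⟨τ, by rw [orderOf_coe, hτ], ?_⟩
  have h4 : zpowers (τ : I) = (zpowers τ).map K.subtype := (MonoidHom.map_zpowers K.subtype τ).symm
  rw [h4]
  infer_instance

theorem ga1 : H89.Ol.GA1Stmt.{u} := by
  intro I _ _ hI
  have : Fact (Nat.Prime 3) := ⟨Nat.prime_three⟩
  obtain ⟨S⟩ : Nonempty (Sylow 3 I) := inferInstance
  have hS : Nat.card S ∣ 9 := by
    obtain ⟨n, hn⟩ := S.isPGroup'.exists_card_eq
    have h1 : 3 ^ n ∣ 9 * 1085 := hn ▸ (card_subgroup_dvd_card (S : Subgroup I)).trans hI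
    rw [hn]
    exact (Nat.Coprime.pow_left n (by norm_num)).dvd_of_dvd_mul_right h1
  have hidx : (S : Subgroup I).index ∣ 1085 := by
    have h1 : (S : Subgroup I).index ∣ 3 ^ 2 * 1085 := (index_dvd_card _).trans hI
    exact (Nat.Coprime.pow_right 2 ((Nat.prime_three.coprime_iff_not_dvd.2
      S.not_dvd_index).symm)).dvd_of_dvd_mul_left h1
  have hcomm : ∀ a b : S, a * b = b * a := by
    rcases (Nat.dvd_prime_pow Nat.prime_three (m := 2)).1 hS with ⟨k, hk, e⟩
    interval_cases k
    · have : Subsingleton S := (Nat.card_eq_one_iff_unique.1 e).1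
      exact fun a b => Subsingleton.elim _ _
    · have := isCyclic_of_prime_card (p := 3) (α := S) (by simpa using e)
      exact fun a b => IsCyclic.commGroup.mul_comm a b
    · exact fun a b => (IsPGroup.commGroupOfCardEqPrimeSq e).mul_comm a b
  have hN : normalizer ((S : Subgroup I) : Set I) ≤ centralizer ((S : Subgroup I) : Set I) := by
    intro g hg
    let φ := (S : Subgroup I).normalizerMonoidHom
    have hk : (S : Subgroup I).subgroupOf (normalizer ((S : Subgroup I) : Set I)) ≤ φ.ker := by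
      rw [normalizerMonoidHom_ker]
      intro x hx
      exact fun y hy => congrArg Subtype.val (hcomm ⟨y, hy⟩ ⟨x, hx⟩)
    have h1 : Nat.card φ.range ∣ 1085 := by
      rw [← index_ker]
      exact ((index_dvd_of_le hk).trans (relIndex_dvd_index_of_le le_normalizer)).trans hidx
    have h2 : Nat.card φ.range = 1 := by
      by_contra hne
      obtain ⟨r, hr, hd⟩ := Nat.exists_prime_and_dvd hne
      have : Fact r.Prime := ⟨hr⟩
      obtain ⟨α, hα⟩ := exists_prime_orderOf_dvd_card' (G := φ.range) r hd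
      have h5 : 5 ≤ r := by
        have h6 := hd.trans h1
        by_contra h7
        have := hr.two_le
        interval_cases r <;> norm_num at h6
      have h6 := aut_eq_one hS (α := α.1) hr h5 (by
        rw [← hα, ← Subgroup.coe_pow, pow_orderOf_eq_one]; rfl)
      rw [show α = 1 from Subtype.ext h6, orderOf_one] at hα
      omega
    have h3 : φ ⟨g, hg⟩ = 1 := by
      have : Subsingleton φ.range := (Nat.card_eq_one_iff_unique.1 h2).1
      exact congrArg Subtype.val (Subsingleton.elim (⟨φ ⟨g, hg⟩, _, rfl⟩ : φ.range) 1)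
    have h4 : (⟨g, hg⟩ : normalizer ((S : Subgroup I) : Set I)) ∈ φ.ker := h3
    rwa [normalizerMonoidHom_ker] at h4
  have hc := MonoidHom.ker_transferSylow_isComplement' S hN
  set K := (MonoidHom.transferSylow S hN).ker
  have h1 : Nat.card K ∣ 1085 := by rw [← hc.index_eq_card]; exact hidx
  have h2 := hc.card_mul_card
  have h3 : Nat.card K ∈ Nat.divisors 1085 := Nat.mem_divisors.2 ⟨h1, by norm_num⟩
  have h4 : Nat.divisors 1085 = {1, 5, 7, 31, 35, 155, 217, 1085} := by decide +kernel
  rw [h4] at h3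
  have key : ∀ r m, r.Prime → Nat.card K = r * m → m ∣ 35 → m < r ∨ r = 31 →
      ∃ σ : I, orderOf σ = r ∧ (zpowers σ).Normal := fun r m hr e hm hl => by
    have h0 := Nat.pos_of_dvd_of_pos hm (by norm_num)
    refine exists_normal K hr e (fun h => ?_) fun n hn h => ?_
    · rcases hl with hl | rfl
      · exact absurd (Nat.le_of_dvd h0 h) (by omega)
      · exact absurd (h.trans hm) (by norm_num)
    · rcases hl with hl | rfl
      · rwa [Nat.mod_eq_of_lt ((Nat.le_of_dvd h0 hn).trans_lt hl)] at h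
      · have h5 := hn.trans hm
        have := Nat.le_of_dvd (by norm_num) h5
        interval_cases n <;> omega
  simp only [Finset.mem_insert, Finset.mem_singleton] at h3
  rcases h3 with e | e | e | e | e | e | e | e
  · left
    rw [← h2, e, one_mul]
    exact hS
  · obtain ⟨σ, h, h'⟩ := key 5 1 (by norm_num) e (by norm_num) (by norm_num)
    exact Or.inr ⟨σ, Or.inl h, h'⟩
  · obtain ⟨σ, h, h'⟩ := key 7 1 (by norm_num) e (by norm_num) (by norm_num)
    exact Or.inr ⟨σ, Or.inr (Or.inl h), h'⟩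
  · obtain ⟨σ, h, h'⟩ := key 31 1 (by norm_num) e (by norm_num) (by norm_num)
    exact Or.inr ⟨σ, Or.inr (Or.inr h), h'⟩
  · obtain ⟨σ, h, h'⟩ := key 7 5 (by norm_num) e (by norm_num) (by norm_num)
    exact Or.inr ⟨σ, Or.inr (Or.inl h), h'⟩
  · obtain ⟨σ, h, h'⟩ := key 31 5 (by norm_num) e (by norm_num) (by norm_num)
    exact Or.inr ⟨σ, Or.inr (Or.inr h), h'⟩
  · obtain ⟨σ, h, h'⟩ := key 31 7 (by norm_num) e (by norm_num) (by norm_num)
    exact Or.inr ⟨σ, Or.inr (Or.inr h), h'⟩
  · obtain ⟨σ, h, h'⟩ := key 31 35 (by norm_num) e (by norm_num) (by norm_num)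
    exact Or.inr ⟨σ, Or.inr (Or.inr h), h'⟩

end Cfsg.Agent.H43.OlGa1
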