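import Cfsg.Agent.H95.ParBase

/-! Lifting of the data along central extensions of exponent three. -/

set_option autoImplicit false
set_option linter.unusedSectionVars false

namespace Cfsg.Agent.H43.ParL

open Cfsg Subgroup Cfsg.Agent.H95.Par
open scoped commutatorElement

variable {X H G : Type} [Group X] [Group H] [Group G]

theorem clo_le (f : H →* G) {A : Set H} {K : Subgroup G} (h : ∀ g ∈ A, f g ∈ K) {x : H}
    (hx : x ∈ closure A) : f x ∈ K := (closure_le (K.comap f)).2 h hx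

theorem clo_map (f : H →* G) {s r x : H}
    (h : x ∈ closure {g | ∃ c, c * s = s * c ∧ g = c * r * c⁻¹}) :
    f x ∈ closure {g | ∃ c, c * f s = f s * c ∧ g = c * f r * c⁻¹} :=
  clo_le f (by
    rintro _ ⟨c, hc, rfl⟩
    exact subset_closure ⟨f c, by rw [← map_mul, hc, map_mul], by simp⟩) h

theorem map_pair (f : H →* G) (s r : H) : (closure {s, r}).map f = closure {f s, f r} := by
  rw [MonoidHom.map_closure, Set.image_pair]

/-- The image of the data in a larger group. -/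
def mapJ (f : H →* G) (hf : Function.Injective f) (D : JD H) : JD G where
  s := f D.s
  r := f D.r
  y := f D.y
  w := f D.w
  m := f D.m
  τ := f D.τ
  x1 := f D.x1
  x2 := f D.x2
  a := f D.a
  T := D.T.map f
  O := D.O.map f
  hT := D.hT.map f
  OT := map_mono D.OT
  τT := mem_map_of_mem f D.τT
  sO := mem_map_of_mem f D.sO
  rO := mem_map_of_mem f D.rO
  x1O := mem_map_of_mem f D.x1O
  x2O := mem_map_of_mem f D.x2O
  ss := by rw [← map_mul, D.ss, map_one]
  s1 := fun e => D.s1 (hf (e.trans (map_one f).symm))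
  rs := fun e => D.rs (hf e)
  ys := by simpa using congrArg f D.ys
  yr := by simpa using congrArg f D.yr
  w3 := by rw [← map_pow, D.w3]
  y3 := by rw [← map_pow, D.y3, map_one]
  hm := by simpa [← orderOf_injective f hf] using D.hm
  τc := clo_map f D.τc
  x1c := clo_map f D.x1c
  x2c := clo_map f D.x2c
  τr := by simpa using congrArg f D.τr
  c1 := by simpa using congrArg f D.c1
  c2 := by simpa using congrArg f D.c2
  c3 := by simpa using congrArg f D.c3
  c4 := by simpa [map_pair] using mem_map_of_mem f D.c4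
  os := by rintro _ ⟨o, ho, rfl⟩; simpa using congrArg f (D.os o ho)
  or := by rintro _ ⟨o, ho, rfl⟩; simpa using congrArg f (D.or o ho)
  oo := by rintro _ ⟨o, ho, rfl⟩; simpa [map_pair] using mem_map_of_mem f (D.oo o ho)
  card := (card_map_of_injective hf).trans D.card
  irr := by
    rintro _ ⟨o, ho, rfl⟩ h
    obtain ⟨n, hn, h1, h2⟩ := D.irr o ho fun e => h (map_pair f _ _ ▸ mem_map_of_mem f e)
    exact ⟨f n, map_pair f _ _ ▸ le_normalizer_map f (mem_map_of_mem f hn),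
      by simpa using mem_map_of_mem f h1, fun e => h2 (hf (by simpa using e))⟩
  as := by simpa using congrArg f D.as
  ar := by simpa using congrArg f D.ar
  fpf := by
    rintro _ ⟨o, ho, rfl⟩
    obtain ⟨o', h1, h2, h3⟩ := D.fpf o ho
    exact ⟨f o', mem_map_of_mem f h1, by simpa using mem_map_of_mem f h2,
      by simpa [map_pair] using mem_map_of_mem f h3⟩

theorem zp_map (f : H →* G) {x a : H} (h : a ∈ zpowers x) : f a ∈ zpowers (f x) :=
  f.map_zpowers x ▸ mem_map_of_mem f h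

/-- The image of the data in a larger group. -/
def mapO (f : H →* G) (hf : Function.Injective f) {x : H} (D : OD H x) : OD G (f x) where
  s := f D.s
  u := f D.u
  y := f D.y
  h := f D.h
  h' := f D.h'
  k1 := f D.k1
  k2 := f D.k2
  k3 := f D.k3
  m := f D.m
  x3 := by rw [← map_pow, D.x3, map_one]
  xu := by simpa using congrArg f D.xu
  xy := by simpa using congrArg f D.xy
  xh := by simpa using congrArg f D.xh
  xh' := by simpa using congrArg f D.xh'
  xk1 := by simpa using congrArg f D.xk1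
  xk2 := by simpa using congrArg f D.xk2
  xk3 := by simpa using congrArg f D.xk3
  uu := by simpa using congrArg f D.uu
  ss := by simpa using congrArg f D.ss
  s1 := fun e => D.s1 (hf (e.trans (map_one f).symm))
  oy := (orderOf_injective f hf _).trans D.oy
  uy := by simpa using congrArg f D.uy
  hs := by simpa using congrArg f D.hs
  h's := by simpa using congrArg f D.h's
  k1s := by simpa using congrArg f D.k1s
  k2s := by simpa using congrArg f D.k2s
  k3s := by simpa using congrArg f D.k3s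
  yc := by
    have h := (map_centralizer_le_centralizer_image {D.y} f).trans_eq (by rw [Set.image_singleton])
    exact commutator_mono h h (map_commutator _ _ f ▸ mem_map_of_mem f D.yc)
  hy := by simpa using congrArg f D.hy
  h3 := by simpa using zp_map f D.h3
  h'3 := by simpa using zp_map f D.h'3
  hh' := by simpa using zp_map f D.hh'
  e1 := by simpa using zp_map f D.e1
  e2 := by simpa using zp_map f D.e2
  e3 := by simpa using zp_map f D.e3
  uc := clo_le f (by
    rintro g ⟨h1, h2, h3⟩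
    exact subset_closure ⟨by simpa using congrArg f h1, by simpa using congrArg f h2,
      by rwa [orderOf_injective f hf]⟩) D.uc
  hm := by simpa [← orderOf_injective f hf] using D.hm

/-- order prime to three -/
def P3 (a : H) : Prop := (orderOf a).Coprime 3

theorem P3.cj {a : H} (h : P3 a) (g : H) : P3 (g * a * g⁻¹) := by
  rwa [P3, show orderOf (g * a * g⁻¹) = orderOf a from (MulAut.conj g).orderOf_eq a]

theorem p3_of {a : H} {m : ℕ} (h : a ^ m = 1) (hm : m.Coprime 3) : P3 a :=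
  hm.coprime_dvd_left (orderOf_dvd_of_pow_eq_one h)

variable [Finite H] {π : H →* X} (hs : Function.Surjective π) (hc : π.ker ≤ center H)
  (h3 : ∀ n ∈ π.ker, n ^ 3 = 1)
include hc h3

theorem ex_n {a b : H} (e : π a = π b) : ∃ n, n ^ 3 = 1 ∧ Commute a n ∧ b = a * n :=
  have k : a⁻¹ * b ∈ π.ker := by simp [MonoidHom.mem_ker, e]
  ⟨_, h3 _ k, mem_center_iff.1 (hc k) a, by group⟩

theorem uq {a b : H} (ha : P3 a) (hb : P3 b) (e : π a = π b) : a = b := by
  obtain ⟨n, n3, c, rfl⟩ := ex_n hc h3 e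
  have : (a * n) ^ (orderOf (a * n) * orderOf a) = 1 := by rw [pow_mul, pow_orderOf_eq_one, one_pow]
  rw [c.mul_pow, mul_comm (orderOf (a * n)), pow_mul, pow_orderOf_eq_one, one_pow, one_mul] at this
  rw [(pow_eq_one_iff_of_coprime (Nat.Coprime.mul_left ha hb)).1 ⟨this, n3⟩, mul_one]

theorem mem_of {K : Subgroup H} {a : H} (ha : P3 a) (h : π a ∈ K.map π) : a ∈ K := by
  obtain ⟨b, hb, e⟩ := h
  obtain ⟨n, n3, c, rfl⟩ := ex_n hc h3 e
  refine zpowers_le.2 ?_ (mem_zpowers_pow_iff.2 ha.symm)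
  rw [c.mul_pow, n3, mul_one]
  exact pow_mem hb 3

theorem com {a g : H} (ha : P3 a) (h : π g * π a = π a * π g) : g * a = a * g :=
  mul_inv_eq_iff_eq_mul.1 (uq hc h3 (ha.cj g) ha (by simp [h]))

include hs

omit hc in
theorem ex_lift {a : X} {m : ℕ} (h : a ^ m = 1) (hm : m.Coprime 3) : ∃ b, π b = a ∧ b ^ m = 1 := by
  have := Finite.of_surjective π hs
  obtain ⟨j, hj⟩ := mem_zpowers_pow_iff.2 (p3_of h hm).symm
  obtain ⟨b, rfl⟩ := hs a
  refine ⟨(b ^ 3) ^ j, by simpa using hj, ?_⟩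
  rw [← zpow_natCast _ m, ← zpow_mul, mul_comm, zpow_mul, zpow_natCast, ← pow_mul, mul_comm, pow_mul,
    h3 _ (by rw [MonoidHom.mem_ker, map_pow, h]), one_zpow]

theorem clo_lift {s r x : H} (h1 : P3 s) (h2 : P3 x)
    (h : π x ∈ closure {g | ∃ c, c * π s = π s * c ∧ g = c * π r * c⁻¹}) :
    x ∈ closure {g | ∃ c, c * s = s * c ∧ g = c * r * c⁻¹} :=
  mem_of hc h3 h2 ((closure_le _).2 (by
    rintro _ ⟨c, e, rfl⟩
    obtain ⟨c, rfl⟩ := hs c
    exact ⟨_, subset_closure ⟨c, com hc h3 h1 e, rfl⟩, by simp⟩) h)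

theorem liftJ (D : JD X) (ι : X) (hι : ι * D.y * ι⁻¹ = D.y⁻¹) : Nonempty (JD H) := by
  obtain ⟨S, hS⟩ := H8.exists_isSylowIn 2 (D.T.comap π)
  have e : D.T = S.map π := by
    have := hS.map π
    rw [map_comap_eq_self_of_surjective hs] at this
    exact this.eq_of_le D.hT le_rfl this.le
  have p : ∀ {a}, a ∈ S → P3 a := fun {a} ha => by
    simpa [P3] using hS.isPGroup.orderOf_coprime (by decide : Nat.Coprime 2 3) ⟨a, ha⟩
  have q : ∀ {a b}, a ∈ S → b ∈ S → π a = π b → a = b := fun ha hb => uq hc h3 (p ha) (p hb)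
  have l : ∀ a ∈ D.O, ∃ b ∈ S ⊓ D.O.comap π, π b = a := fun a ha =>
    let ⟨b, hb, e⟩ := e.le (D.OT ha); ⟨b, ⟨hb, show π b ∈ D.O from e ▸ ha⟩, e⟩
  have cjO : ∀ {o} g, o ∈ S ⊓ D.O.comap π → π g * π o * (π g)⁻¹ ∈ D.O →
      g * o * g⁻¹ ∈ S ⊓ D.O.comap π := fun g ho h =>
    ⟨mem_of hc h3 ((p ho.1).cj g) (e.le (D.OT (by simpa using h))), by simpa using h⟩
  obtain ⟨s, ⟨sS, sO⟩, es⟩ := l _ D.sO
  obtain ⟨r, ⟨rS, rO⟩, er⟩ := l _ D.rO
  obtain ⟨x1, ⟨x1S, x1O⟩, e1⟩ := l _ D.x1O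
  obtain ⟨x2, ⟨x2S, x2O⟩, e2⟩ := l _ D.x2O
  obtain ⟨τ, τS, eτ⟩ := e.le D.τT
  obtain ⟨w, ew⟩ := hs D.w
  obtain ⟨m, em⟩ := hs D.m
  obtain ⟨a, ea⟩ := hs D.a
  obtain ⟨ι, rfl⟩ := hs ι
  have ey : π (w ^ 3) = D.y := by rw [map_pow, ew, D.w3]
  have W : ∀ {a}, P3 a → π a ∈ closure {D.s, D.r} → a ∈ closure {s, r} := fun ha h =>
    mem_of hc h3 ha (by rwa [map_pair, es, er])
  have WS : closure {s, r} ≤ S := (closure_le _).2 (Set.pair_subset sS rS)
  have W' : ∀ {a}, a ∈ closure {s, r} → π a ∈ closure {D.s, D.r} := fun h => by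
    simpa [map_pair, es, er] using mem_map_of_mem π h
  have cm : ∀ {a b}, a ∈ S → b ∈ S → ⁅a, b⁆ ∈ S := fun ha hb =>
    S.mul_mem (S.mul_mem (S.mul_mem ha hb) (S.inv_mem ha)) (S.inv_mem hb)
  refine ⟨{
    s := s, r := r, y := w ^ 3, w := w, m := m, τ := τ, x1 := x1, x2 := x2, a := a, T := S
    O := S ⊓ D.O.comap π
    hT := hS.isPGroup, OT := inf_le_left, τT := τS, sO := ⟨sS, sO⟩, rO := ⟨rS, rO⟩
    x1O := ⟨x1S, x1O⟩, x2O := ⟨x2S, x2O⟩
    ss := q (S.mul_mem sS sS) S.one_mem (by simp [es, D.ss])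
    s1 := fun h => D.s1 (by rw [← es, h, map_one])
    rs := fun h => D.rs (by rw [← es, ← er, h])
    ys := uq hc h3 ((p sS).cj _) (p rS) (by rw [map_mul, map_mul, map_inv, ey, es, er, D.ys])
    yr := uq hc h3 ((p rS).cj _) (p (S.mul_mem rS sS))
      (by rw [map_mul, map_mul, map_inv, ey, er, D.yr, map_mul, es, er])
    w3 := rfl
    y3 := ?_
    hm := D.hm.trans_le (Nat.le_of_dvd (orderOf_pos _)
      (by simpa [es, em] using orderOf_map_dvd π (s * (m * s * m⁻¹))))
    τc := clo_lift hs hc h3 (p sS) (p τS) (by rw [es, er, eτ]; exact D.τc)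
    x1c := clo_lift hs hc h3 (p rS) (p x1S) (by rw [es, er, e1]; exact D.x1c)
    x2c := clo_lift hs hc h3 (p rS) (p x2S) (by rw [es, er, e2]; exact D.x2c)
    τr := uq hc h3 ((p rS).cj _) (p (S.mul_mem rS sS)) (by simp [es, er, eτ, D.τr])
    c1 := q (S.mul_mem (cm τS x1S) (cm τS x1S)) sS (by simp [es, eτ, e1, D.c1])
    c2 := q (S.mul_mem (cm τS x2S) (cm τS x2S)) sS (by simp [es, eτ, e2, D.c2])
    c3 := q (S.mul_mem (cm τS (S.mul_mem x1S x2S)) (cm τS (S.mul_mem x1S x2S))) sS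
      (by simp [es, eτ, e1, e2, D.c3])
    c4 := W (p (cm (cm τS x1S) x2S)) (by simpa [eτ, e1, e2] using D.c4)
    os := fun o ho => com hc h3 (p sS) (es ▸ D.os _ ho.2)
    or := fun o ho => com hc h3 (p rS) (er ▸ D.or _ ho.2)
    oo := fun o ho => W (p (S.mul_mem ho.1 ho.1)) (map_mul π o o ▸ D.oo _ ho.2)
    card := (Nat.card_congr (Equiv.ofBijective (fun o : ↥(S ⊓ D.O.comap π) => (⟨π o, o.2.2⟩ : D.O))
      ⟨fun a b h => Subtype.ext (q a.2.1 b.2.1 (congrArg Subtype.val h)), fun o =>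
        let ⟨b, hb, e⟩ := l o o.2; ⟨⟨b, hb⟩, Subtype.ext e⟩⟩)).trans D.card
    irr := fun o ho h => ?_
    as := com hc h3 (p sS) (by rw [es, ea, D.as])
    ar := com hc h3 (p rS) (by rw [er, ea, D.ar])
    fpf := fun o ho => ?_ }⟩
  · generalize w ^ 3 = y at ey
    have k : y ^ 3 ∈ π.ker := by rw [MonoidHom.mem_ker, map_pow, ey, D.y3]
    obtain ⟨n, n3, c, e⟩ := ex_n hc h3 (a := y⁻¹) (b := ι * y * ι⁻¹) (by simp [ey, hι])
    have h1 := congrArg (· ^ 3) e
    simp only [conj_pow, c.mul_pow, n3, mul_one, inv_pow] at h1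
    rw [mem_center_iff.1 (hc k) ι, mul_inv_cancel_right] at h1
    exact (pow_eq_one_iff_of_coprime (by decide : Nat.Coprime 2 3)).1
      ⟨by rw [pow_two, mul_eq_one_iff_eq_inv]; exact h1, h3 _ k⟩
  · obtain ⟨n, hn, h1, h2⟩ := D.irr _ ho.2 fun e => h (W (p ho.1) e)
    obtain ⟨n, rfl⟩ := hs n
    refine ⟨n, mem_normalizer_fintype fun v hv => W ((p (WS hv)).cj n) ?_, cjO n ho h1,
      fun e => h2 (by simpa using congrArg π e)⟩
    simpa using (mem_normalizer_iff.1 hn _).1 (W' hv)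
  · obtain ⟨o', h0, h2, h4⟩ := D.fpf _ ho.2
    obtain ⟨o', h1, rfl⟩ := l o' h0
    have := cjO a h1 (ea ▸ h2)
    exact ⟨o', h1, this, W (p (S.mul_mem (S.inv_mem (S.mul_mem this.1 (S.inv_mem h1.1))) ho.1))
      (by simpa [ea] using h4)⟩

theorem liftO {x : H} (hx : π.ker = zpowers x) (D : OD X 1) : Nonempty (OD H x) := by
  have xk : x ∈ π.ker := hx ▸ mem_zpowers x
  have xc : ∀ g, x * g = g * x := fun g => (mem_center_iff.1 (hc xk) g).symm
  have z : ∀ {a}, π a ∈ zpowers (1 : X) → a ∈ zpowers x := fun h => by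
    rwa [zpowers_one_eq_bot, mem_bot, ← MonoidHom.mem_ker, hx] at h
  obtain ⟨u, eu, u4⟩ := ex_lift hs h3 (a := D.u) (m := 4)
    (Eq.trans (by rw [← D.uu, pow_succ, pow_three]; group) D.ss) (by decide)
  obtain ⟨y, ey, y7⟩ := ex_lift hs h3 (a := D.y) (m := 7) (D.oy ▸ pow_orderOf_eq_one _) (by decide)
  obtain ⟨h, eh⟩ := hs D.h
  obtain ⟨h', eh'⟩ := hs D.h'
  obtain ⟨k1, e1⟩ := hs D.k1
  obtain ⟨k2, e2⟩ := hs D.k2
  obtain ⟨k3, e3⟩ := hs D.k3
  obtain ⟨m, em⟩ := hs D.m
  have es : π (u * u) = D.s := by rw [map_mul, eu, D.uu]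
  have ss : u * u * (u * u) = 1 := by rw [← u4, pow_succ, pow_three]; group
  have ps : P3 (u * u) := p3_of (m := 2) (by rw [pow_two, ss]) (by decide)
  have pu : P3 u := p3_of u4 (by decide)
  have py : P3 y := p3_of y7 (by decide)
  have : Fact (Nat.Prime 7) := ⟨by decide⟩
  exact ⟨{
    s := u * u, u := u, y := y, h := h, h' := h', k1 := k1, k2 := k2, k3 := k3, m := m
    x3 := h3 x xk, xu := xc _, xy := xc _, xh := xc _, xh' := xc _, xk1 := xc _, xk2 := xc _
    xk3 := xc _, uu := rfl, ss := ss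
    s1 := fun e => D.s1 (by rw [← es, e, map_one])
    oy := orderOf_eq_prime y7 fun e => by simpa [← ey, e] using D.oy
    uy := com hc h3 py (by rw [eu, ey, D.uy])
    hs := com hc h3 ps (by rw [es, eh, D.hs])
    h's := com hc h3 ps (by rw [es, eh', D.h's])
    k1s := com hc h3 ps (by rw [es, e1, D.k1s])
    k2s := com hc h3 ps (by rw [es, e2, D.k2s])
    k3s := com hc h3 ps (by rw [es, e3, D.k3s])
    yc := by
      have : centralizer {D.y} ≤ (centralizer {y}).map π := fun c e => by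
        obtain ⟨c, rfl⟩ := hs c
        exact mem_map_of_mem π (mem_centralizer_singleton_iff.2
          (com hc h3 py (ey ▸ mem_centralizer_singleton_iff.1 e)))
      exact mem_of hc h3 py (by rw [map_commutator, ey]; exact commutator_mono this this D.yc)
    hy := uq hc h3 (py.cj _) (p3_of (m := 7) (by rw [← pow_mul, mul_comm, pow_mul, y7, one_pow])
      (by decide)) (by simp [eh, ey, D.hy])
    h3 := z (by simpa only [map_pow, eh] using D.h3)
    h'3 := z (by simpa only [map_pow, eh'] using D.h'3)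
    hh' := z (by simpa only [map_commutatorElement, eh, eh'] using D.hh')
    e1 := z (by simpa only [map_mul, map_inv, eh, eh', e1] using D.e1)
    e2 := z (by simpa only [map_mul, map_inv, eh, eh', e2] using D.e2)
    e3 := z (by simpa only [map_mul, map_inv, eh, eh', e3] using D.e3)
    uc := mem_of hc h3 pu ((closure_le _).2 (by
      rintro g ⟨h1, -, h2⟩
      obtain ⟨g, rfl⟩ := hs g
      refine mem_map_of_mem π (subset_closure ⟨com hc h3 pu (eu ▸ h1), (xc g).symm,
        (h2.mul (by decide : Odd 3)).of_dvd_nat (orderOf_dvd_of_pow_eq_one ?_)⟩)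
      rw [pow_mul, h3 _ (by rw [MonoidHom.mem_ker, map_pow, pow_orderOf_eq_one])]) (eu ▸ D.uc))
    hm := D.hm.trans_le (Nat.le_of_dvd (orderOf_pos _)
      (by simpa only [map_mul π _ (m * _ * _), map_mul π (m * _), map_mul π m, map_inv, es, em]
        using orderOf_map_dvd π (u * u * (m * (u * u) * m⁻¹)))) }⟩

omit hs hc h3

/-- **JL** -/
theorem jl : JLStmt := fun _ _ _ _ _ _ _ _ f hs hc h3 hf D ι hι =>
  (liftJ hs hc h3 D ι hι).map (mapJ f hf)

/-- **OL** -/
theorem ol : OLStmt := fun _ _ _ _ _ _ _ _ f x hs hx hc x3 hf D =>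
  (liftO hs (hx ▸ zpowers_le.2 hc) (by
    rw [hx]
    rintro _ ⟨k, rfl⟩
    rw [← zpow_natCast, ← zpow_mul, mul_comm, zpow_mul, zpow_natCast, x3, one_zpow]) hx D).map
    (mapO f hf)

end Cfsg.Agent.H43.ParL
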