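import Cfsg.Agent.H58.Q4K
import Cfsg.Agent.H87.Quat

/-! Involutions of a Frobenius group with kernel of odd order. -/

set_option autoImplicit false

namespace Cfsg.Agent.H43.Q4Oa

open Subgroup Cfsg.Agent.H58.Q4

universe u

theorem oa (hF : FrStmt.{u}) : OaStmt.{u} := by
  intro G _ _ H K h hodd
  have f2 : Fact (Nat.Prime 2) := ⟨Nat.prime_two⟩
  have ho : ∀ k ∈ K, Odd (orderOf k) := fun k hk => hodd.of_dvd_nat (K.orderOf_dvd_natCard hk)
  have sq : ∀ z : G, orderOf z = 2 → z * z = 1 := fun z hz => by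
    rw [← pow_two, ← hz, pow_orderOf_eq_one]
  have h1 : ∀ z ∈ H, orderOf z = 2 → ∀ k ∈ K, z * k * z⁻¹ = k⁻¹ := by
    intro z hz h2 k hk
    have hzK : z ∉ K := fun e => by
      have := ho z e
      rw [h2] at this
      exact absurd this (by decide)
    let f : K → K := fun m => ⟨(m : G)⁻¹ * (z * m * z⁻¹), mul_mem (inv_mem m.2) (h.nrm z hz m m.2)⟩
    have hf : Function.Injective f := fun m l e => by
      have e1 : (m : G)⁻¹ * (z * m * z⁻¹) = (l : G)⁻¹ * (z * l * z⁻¹) := congrArg Subtype.val e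
      have e2 := h.fpf z hz hzK (l * (m : G)⁻¹) (mul_mem l.2 (inv_mem m.2)) (by
        show z * (l * (m : G)⁻¹) = l * (m : G)⁻¹ * z
        calc _ = l * ((l : G)⁻¹ * (z * l * z⁻¹)) * z * (m : G)⁻¹ := by group
          _ = _ := by rw [← e1]; group)
      exact Subtype.ext (mul_inv_eq_one.1 e2).symm
    obtain ⟨m, hm⟩ := Finite.surjective_of_injective hf ⟨k, hk⟩
    have e : (m : G)⁻¹ * (z * m * z⁻¹) = k := congrArg Subtype.val hm
    rw [← e]
    calc _ = z * (m : G)⁻¹ * z⁻¹ * (z * z) * m * (z * z)⁻¹ := by group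
      _ = _ := by rw [sq z h2]; group
  have h2 : ∀ z ∈ H, ∀ z' ∈ H, orderOf z = 2 → orderOf z' = 2 →
      (∃ k ∈ K, k * z * k⁻¹ = z') ∧ (Commute z z' → z = z') := by
    intro z hz z' hz' o o'
    have zi : z⁻¹ = z := inv_eq_of_mul_eq_one_right (sq z o)
    have hk : z * z' ∈ K := by
      by_contra hn
      refine h.ne_bot (eq_bot_iff.2 fun k hk => h.fpf _ (mul_mem hz hz') hn k hk ?_)
      show z * z' * k = k * (z * z')
      calc _ = z * (z' * k * z'⁻¹) * z⁻¹ * (z * z') := by group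
        _ = _ := by rw [h1 z' hz' o' k hk, h1 z hz o _ (inv_mem hk), inv_inv]
    obtain ⟨j, hj⟩ := ho _ hk
    have hp : (z * z') ^ (j + 1) * (z * z') ^ (j + 1) = z * z' := by
      rw [← pow_add, show j + 1 + (j + 1) = 2 * j + 1 + 1 by ring, ← hj, pow_succ,
        pow_orderOf_eq_one, one_mul]
    refine ⟨⟨((z * z') ^ (j + 1))⁻¹, inv_mem (pow_mem hk _), ?_⟩, fun hc => ?_⟩
    · have e := h1 z hz o _ (pow_mem hk (j + 1))
      generalize (z * z') ^ (j + 1) = m at hp e
      calc _ = z * m * z⁻¹ * z * m := by rw [e, inv_inv]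
        _ = z * (m * m) := by group
        _ = z' := by rw [hp, ← mul_assoc, sq z o, one_mul]
    · have e : z * z' * (z * z') = 1 := by
        calc _ = z * (z' * z) * z' := by group
          _ = z * z * (z' * z') := by rw [← hc.eq]; group
          _ = 1 := by rw [sq z o, sq z' o', one_mul]
      have := (Tw.of_sq e).eq_one (ho _ hk)
      rw [← zi]
      exact inv_eq_of_mul_eq_one_right this
  have hb : ∀ M : Subgroup G, M ≤ K → IsPGroup 2 M → M = ⊥ := fun M hM hp =>
    eq_bot_iff.2 fun x hx => (Tw.of_mem hp hx).eq_one (ho x (hM hx))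
  refine ⟨h1, h2, fun M hM hn hp => ?_, fun S hS hp => ?_⟩
  · rcases (hF G H K h).2.2.1 M hM hn with e | e
    · exact hb M e hp
    · exact absurd (hb K le_rfl (hp.to_le e)) h.ne_bot
  · rcases H87.isCyclic_or_quaternion_of_inv_unique hp (fun x hx y hy ox oy => by
      obtain ⟨w, hw, hw1, hw2, hw3⟩ := exists_fix_invol hp hp (fun e => by
        rw [e, mem_bot] at hx
        rw [hx, orderOf_one] at ox
        omega) le_normalizer
      have ow : orderOf w = 2 := orderOf_eq_prime (by rw [pow_two, hw2]) hw1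
      rw [(h2 x (hS hx) w (hS hw) ox ow).2 (hw3 x hx),
        (h2 y (hS hy) w (hS hw) oy ow).2 (hw3 y hy)]) with e | ⟨n, hn, e⟩
    · exact Or.inl e
    · obtain ⟨m, rfl⟩ := Nat.exists_eq_add_of_le' hn
      exact Or.inr ⟨m, e⟩

end Cfsg.Agent.H43.Q4Oa
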