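import Cfsg.Agent.H24.CyP1

/-! Project CY, chapter SP: the piece P3. -/

set_option autoImplicit false

namespace Cfsg.Agent.H43.SpP

open Subgroup Cfsg.Agent.H11.Cy Cfsg.Agent.H56.Sp Matrix

section Mat
variable {F : Type} [Field F]

abbrev M2 (F : Type) := Matrix (Fin 2) (Fin 2) F

theorem scalar {M : M2 F} (h : ∀ s : SpecialLinearGroup (Fin 2) F, M * s.1 = s.1 * M) :
    ∃ c : F, M = c • (1 : M2 F) := by
  have h1 := h ⟨!![1, 1; 0, 1], by simp [det_fin_two]⟩
  have h2 := h ⟨!![1, 0; 1, 1], by simp [det_fin_two]⟩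
  have a1 := congrFun (congrFun h1 0) 0
  have a2 := congrFun (congrFun h1 0) 1
  have a3 := congrFun (congrFun h2 0) 0
  simp [mul_apply, Fin.sum_univ_two] at a1 a2 a3
  refine ⟨M 0 0, ?_⟩
  ext i j
  fin_cases i <;> fin_cases j <;> simp [a1, a3]
  linear_combination -a2

theorem cancel {M X Y : M2 F} (h0 : M.det ≠ 0) (h : X * M = Y * M) : X = Y :=
  ((isUnit_iff_isUnit_det M).2 (isUnit_iff_ne_zero.2 h0)).mul_right_cancel h

theorem tr0 {M : M2 F} {c : F} (h : M * M = c • (1 : M2 F)) (hn : ∀ c : F, M ≠ c • (1 : M2 F)) :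
    M 1 1 = -M 0 0 := by
  by_contra t
  have t' : M 0 0 + M 1 1 ≠ 0 := fun e => t (by linear_combination e)
  have a1 := congrFun (congrFun h 0) 0
  have a2 := congrFun (congrFun h 0) 1
  have a3 := congrFun (congrFun h 1) 0
  have a4 := congrFun (congrFun h 1) 1
  simp [mul_apply, Fin.sum_univ_two] at a1 a2 a3 a4
  have b1 : M 0 1 = 0 := mul_left_cancel₀ t' (by linear_combination a2)
  have b2 : M 1 0 = 0 := mul_left_cancel₀ t' (by linear_combination a3)
  have b3 : M 1 1 = M 0 0 := mul_left_cancel₀ t' (by linear_combination a4 - a1)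
  refine hn (M 0 0) ?_
  ext i j
  fin_cases i <;> fin_cases j <;> simp [b1, b2, b3]

/-- trace zero and irreducible -/
def Ir (M : M2 F) : Prop := M 1 1 = -M 0 0 ∧ ¬ IsSquare (-M.det)

theorem Ir.c0 {M : M2 F} (h : Ir M) : M 1 0 ≠ 0 := fun e =>
  h.2 ⟨M 0 0, by rw [det_fin_two, h.1, e]; ring⟩

theorem Ir.d0 {M : M2 F} (h : Ir M) : M.det ≠ 0 := fun e => h.2 ⟨0, by simp [e]⟩

theorem Ir.det {M : M2 F} (h : Ir M) (a b : F) :
    (a • (1 : M2 F) + b • M).det = a ^ 2 + M.det * b ^ 2 := by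
  simp [det_fin_two, h.1]; ring

theorem Ir.conj [Fintype F] (ho : Fintype.card F % 2 = 1) {M N : M2 F} (h : Ir M) (k : Ir N)
    (e : M.det = N.det) : ∃ s : SpecialLinearGroup (Fin 2) F, s.1 * M = N * s.1 := by
  have c0 := h.c0
  have c1 := k.c0
  obtain ⟨a, b, hab⟩ := FiniteField.exists_root_sum_quadratic
    (f := Polynomial.X ^ 2 - Polynomial.C (M 1 0 * N 1 0)⁻¹)
    (g := Polynomial.C M.det * Polynomial.X ^ 2) (Polynomial.degree_X_pow_sub_C two_pos _)
    (Polynomial.degree_C_mul_X_pow 2 h.d0) ho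
  simp only [Polynomial.eval_sub, Polynomial.eval_pow, Polynomial.eval_X, Polynomial.eval_C,
    Polynomial.eval_mul] at hab
  have h2 : !![M 1 0, N 0 0 - M 0 0; 0, N 1 0] * M = N * !![M 1 0, N 0 0 - M 0 0; 0, N 1 0] := by
    rw [det_fin_two, det_fin_two, h.1, k.1] at e
    ext i j
    fin_cases i <;> fin_cases j <;> simp [mul_apply, Fin.sum_univ_two, h.1, k.1]
    · ring
    · linear_combination -e
    · ring
  refine ⟨⟨!![M 1 0, N 0 0 - M 0 0; 0, N 1 0] * (a • (1 : M2 F) + b • M), ?_⟩, ?_⟩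
  · rw [det_mul, h.det, show a ^ 2 + M.det * b ^ 2 = (M 1 0 * N 1 0)⁻¹ by linear_combination hab]
    simp [det_fin_two]
    field_simp
  · change _ * _ * M = N * (_ * _)
    rw [← mul_assoc N, ← h2, mul_assoc, mul_assoc]
    simp [add_mul, mul_add]

end Mat

section
variable {G : Type} [Group G] {L : Subgroup G} {F : Type} [Field F]
  (e : L ≃* SpecialLinearGroup (Fin 2) F)

def Rep (g : G) (M : M2 F) : Prop :=
  ∀ f f' : L, (f' : G) = g * f * g⁻¹ → M * (e f).1 = (e f').1 * M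

variable {e} {g h : G} {M N : M2 F}

theorem Rep.mul (hh : h ∈ normalizer (L : Set G)) (r : Rep e g M) (r' : Rep e h N) :
    Rep e (g * h) (M * N) := fun f f' hf => by
  have h1 := (mem_normalizer_iff.1 hh f).1 f.2
  rw [mul_assoc, r' f ⟨_, h1⟩ rfl, ← mul_assoc, r ⟨_, h1⟩ f' (by rw [hf]; group), mul_assoc]

theorem rep_self (l : L) : Rep e l (e l).1 := fun f f' hf => by
  have : l * f = f' * l := Subtype.ext (by simp [hf])
  exact congrArg Subtype.val (by rw [← map_mul, this, map_mul] : e l * e f = e f' * e l)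

theorem Rep.smul (r : Rep e g M) (c : F) : Rep e g (c • M) := fun f f' hf => by
  rw [smul_mul_assoc, mul_smul_comm, r f f' hf]

theorem Rep.quo (hg : g ∈ normalizer (L : Set G)) (hh : h ∈ normalizer (L : Set G))
    (r : Rep e g M) (r' : Rep e h M) (h0 : M.det ≠ 0) : g * h⁻¹ ∈ centralizer (L : Set G) :=
  fun a ha => by
    have h1 := (mem_normalizer_iff''.1 hh a).1 ha
    have h2 := (mem_normalizer_iff.1 hg _).1 h1
    have h3 := e.injective (Subtype.ext (cancel h0 ((r ⟨_, h1⟩ ⟨_, h2⟩ rfl).symm.trans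
      (r' ⟨_, h1⟩ ⟨a, ha⟩ (by simp [mul_assoc])))))
    have h4 : g * (h⁻¹ * a * h) * g⁻¹ = a := congrArg Subtype.val h3
    calc a * (g * h⁻¹) = g * (h⁻¹ * a * h) * g⁻¹ * (g * h⁻¹) := by rw [h4]
      _ = _ := by group

theorem Rep.scal (r : Rep e g M) (hg : g ∈ centralizer (L : Set G)) : ∃ c : F, M = c • (1 : M2 F) :=
  scalar fun s => by
    obtain ⟨f, rfl⟩ := e.surjective s
    exact r f f (by rw [← hg f f.2, mul_inv_cancel_right])

theorem rep_one : Rep e 1 1 := fun f f' hf => by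
  rw [show f' = f from Subtype.ext (by simpa using hf), one_mul, mul_one]

theorem Rep.sq (r : Rep e g M) {f k : G} (hf : f ∈ L) (hk : k ∈ centralizer (L : Set G))
    (hg : g = f * k) (hn : g ∈ normalizer (L : Set G)) : IsSquare M.det := by
  obtain ⟨c, hc⟩ := (Rep.mul hn (rep_self ⟨f⁻¹, inv_mem hf⟩) r).scal (by simpa [hg] using hk)
  have := congrArg det hc
  rw [det_mul, (e _).2, one_mul, det_smul, det_one, mul_one, Fintype.card_fin, pow_two] at this
  exact ⟨c, this⟩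

end

theorem p3 : P3Stmt := by
  classical
  intro G _ _ Ω _ _ p A st p2 _ x y _ _ ⟨F, _, _, e, hF, hc⟩ q2 g h hg hh fg fh
  have ho : Fintype.card F % 2 = 1 := hF ▸ Nat.odd_iff.1 (st.pp.odd_of_ne_two p2)
  have ir : ∀ {g M}, Hi A x y g → Fp A x y g → M.det ≠ 0 → Rep e g M → Ir M := fun {g M} hg fg h0 r => by
    obtain ⟨c, h1⟩ := (r.mul hg.1 r).scal hg.2.1
    refine ⟨tr0 h1 fun c k => hg.2.2 ?_, fun s => ?_⟩
    · simpa using Rep.quo hg.1 (one_mem _) r (k ▸ rep_one.smul c) h0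
    · have h2 := (q2 g hg).1 fg
      have h3 := FiniteField.isSquare_neg_one_iff (F := F)
      rw [hF] at h3
      by_cases k : p % 4 = 3
      · obtain ⟨f, hf, k', hk, e'⟩ := h2.2 k
        refine h3.1 ?_ k
        have := s.mul (r.sq hf hk e' hg.1).inv
        rwa [neg_mul, mul_inv_cancel₀ h0] at this
      · refine k (h2.1 (H24.CyP1.fk_of e hg.1 h0 r ?_))
        simpa using s.mul (h3.2 k)
  obtain ⟨M, m0, hM⟩ := hc g hg.1
  obtain ⟨N, n0, hN⟩ := hc h hh.1
  have i1 := ir hg fg m0 hM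
  have i2 := ir hh fh n0 hN
  obtain ⟨c, h1⟩ : IsSquare (-M.det * -N.det) := by
    rw [← quadraticChar_one_iff_isSquare (mul_ne_zero (neg_ne_zero.2 m0) (neg_ne_zero.2 n0)), map_mul,
      quadraticChar_neg_one_iff_not_isSquare.2 i1.2, quadraticChar_neg_one_iff_not_isSquare.2 i2.2]
    rfl
  have h2 : M.det = ((c / N.det) • N).det := by
    rw [det_smul, Fintype.card_fin]
    field_simp
    linear_combination h1
  have r2 := Rep.smul (e := e) hN (c / N.det)
  obtain ⟨s, hs⟩ := i1.conj ho (ir hh fh (h2 ▸ m0) r2) h2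
  obtain ⟨f, rfl⟩ := e.surjective s
  have fN : (f : G) ∈ Nl A x y := le_normalizer f.2
  have h3 := Rep.quo (mul_mem fN hg.1) (mul_mem hh.1 fN) (Rep.mul hg.1 (rep_self f) hM)
    (hs ▸ Rep.mul fN r2 (rep_self f)) (by rw [det_mul, (e f).2, one_mul]; exact m0)
  exact ⟨f, f.2, by simpa [mul_assoc] using h3⟩

end Cfsg.Agent.H43.SpP
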